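import Mathlib
import Cfsg.Prelude.Def_Local
import Cfsg.Agent.Lib.Cores
import Cfsg.Agent.Lib.PSolvable
import Cfsg.Agent.PLocal.PSolvable
import Cfsg.Agent.H29.Hyper
import Cfsg.Agent.H267.ThmA
import Cfsg.Agent.CharactersDeep.QuatSylow
set_option linter.all false

/-!
# Groups with cyclic Sylow `p`-subgroups and pairs of elements of order `p` (helper29)

With cyclic Sylow `p`-subgroups a finite group is `p`-solvable as soon as any two elements of order `p`
generate a `p`-solvable subgroup. The simple case is helper267's Theorem A.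
-/

set_option autoImplicit false
set_option linter.unusedSectionVars false

namespace Cfsg.Agent.H29.CyclicPairs

open Cfsg
open scoped commutatorElement

universe u

variable {G : Type u} [Group G] [Finite G] {p : ℕ} [hp : Fact p.Prime]

/-- All Sylow `p`-subgroups are cyclic. -/
def Cyc (p : ℕ) (G : Type*) [Group G] : Prop := ∀ P : Sylow p G, IsCyclic ↥(P : Subgroup G)

theorem Cyc.of_sylow (P : Sylow p G) (hP : IsCyclic ↥(P : Subgroup G)) : Cyc p G := by
  intro Q
  obtain ⟨g, rfl⟩ := MulAction.exists_smul_eq G P Q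
  exact isCyclic_of_surjective (P.equiv (g • P)) (P.equiv (g • P)).surjective

/-- `p`-subgroups are cyclic. -/
theorem Cyc.isCyclic (h : Cyc p G) (H : Subgroup G) (hH : IsPGroup p H) : IsCyclic H := by
  obtain ⟨Q, hQ⟩ := hH.exists_le_sylow
  have := h Q
  exact isCyclic_of_injective (Subgroup.inclusion hQ) (Subgroup.inclusion_injective hQ)

theorem Cyc.of_injective (h : Cyc p G) {H : Type*} [Group H] (f : H →* G)
    (hf : Function.Injective f) : Cyc p H := by
  intro Q
  have h1 : IsCyclic ((Q : Subgroup H).map f) := h.isCyclic _ (Q.2.map f)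
  exact isCyclic_of_injective ((Q : Subgroup H).equivMapOfInjective f hf).toMonoidHom
    ((Q : Subgroup H).equivMapOfInjective f hf).injective

theorem Cyc.of_surjective (h : Cyc p G) {H : Type*} [Group H] (f : G →* H)
    (hf : Function.Surjective f) : Cyc p H := by
  have : Finite H := Finite.of_surjective f hf
  intro Q
  obtain ⟨P, rfl⟩ := Sylow.mapSurjective_surjective hf p Q
  have := h P
  exact isCyclic_of_surjective (f.subgroupMap (P : Subgroup G))
    (f.subgroupMap_surjective (P : Subgroup G))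

theorem pow_of_orderOf {b : G} (hb : orderOf b = p) : b ^ p = 1 := by
  rw [← hb, pow_orderOf_eq_one]

theorem isPGroup_zpowers {b : G} (hb : b ^ p = 1) : IsPGroup p (Subgroup.zpowers b) := by
  rintro ⟨y, hy⟩
  obtain ⟨i, rfl⟩ := Subgroup.mem_zpowers_iff.1 hy
  refine ⟨1, Subtype.ext ?_⟩
  change (b ^ i) ^ p ^ 1 = 1
  rw [pow_one, ← zpow_natCast, ← zpow_mul, mul_comm, zpow_mul, zpow_natCast, hb, one_zpow]

/-- Commuting elements of order dividing `p`. -/
theorem Cyc.mem_zpowers (h : Cyc p G) {a b : G} (hab : Commute a b) (ha : a ^ p = 1)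
    (hb : orderOf b = p) : a ∈ Subgroup.zpowers b := by
  classical
  have hb1 := pow_of_orderOf hb
  have hn : Subgroup.zpowers a ≤ Subgroup.normalizer ((Subgroup.zpowers b : Subgroup G) : Set G) := by
    rw [Subgroup.zpowers_le, Subgroup.mem_normalizer_iff]
    have hc : ∀ y ∈ Subgroup.zpowers b, a * y * a⁻¹ = y := by
      intro y hy
      obtain ⟨i, rfl⟩ := Subgroup.mem_zpowers_iff.1 hy
      rw [(hab.zpow_right i).eq, mul_inv_cancel_right]
    intro y
    constructor
    · intro hy; rw [hc y hy]; exact hy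
    · intro hy
      have h1 := hc _ hy
      have h2 : y = a⁻¹ * (a * y * a⁻¹) * a := by group
      have h3 : a⁻¹ * (a * y * a⁻¹) * a = a * y * a⁻¹ := by
        obtain ⟨i, hi⟩ := Subgroup.mem_zpowers_iff.1 hy
        rw [← hi, ((hab.inv_left).zpow_right i).eq, inv_mul_cancel_right]
      rw [h2, h3]; exact hy
  have hJ : IsPGroup p (Subgroup.zpowers a ⊔ Subgroup.zpowers b : Subgroup G) :=
    (isPGroup_zpowers ha).to_sup_of_normal_right' (isPGroup_zpowers hb1) hn
  obtain ⟨Q, hQ⟩ := hJ.exists_le_sylow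
  have hQc := h Q
  have haQ : a ∈ (Q : Subgroup G) := hQ (Subgroup.mem_sup_left (Subgroup.mem_zpowers a))
  have hbQ : b ∈ (Q : Subgroup G) := hQ (Subgroup.mem_sup_right (Subgroup.mem_zpowers b))
  have : Fintype ↥(Q : Subgroup G) := Fintype.ofFinite _
  have h1 := IsCyclic.card_pow_eq_one_le (α := ↥(Q : Subgroup G)) hp.out.pos
  have h2 : (Finset.univ.filter (fun x : ↥(Q : Subgroup G) =>
      x ∈ Subgroup.zpowers (⟨b, hbQ⟩ : ↥(Q : Subgroup G)))) ⊆
      Finset.univ.filter (fun x : ↥(Q : Subgroup G) => x ^ p = 1) := by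
    intro x hx
    rw [Finset.mem_filter] at hx ⊢
    refine ⟨hx.1, ?_⟩
    obtain ⟨i, hi⟩ := Subgroup.mem_zpowers_iff.1 hx.2
    rw [← hi, ← zpow_natCast, ← zpow_mul, mul_comm, zpow_mul, zpow_natCast]
    have : (⟨b, hbQ⟩ : ↥(Q : Subgroup G)) ^ p = 1 := Subtype.ext hb1
    rw [this, one_zpow]
  have h3 : (Finset.univ.filter (fun x : ↥(Q : Subgroup G) =>
      x ∈ Subgroup.zpowers (⟨b, hbQ⟩ : ↥(Q : Subgroup G)))).card = p := by
    have h4 : Nat.card (Subgroup.zpowers (⟨b, hbQ⟩ : ↥(Q : Subgroup G))) = p := by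
      rw [Nat.card_zpowers, Subgroup.orderOf_mk, hb]
    rw [Nat.card_eq_fintype_card, Fintype.card_subtype] at h4
    exact h4
  have h5 := Finset.eq_of_subset_of_card_le h2 (by rw [h3]; exact h1)
  have h6 : (⟨a, haQ⟩ : ↥(Q : Subgroup G)) ∈ Finset.univ.filter
      (fun x : ↥(Q : Subgroup G) => x ^ p = 1) := by
    rw [Finset.mem_filter]
    exact ⟨Finset.mem_univ _, Subtype.ext ha⟩
  rw [← h5, Finset.mem_filter] at h6
  obtain ⟨i, hi⟩ := Subgroup.mem_zpowers_iff.1 h6.2
  exact Subgroup.mem_zpowers_iff.2 ⟨i, congrArg Subtype.val hi⟩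

/-- Centralizers of elements of order `p` have normal `p`-complements (`p` odd). -/
theorem Cyc.centralizer (h : Cyc p G) (hp2 : p ≠ 2) {w : G} (hw : orderOf w = p) :
    HasNormalPComplement p ↥(Subgroup.centralizer ({w} : Set G)) := by
  apply Hyper.hasNormalPComplement_of_small
  rintro D hD y hy hyp x hx (hxp | ⟨h2, -⟩)
  · have hxw : Commute (x : G) w := Subgroup.mem_centralizer_singleton_iff.1 x.2
    have h1 : (x : G) ∈ Subgroup.zpowers w :=
      h.mem_zpowers hxw (congrArg Subtype.val hxp) hw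
    obtain ⟨i, hi⟩ := Subgroup.mem_zpowers_iff.1 h1
    have hyw : Commute (y : G) w := Subgroup.mem_centralizer_singleton_iff.1 y.2
    have h2 : Commute (x : G) (y : G) := by
      rw [← hi]; exact ((hyw.zpow_right i).symm)
    exact Subtype.ext h2.eq
  · exact absurd h2 hp2

/-- `p'`-elements of `C(w)` lie in `O_{p'}(C(w))`. -/
theorem Cyc.mem_centralizerPPrimeCore (h : Cyc p G) (hp2 : p ≠ 2) {w u : G} (hw : orderOf w = p)
    (hwu : w * u = u * w) (hu : (orderOf u).Coprime p) : u ∈ centralizerPPrimeCore p w := by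
  obtain ⟨N, hN, h1, h2⟩ := Transfer.NormalPComplement.hasNormalPComplement_iff.mp
    (h.centralizer hp2 hw)
  have huC : u ∈ Subgroup.centralizer ({w} : Set G) := by
    rw [Subgroup.mem_centralizer_singleton_iff]; exact hwu.symm
  have h3 : (⟨u, huC⟩ : ↥(Subgroup.centralizer ({w} : Set G))) ∈ N := by
    rw [Transfer.NormalPComplement.mem_iff_coprime_orderOf' N h1 h2, Subgroup.orderOf_mk]
    exact hu
  exact Subgroup.mem_map.2 ⟨_, Lib.Cores.le_pPrimeCore hN h1 h3, rfl⟩

/-- A `p`-solvable group with cyclic Sylow `p`-subgroups generated by two elements of order `p`. -/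
theorem Cyc.generated (h : Cyc p G) (hs : IsPSolvable p G) {x y : G} (hx : orderOf x = p)
    (hy : orderOf y = p) (hxy : Subgroup.closure ({x, y} : Set G) = ⊤) :
    Subgroup.zpowers x ⊔ pPrimeCore p G = ⊤ := by
  set π := QuotientGroup.mk' (pPrimeCore p G) with hπ
  have hsurj : Function.Surjective π := QuotientGroup.mk'_surjective _
  have hcop := Lib.Cores.pPrimeCore_coprime (G := G) p
  have hord : ∀ z : G, orderOf z = p → orderOf (π z) = p := by
    intro z hz
    have h1 : (π z) ^ p = 1 := by rw [← map_pow, pow_of_orderOf hz, map_one]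
    refine orderOf_eq_prime h1 ?_
    intro h2
    have h3 : z ∈ pPrimeCore p G := (QuotientGroup.eq_one_iff z).1 h2
    have h4 : orderOf z ∣ Nat.card (pPrimeCore p G) := Subgroup.orderOf_dvd_natCard _ h3
    rw [hz] at h4
    exact (Nat.Prime.coprime_iff_not_dvd hp.out).1 hcop.symm h4
  have hQc : Cyc p (G ⧸ pPrimeCore p G) := h.of_surjective π hsurj
  have hQs : IsPSolvable p (G ⧸ pPrimeCore p G) := Lib.PSolvable.IsPSolvable_of_surjective p hs π hsurj
  have hQO : pPrimeCore p (G ⧸ pPrimeCore p G) = ⊥ := Lib.Cores.pPrimeCore_quotient_pPrimeCore p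
  have hC := Lib.PSolvable.centralizer_pCore_le_of_pSolvable p hQs hQO
  have hD : IsPGroup p (pCore p (G ⧸ pPrimeCore p G)) := Lib.Cores.pCore_isPGroup p
  -- elements of order `p` of the quotient lie in `O_p`
  have hne : pCore p (G ⧸ pPrimeCore p G) ≠ ⊥ := by
    intro h0
    rw [h0] at hC
    have h1 : π x ∈ Subgroup.centralizer (((⊥ : Subgroup (G ⧸ pPrimeCore p G)) : Set _)) := by
      rw [Subgroup.mem_centralizer_iff]
      intro t ht
      rw [SetLike.mem_coe, Subgroup.mem_bot] at ht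
      rw [ht, one_mul, mul_one]
    have h2 := hC h1
    rw [Subgroup.mem_bot] at h2
    have h3 := hord x hx
    rw [h2, orderOf_one] at h3
    exact hp.out.one_lt.ne h3
  obtain ⟨z, hzD, hzo⟩ : ∃ z ∈ pCore p (G ⧸ pPrimeCore p G), orderOf z = p := by
    have hnt : Nontrivial ↥(pCore p (G ⧸ pPrimeCore p G)) := (Subgroup.nontrivial_iff_ne_bot _).2 hne
    obtain ⟨n, hn0, hn⟩ := (IsPGroup.nontrivial_iff_card hD).1 hnt
    have hdvd : p ∣ Nat.card ↥(pCore p (G ⧸ pPrimeCore p G)) := by
      rw [hn]; exact dvd_pow_self p hn0.ne'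
    obtain ⟨z, hz⟩ := exists_prime_orderOf_dvd_card' p hdvd
    exact ⟨z, z.2, by rw [Subgroup.orderOf_coe]; exact hz⟩
  have hmem : ∀ t : G ⧸ pPrimeCore p G, orderOf t = p → t ∈ Subgroup.zpowers z := by
    intro t ht
    obtain ⟨R, hR⟩ := (isPGroup_zpowers (pow_of_orderOf ht)).exists_le_sylow
    have hRc := hQc R
    have htR : t ∈ (R : Subgroup (G ⧸ pPrimeCore p G)) := hR (Subgroup.mem_zpowers t)
    have hzR : z ∈ (R : Subgroup (G ⧸ pPrimeCore p G)) := Lib.Cores.pCore_le_sylow R hzD
    have hcm : Commute t z := by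
      obtain ⟨g, hg⟩ := hRc.exists_generator
      obtain ⟨i, hi⟩ := Subgroup.mem_zpowers_iff.1 (hg ⟨t, htR⟩)
      obtain ⟨j, hj⟩ := Subgroup.mem_zpowers_iff.1 (hg ⟨z, hzR⟩)
      have h1 : Commute (g ^ i) (g ^ j) := (Commute.refl g).zpow_zpow i j
      rw [hi, hj] at h1
      exact congrArg Subtype.val h1.eq
    exact hQc.mem_zpowers hcm (pow_of_orderOf ht) hzo
  have hzx : Subgroup.zpowers z ≤ Subgroup.zpowers (π x) := by
    have h1 : Subgroup.zpowers (π x) ≤ Subgroup.zpowers z := by
      rw [Subgroup.zpowers_le]; exact hmem _ (hord x hx)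
    have h2 : Subgroup.zpowers (π x) = Subgroup.zpowers z := by
      apply Subgroup.eq_of_le_of_card_ge h1
      rw [Nat.card_zpowers, Nat.card_zpowers, hzo, hord x hx]
    exact h2.ge
  have htop : Subgroup.zpowers (π x) = ⊤ := by
    have h1 : (Subgroup.closure ({x, y} : Set G)).map π ≤ Subgroup.zpowers (π x) := by
      rw [MonoidHom.map_closure, Subgroup.closure_le]
      rintro _ ⟨t, ht, rfl⟩
      rcases ht with rfl | ht
      · exact Subgroup.mem_zpowers _
      · rw [Set.mem_singleton_iff] at ht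
        rw [ht]
        exact hzx (hmem _ (hord y hy))
    rw [hxy, ← MonoidHom.range_eq_map, MonoidHom.range_eq_top.2 hsurj] at h1
    exact top_le_iff.1 h1
  rw [eq_top_iff]
  intro t _
  have h1 : π t ∈ Subgroup.zpowers (π x) := by rw [htop]; trivial
  obtain ⟨i, hi⟩ := Subgroup.mem_zpowers_iff.1 h1
  have h2 : (x ^ i)⁻¹ * t ∈ pPrimeCore p G := by
    rw [← QuotientGroup.eq_one_iff]
    have : π ((x ^ i)⁻¹ * t) = 1 := by rw [map_mul, map_inv, map_zpow, hi, inv_mul_cancel]
    exact this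
  have h3 : t = x ^ i * ((x ^ i)⁻¹ * t) := by group
  rw [h3]
  exact Subgroup.mul_mem _ (Subgroup.mem_sup_left (Subgroup.zpow_mem _ (Subgroup.mem_zpowers x) i))
    (Subgroup.mem_sup_right h2)

/-- The pairs condition. -/
def Pairs (p : ℕ) (G : Type*) [Group G] : Prop :=
  ∀ x y : G, orderOf x = p → orderOf y = p → IsPSolvable p ↥(Subgroup.closure ({x, y} : Set G))

/-- The hypothesis of Theorem A. -/
theorem hyp_of_pairs (h : Cyc p G) (hp2 : p ≠ 2) (hpair : Pairs p G) {x : G} (hx : orderOf x = p) :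
    H267.ThmA.Hyp p (Subgroup.zpowers x) := by
  have hxp := pow_of_orderOf hx
  refine ⟨?_, isPGroup_zpowers hxp, ?_⟩
  · intro a ha b hb
    obtain ⟨i, rfl⟩ := Subgroup.mem_zpowers_iff.1 ha
    obtain ⟨j, rfl⟩ := Subgroup.mem_zpowers_iff.1 hb
    exact ((Commute.refl x).zpow_zpow i j).eq
  · intro g
    set y := g * x * g⁻¹ with hy
    have hyo : orderOf y = p := by
      rw [← hx]
      exact orderOf_injective (MulAut.conj g).toMonoidHom (MulAut.conj g).injective x
    set T := Subgroup.closure ({x, y} : Set G) with hT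
    have hxT : x ∈ T := Subgroup.subset_closure (by simp)
    have hyT : y ∈ T := Subgroup.subset_closure (by simp)
    have hTs := hpair x y hx hyo
    have hTc : Cyc p T := h.of_injective T.subtype T.subtype_injective
    have hx' : orderOf (⟨x, hxT⟩ : T) = p := by rw [Subgroup.orderOf_mk]; exact hx
    have hy' : orderOf (⟨y, hyT⟩ : T) = p := by rw [Subgroup.orderOf_mk]; exact hyo
    have hgen : Subgroup.closure ({⟨x, hxT⟩, ⟨y, hyT⟩} : Set T) = ⊤ := by
      apply Subgroup.map_injective T.subtype_injective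
      rw [MonoidHom.map_closure, ← MonoidHom.range_eq_map, Subgroup.range_subtype]
      rw [Set.image_pair]
      rfl
    have htop := hTc.generated hTs hx' hy' hgen
    have hKn : (pPrimeCore p T).Normal := Lib.Cores.pPrimeCore_normal p
    have hcop := Lib.Cores.pPrimeCore_coprime (G := T) p
    refine ⟨(pPrimeCore p T).map T.subtype, ?_, ?_, ?_, ?_⟩
    · rw [Subgroup.card_map_of_injective T.subtype_injective]
      exact hcop
    · rintro w hw _ ⟨k, hk, rfl⟩
      have hwT : w ∈ T := by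
        have : Subgroup.zpowers x ≤ T := by rw [Subgroup.zpowers_le]; exact hxT
        exact this hw
      exact ⟨⟨w, hwT⟩ * k * ⟨w, hwT⟩⁻¹, hKn.conj_mem k hk _, rfl⟩
    · rintro w hw hw1 _ ⟨k, hk, rfl⟩ hwk
      have hwo : orderOf w = p := by
        obtain ⟨i, rfl⟩ := Subgroup.mem_zpowers_iff.1 hw
        refine orderOf_eq_prime ?_ hw1
        rw [← zpow_natCast, ← zpow_mul, mul_comm, zpow_mul, zpow_natCast, hxp, one_zpow]
      refine h.mem_centralizerPPrimeCore hp2 hwo hwk ?_
      have h1 : orderOf k ∣ Nat.card (pPrimeCore p T) := Subgroup.orderOf_dvd_natCard _ hk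
      have h2 : orderOf (T.subtype k) = orderOf k := Subgroup.orderOf_coe k
      rw [h2]
      exact Nat.Coprime.coprime_dvd_left h1 hcop
    · -- Sylow conjugacy in `T`
      obtain ⟨R₁, hR₁⟩ := (isPGroup_zpowers (pow_of_orderOf hx')).exists_le_sylow
      obtain ⟨R₂, hR₂⟩ := (isPGroup_zpowers (pow_of_orderOf hy')).exists_le_sylow
      obtain ⟨t, ht⟩ := MulAction.exists_smul_eq T R₂ R₁
      have h1 : t * ⟨y, hyT⟩ * t⁻¹ ∈ R₁ := by
        rw [← ht, Transfer.FrobeniusFusion.mem_smul_sylow]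
        have : t⁻¹ * (t * ⟨y, hyT⟩ * t⁻¹) * t = ⟨y, hyT⟩ := by group
        rw [this]
        exact hR₂ (Subgroup.mem_zpowers _)
      have h2 : (⟨x, hxT⟩ : T) ∈ R₁ := hR₁ (Subgroup.mem_zpowers _)
      have hR₁c := hTc R₁
      have hcm : Commute (t * ⟨y, hyT⟩ * t⁻¹) (⟨x, hxT⟩ : T) := by
        obtain ⟨g, hg⟩ := hR₁c.exists_generator
        obtain ⟨i, hi⟩ := Subgroup.mem_zpowers_iff.1 (hg ⟨_, h1⟩)
        obtain ⟨j, hj⟩ := Subgroup.mem_zpowers_iff.1 (hg ⟨_, h2⟩)
        have h1 : Commute (g ^ i) (g ^ j) := (Commute.refl g).zpow_zpow i j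
        rw [hi, hj] at h1
        exact congrArg Subtype.val h1.eq
      have h3 : t * ⟨y, hyT⟩ * t⁻¹ ∈ Subgroup.zpowers (⟨x, hxT⟩ : T) := by
        refine hTc.mem_zpowers hcm ?_ hx'
        rw [conj_pow, pow_of_orderOf hy']; group
      have h4 : t ∈ Subgroup.zpowers (⟨x, hxT⟩ : T) ⊔ pPrimeCore p T := by rw [htop]; trivial
      obtain ⟨w, hw, k, hk, rfl⟩ := Subgroup.mem_sup_of_normal_right.1 h4
      refine ⟨k, ⟨k, hk, rfl⟩, ?_⟩
      have h5 : k * ⟨y, hyT⟩ * k⁻¹ ∈ Subgroup.zpowers (⟨x, hxT⟩ : T) := by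
        have h6 : k * ⟨y, hyT⟩ * k⁻¹ = w⁻¹ * (w * k * ⟨y, hyT⟩ * (w * k)⁻¹) * w := by group
        rw [h6]
        exact Subgroup.mul_mem _ (Subgroup.mul_mem _ (Subgroup.inv_mem _ hw) h3) hw
      obtain ⟨i, hi⟩ := Subgroup.mem_zpowers_iff.1 h5
      have h7 : x ^ i = (k : G) * y * (k : G)⁻¹ := congrArg Subtype.val hi
      have h8 : ∀ w ∈ Subgroup.zpowers x, ((k : G) * g) * w * ((k : G) * g)⁻¹ ∈
          Subgroup.zpowers x := by
        intro w hw
        obtain ⟨j, rfl⟩ := Subgroup.mem_zpowers_iff.1 hw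
        have h9 : ((k : G) * g) * x ^ j * ((k : G) * g)⁻¹ = ((k : G) * y * (k : G)⁻¹) ^ j := by
          rw [conj_zpow, hy, conj_zpow]; group
        rw [h9, ← h7]
        exact Subgroup.zpow_mem _ (Subgroup.zpow_mem _ (Subgroup.mem_zpowers x) i) j
      have h10 : (Subgroup.zpowers x).map (MulAut.conj ((k : G) * g)).toMonoidHom =
          Subgroup.zpowers x := by
        apply Subgroup.eq_of_le_of_card_ge
        · rintro _ ⟨w, hw, rfl⟩
          exact h8 w hw
        · rw [Subgroup.card_map_of_injective (MulAut.conj _).injective]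
      rw [Subgroup.mem_normalizer_iff]
      intro w
      constructor
      · exact fun hw => h8 w hw
      · intro hw
        have h11 : ((k : G) * g) * w * ((k : G) * g)⁻¹ ∈
            (Subgroup.zpowers x).map (MulAut.conj ((k : G) * g)).toMonoidHom := by
          rw [h10]; exact hw
        obtain ⟨v, hv, hve⟩ := h11
        have h12 : v = w := (MulAut.conj ((k : G) * g)).injective hve
        rw [← h12]; exact hv

/-- Lifting elements of order `p` modulo a normal `p'`-subgroup. -/
theorem exists_lift (N : Subgroup G) [N.Normal] (hN : (Nat.card N).Coprime p) (q : G ⧸ N)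
    (hq : orderOf q = p) : ∃ x : G, orderOf x = p ∧ QuotientGroup.mk' N x = q := by
  obtain ⟨g, rfl⟩ := QuotientGroup.mk'_surjective N q
  obtain ⟨m', -, hm'⟩ := Nat.exists_mul_mod_eq_one_of_coprime hN hp.out.one_lt
  set m := Nat.card N with hm
  refine ⟨g ^ (m * m'), ?_, ?_⟩
  · refine orderOf_eq_prime ?_ ?_
    · have h1 : g ^ p ∈ N := by
        rw [← QuotientGroup.eq_one_iff]
        have : QuotientGroup.mk' N (g ^ p) = 1 := by rw [map_pow]; exact pow_of_orderOf hq
        exact this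
      have h2 : (g ^ p) ^ m = 1 := by
        have := pow_card_eq_one' (x := (⟨g ^ p, h1⟩ : N))
        exact congrArg Subtype.val this
      rw [← pow_mul, mul_comm, ← mul_assoc, pow_mul, pow_mul, h2, one_pow]
    · intro h1
      have h2 : (QuotientGroup.mk' N g) ^ (m * m') = 1 := by rw [← map_pow, h1, map_one]
      have h3 : p ∣ m * m' := by rw [← hq]; exact orderOf_dvd_of_pow_eq_one h2
      have h4 : m * m' % p = 0 := Nat.mod_eq_zero_of_dvd h3
      rw [hm'] at h4
      exact one_ne_zero h4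
  · rw [map_pow]
    conv_rhs => rw [← pow_one (QuotientGroup.mk' N g)]
    rw [pow_eq_pow_iff_modEq, hq]
    change m * m' % p = 1 % p
    rw [hm', Nat.mod_eq_of_lt hp.out.one_lt]

/-- If `O_p(G) ≠ 1` and the Sylow `p`-subgroups are cyclic then `G` is `p`-solvable (`p` odd). -/
theorem Cyc.of_pCore_ne_bot (h : Cyc p G) (hp2 : p ≠ 2) (hD : pCore p G ≠ ⊥) : IsPSolvable p G := by
  have hDn : (pCore p G).Normal := Lib.Cores.pCore_normal p
  have hDp : IsPGroup p (pCore p G) := Lib.Cores.pCore_isPGroup p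
  obtain ⟨z, hzD, hzo⟩ : ∃ z ∈ pCore p G, orderOf z = p := by
    have hnt : Nontrivial ↥(pCore p G) := (Subgroup.nontrivial_iff_ne_bot _).2 hD
    obtain ⟨n, hn0, hn⟩ := (IsPGroup.nontrivial_iff_card hDp).1 hnt
    have hdvd : p ∣ Nat.card ↥(pCore p G) := by
      rw [hn]; exact dvd_pow_self p hn0.ne'
    obtain ⟨z, hz⟩ := exists_prime_orderOf_dvd_card' p hdvd
    exact ⟨z, z.2, by rw [Subgroup.orderOf_coe]; exact hz⟩
  have hDc := h.isCyclic _ hDp
  have hcm : ∀ a ∈ pCore p G, ∀ b ∈ pCore p G, Commute a b := by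
    intro a ha b hb
    obtain ⟨g, hg⟩ := hDc.exists_generator
    obtain ⟨i, hi⟩ := Subgroup.mem_zpowers_iff.1 (hg ⟨a, ha⟩)
    obtain ⟨j, hj⟩ := Subgroup.mem_zpowers_iff.1 (hg ⟨b, hb⟩)
    have h1 : Commute (g ^ i) (g ^ j) := (Commute.refl g).zpow_zpow i j
    rw [hi, hj] at h1
    exact congrArg Subtype.val h1.eq
  have hz : ∀ g : G, ∃ i : ℤ, z ^ i = g * z * g⁻¹ := by
    intro g
    have h1 : g * z * g⁻¹ ∈ pCore p G := hDn.conj_mem z hzD g
    have h2 : g * z * g⁻¹ ∈ Subgroup.zpowers z := by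
      refine h.mem_zpowers (hcm _ h1 _ hzD) ?_ hzo
      rw [conj_pow, pow_of_orderOf hzo]; group
    exact Subgroup.mem_zpowers_iff.1 h2
  set C := Subgroup.centralizer ({z} : Set G) with hC
  have hCn : C.Normal := by
    constructor
    intro c hc g
    rw [hC, Subgroup.mem_centralizer_singleton_iff] at hc ⊢
    obtain ⟨i, hi⟩ := hz g⁻¹
    have h1 : g⁻¹ * z * g = z ^ i := by rw [hi, inv_inv]
    have h2 : c * (g⁻¹ * z * g) = (g⁻¹ * z * g) * c := by
      rw [h1]
      exact ((show Commute c z from hc).zpow_right i).eq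
    calc g * c * g⁻¹ * z = g * (c * (g⁻¹ * z * g)) * g⁻¹ := by group
      _ = z * (g * c * g⁻¹) := by rw [h2]; group
  have hCs : IsPSolvable p C := by
    obtain ⟨N, hN, h1, h2⟩ := Transfer.NormalPComplement.hasNormalPComplement_iff.mp
      (h.centralizer hp2 hzo)
    exact Lib.PSolvable.IsPSolvable_of_quotient p N (Or.inr h1)
      (PLocal.PSolvable.isPSolvable_of_isPGroup h2)
  have hQ : IsPSolvable p (G ⧸ C) := by
    have hcomm : ∀ a b : G ⧸ C, a * b = b * a := by
      intro a b
      obtain ⟨a, rfl⟩ := QuotientGroup.mk'_surjective C a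
      obtain ⟨b, rfl⟩ := QuotientGroup.mk'_surjective C b
      rw [← map_mul, ← map_mul, ← inv_mul_eq_one, ← map_inv, ← map_mul]
      refine (QuotientGroup.eq_one_iff _).2 ?_
      rw [hC, Subgroup.mem_centralizer_singleton_iff]
      obtain ⟨i, hi⟩ := hz a
      obtain ⟨j, hj⟩ := hz b
      have h1 : a * b * z * (a * b)⁻¹ = z ^ (i * j) := by
        have : a * b * z * (a * b)⁻¹ = a * (b * z * b⁻¹) * a⁻¹ := by group
        rw [this, ← hj, ← conj_zpow, ← hi, ← zpow_mul]
      have h2 : b * a * z * (b * a)⁻¹ = z ^ (i * j) := by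
        have : b * a * z * (b * a)⁻¹ = b * (a * z * a⁻¹) * b⁻¹ := by group
        rw [this, ← hi, ← conj_zpow, ← hj, ← zpow_mul, mul_comm]
      have h3 : b * a * z = (a * b * z * (a * b)⁻¹) * (b * a) := by
        rw [h1, ← h2]; group
      calc (a * b)⁻¹ * (b * a) * z = (a * b)⁻¹ * (b * a * z) := by group
        _ = z * ((a * b)⁻¹ * (b * a)) := by rw [h3]; group
    have : Group.IsSolvable (G ⧸ C) := Group.isSolvable_of_comm hcomm
    exact Lib.PSolvable.IsPSolvable_of_solvable p
  exact Lib.PSolvable.IsPSolvable_of_extension p C hCs hQ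

theorem Pairs.subgroup (hpair : Pairs p G) (N : Subgroup G) : Pairs p N := by
  intro x y hx hy
  have h1 := hpair (x : G) (y : G) (by rw [Subgroup.orderOf_coe]; exact hx)
    (by rw [Subgroup.orderOf_coe]; exact hy)
  have h2 : (Subgroup.closure ({x, y} : Set N)).map N.subtype =
      Subgroup.closure ({(x : G), (y : G)} : Set G) := by
    rw [MonoidHom.map_closure, Set.image_pair]; rfl
  rw [← h2] at h1
  exact Lib.PSolvable.IsPSolvable_of_injective p h1
    ((Subgroup.closure ({x, y} : Set N)).equivMapOfInjective N.subtype N.subtype_injective).toMonoidHom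
    ((Subgroup.closure ({x, y} : Set N)).equivMapOfInjective N.subtype N.subtype_injective).injective

theorem Pairs.quotient (hpair : Pairs p G) (N : Subgroup G) [N.Normal]
    (hN : (Nat.card N).Coprime p) : Pairs p (G ⧸ N) := by
  intro x' y' hx' hy'
  obtain ⟨x, hx, rfl⟩ := exists_lift N hN x' hx'
  obtain ⟨y, hy, rfl⟩ := exists_lift N hN y' hy'
  have h1 := hpair x y hx hy
  have h2 : (Subgroup.closure ({x, y} : Set G)).map (QuotientGroup.mk' N) =
      Subgroup.closure ({QuotientGroup.mk' N x, QuotientGroup.mk' N y} : Set (G ⧸ N)) := by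
    rw [MonoidHom.map_closure, Set.image_pair]
  rw [← h2]
  exact Lib.PSolvable.IsPSolvable_of_surjective p h1
    ((QuotientGroup.mk' N).subgroupMap (Subgroup.closure ({x, y} : Set G)))
    ((QuotientGroup.mk' N).subgroupMap_surjective (Subgroup.closure ({x, y} : Set G)))

/-- The odd case. -/
theorem odd_case (hp2 : p ≠ 2) : ∀ (n : ℕ) (G : Type u) [Group G] [Finite G], Nat.card G = n →
    Cyc p G → Pairs p G → IsPSolvable p G := by
  intro n
  induction n using Nat.strong_induction_on with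
  | _ n ih =>
  intro G _ _ hn h hpair
  by_cases hO : pPrimeCore p G = ⊥
  swap
  · have hcop := Lib.Cores.pPrimeCore_coprime (G := G) p
    refine Lib.PSolvable.IsPSolvable_of_quotient p (pPrimeCore p G) (Or.inr hcop) ?_
    refine ih (Nat.card (G ⧸ pPrimeCore p G)) ?_ _ rfl
      (h.of_surjective _ (QuotientGroup.mk'_surjective _)) (hpair.quotient _ hcop)
    rw [← hn, ← Subgroup.index_eq_card]
    have h1 := (pPrimeCore p G).card_mul_index
    have h2 : 1 < Nat.card (pPrimeCore p G) := Subgroup.one_lt_card_iff_ne_bot _ |>.2 hO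
    have h3 : 0 < (pPrimeCore p G).index := Nat.pos_of_ne_zero Subgroup.index_ne_zero_of_finite
    nlinarith
  by_cases hP : pCore p G = ⊥
  swap
  · exact h.of_pCore_ne_bot hp2 hP
  by_cases hdvd : p ∣ Nat.card G
  swap
  · exact PLocal.PSolvable.isPSolvable_of_coprime
      ((Nat.Prime.coprime_iff_not_dvd hp.out).2 hdvd).symm
  obtain ⟨x, hx⟩ := exists_prime_orderOf_dvd_card' p hdvd
  have hnt : Nontrivial G := by
    refine ⟨x, 1, ?_⟩
    rintro rfl
    rw [orderOf_one] at hx
    exact hp.out.one_lt.ne hx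
  have hsimple : IsSimpleGroup G := by
    refine ⟨fun N hN => ?_⟩
    by_contra hcon
    push Not at hcon
    obtain ⟨hN1, hN2⟩ := hcon
    have hNs : IsPSolvable p N := by
      refine ih (Nat.card N) ?_ N rfl (h.of_injective N.subtype N.subtype_injective)
        (hpair.subgroup N)
      rw [← hn]
      exact lt_of_le_of_ne (Subgroup.card_le_card_group N)
        fun h => hN2 (Subgroup.eq_top_of_card_eq N h)
    have hnt' : Nontrivial N := (Subgroup.nontrivial_iff_ne_bot _).2 hN1
    rcases Lib.PSolvable.exists_core_ne_bot (G := N) p hNs with h1 | h1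
    · apply h1
      have := Lib.Cores.map_subtype_pCore p hN
      rw [hP, inf_bot_eq] at this
      exact (Subgroup.map_eq_bot_iff_of_injective _ N.subtype_injective).1 this
    · apply h1
      have := Lib.Cores.map_subtype_pPrimeCore p hN
      rw [hO, inf_bot_eq] at this
      exact (Subgroup.map_eq_bot_iff_of_injective _ N.subtype_injective).1 this
  by_cases hab : ∀ a b : G, a * b = b * a
  · have : Group.IsSolvable G := Group.isSolvable_of_comm hab
    exact Lib.PSolvable.IsPSolvable_of_solvable p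
  · exfalso
    refine H267.ThmA.false_of_simple hab (hyp_of_pairs h hp2 hpair hx) ?_
    rw [Nat.card_zpowers, hx]
    have := hp.out.two_le
    omega

/-- The even case. -/
theorem even_case (P : Sylow 2 G) (hP : IsCyclic ↥(P : Subgroup G)) : IsPSolvable 2 G := by
  obtain ⟨K, hK, hKP, hKm⟩ := CharactersDeep.QuatSylow.exists_two_complement P hP
  have hKn : K.Normal := by
    constructor
    intro k hk g
    rw [hKm] at hk ⊢
    have : orderOf (g * k * g⁻¹) = orderOf k :=
      orderOf_injective (MulAut.conj g).toMonoidHom (MulAut.conj g).injective k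
    rw [this]; exact hk
  have hKc : (Nat.card K).Coprime 2 := Nat.coprime_two_right.2 hK
  refine Lib.PSolvable.IsPSolvable_of_quotient 2 K (Or.inr hKc) ?_
  apply PLocal.PSolvable.isPSolvable_of_isPGroup
  have h1 : (P : Subgroup G).map (QuotientGroup.mk' K) = ⊤ := by
    rw [eq_top_iff]
    intro q _
    obtain ⟨g, rfl⟩ := QuotientGroup.mk'_surjective K q
    have hg : g ∈ K ⊔ (P : Subgroup G) := by rw [hKP]; trivial
    obtain ⟨k, hk, s, hs, rfl⟩ := Subgroup.mem_sup_of_normal_left.1 hg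
    refine ⟨s, hs, ?_⟩
    rw [map_mul, show QuotientGroup.mk' K k = 1 from (QuotientGroup.eq_one_iff k).2 hk, one_mul]
  have h2 : IsPGroup 2 ((P : Subgroup G).map (QuotientGroup.mk' K)) := P.2.map _
  rw [h1] at h2
  exact h2.of_equiv Subgroup.topEquiv

end Cfsg.Agent.H29.CyclicPairs
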