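import Mathlib
import Cfsg.Agent.Mrg.Omega.TitsIso.Model
import Cfsg.Agent.Mrg.Omega.TitsIso.Main
import Cfsg.Agent.H348.PPD.Rows_m3
import Cfsg.Agent.S0886
import Cfsg.Agent.Omega.TwoF.TitsAut
import Cfsg.Agent.H867.TitsOut
import Cfsg.Agent.FastGrp
import Cfsg.Agent.Prune
set_option linter.all false

section
prune_inst 0x7ffdfcf8bfa8e9dfdfff7e3fa6dbcffc31858fffe6fff943bfe921bfabdf272309e56b8d8de00afe9e26c21490b87813f97eeeffe86bdc7ffffd5ff41ffbee0fe5f7b509519e88b40fbc0ff703f077886f3fffffffffffffffffffffffffffffffbffbfeffff

-- part: H29/TitsMatChk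
section
set_option linter.all false
open scoped Cfsg.Agent.FastGrp

-- part: H29/TitsMatCore
section
/-!
# Certified products of `27 × 27` matrices over the Gaussian integers

The entries `0, 1, i, -1, -i, 4, 4i, -4, -4i` are coded by `0, …, 8`; a matrix is a natural number whose
hexadecimal digit at place `27 r + s` is the code of the entry `(r, s)`. `chk a b c = true` (evaluated by the
kernel) implies `A * B = 4 C`.
-/

set_option autoImplicit false

namespace Cfsg.Agent.H29.TitsMat

/-- residue modulo `1000001` of a code -/
def rs : ℕ → ℕ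
  | 0 => 0
  | 1 => 1
  | 2 => 1000
  | 3 => 1000000
  | 4 => 999001
  | 5 => 4
  | 6 => 4000
  | 7 => 999997
  | _ => 996001

/-- hexadecimal digit -/
def nib (a k : ℕ) : ℕ := Nat.land (a >>> (4 * k)) 15

/-- packed row -/
def pk (b : ℕ) : ℕ → ℕ → ℕ
  | 0, _ => 0
  | n + 1, j => rs (nib b j) + 281474976710656 * pk b n (j + 1)

/-- packed rows -/
def rows (b : ℕ) : ℕ → ℕ → List ℕ
  | 0, _ => []
  | n + 1, j => pk b 27 j :: rows b n (j + 27)

/-- combination of packed rows -/
def comb (a : ℕ) : List ℕ → ℕ → ℕ
  | [], _ => 0
  | r :: l, k => rs (nib a k) * r + comb a l (k + 1)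

/-- comparison of the digits -/
def dig (c : ℕ) : ℕ → ℕ → ℕ → Bool
  | 0, _, _ => true
  | n + 1, acc, k => Nat.beq (acc % 281474976710656 % 1000001) ((4 * rs (nib c k)) % 1000001) &&
      dig c n (acc / 281474976710656) (k + 1)

/-- comparison of the rows -/
def chkR (a c : ℕ) (rb : List ℕ) : ℕ → ℕ → Bool
  | 0, _ => true
  | n + 1, i => dig c 27 (comb a rb i) i && chkR a c rb n (i + 27)

/-- the check of a product -/
def chk (a b c : ℕ) : Bool := chkR a c (rows b 27 0) 27 0

/-- value of a sequence of digits -/
def val : ℕ → (ℕ → ℕ) → ℕ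
  | 0, _ => 0
  | n + 1, f => f 0 + 281474976710656 * val n (fun j => f (j + 1))

theorem val_add (n : ℕ) : ∀ f g : ℕ → ℕ, val n f + val n g = val n (fun j => f j + g j) := by
  induction n with
  | zero => intro f g; rfl
  | succ n ih =>
    intro f g
    simp only [val, ← ih]
    ring

theorem mul_val (n : ℕ) (c : ℕ) : ∀ f : ℕ → ℕ, c * val n f = val n (fun j => c * f j) := by
  induction n with
  | zero => intro f; rfl
  | succ n ih =>
    intro f
    simp only [val, ← ih]
    ring

theorem val_zero (n : ℕ) : val n (fun _ => 0) = 0 := by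
  induction n with
  | zero => rfl
  | succ n ih => simp only [val, ih]

theorem pk_eq (b n : ℕ) : ∀ j, pk b n j = val n (fun t => rs (nib b (j + t))) := by
  induction n with
  | zero => intro j; rfl
  | succ n ih =>
    intro j
    simp only [pk, val, ih, add_zero]
    congr 3
    funext t
    rw [add_assoc, add_comm 1 t]

theorem comb_eq (a b n : ℕ) : ∀ j k, comb a (rows b n j) k =
    val 27 (fun s => ∑ t ∈ Finset.range n, rs (nib a (k + t)) * rs (nib b (j + 27 * t + s))) := by
  induction n with
  | zero =>
    intro j k
    simp only [rows, comb, Finset.range_zero, Finset.sum_empty]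
    exact (val_zero 27).symm
  | succ n ih =>
    intro j k
    simp only [rows, comb, ih, pk_eq, mul_val, val_add]
    congr 1
    funext s
    rw [Finset.sum_range_succ', add_comm]
    congr 1
    refine Finset.sum_congr rfl fun t _ => ?_
    rw [show k + 1 + t = k + (t + 1) by ring, show j + 27 + 27 * t + s = j + 27 * (t + 1) + s by ring]

theorem dig_spec (c n : ℕ) : ∀ (f : ℕ → ℕ) (k : ℕ), (∀ s, f s < 281474976710656) → dig c n (val n f) k = true →
    ∀ s < n, f s % 1000001 = (4 * rs (nib c (k + s))) % 1000001 := by
  induction n with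
  | zero => intro f k _ _ s hs; exact absurd hs (Nat.not_lt_zero s)
  | succ n ih =>
    intro f k hf h s hs
    have h1 : val (n + 1) f % 281474976710656 = f 0 := by
      simp only [val]
      rw [Nat.add_mul_mod_self_left, Nat.mod_eq_of_lt (hf 0)]
    have h2 : val (n + 1) f / 281474976710656 = val n (fun j => f (j + 1)) := by
      simp only [val]
      rw [Nat.add_mul_div_left _ _ (by norm_num), Nat.div_eq_of_lt (hf 0), zero_add]
    rw [dig, h1, h2, Bool.and_eq_true] at h
    obtain ⟨h3, h4⟩ := h
    rcases s with _ | s
    · exact Nat.eq_of_beq_eq_true h3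
    · have h5 := ih (fun j => f (j + 1)) (k + 1) (fun s => hf _) h4 s (by omega)
      rw [show k + (s + 1) = k + 1 + s by ring]
      exact h5

theorem rs_le (n : ℕ) : rs n ≤ 1000000 := by
  unfold rs
  split <;> norm_num

theorem row_mod (a b c i k : ℕ) (h : dig c 27 (comb a (rows b 27 0) i) k = true) :
    ∀ s < 27, (∑ t ∈ Finset.range 27, rs (nib a (i + t)) * rs (nib b (27 * t + s))) % 1000001 =
      (4 * rs (nib c (k + s))) % 1000001 := by
  rw [comb_eq] at h
  intro s hs
  have h1 := dig_spec c 27 _ k (fun s => ?_) h s hs
  · rw [← h1]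
    refine congrArg (· % 1000001) (Finset.sum_congr rfl fun t _ => ?_)
    rw [zero_add]
  · calc _ ≤ ∑ t ∈ Finset.range 27, 1000000 * 1000000 :=
          Finset.sum_le_sum fun t _ => Nat.mul_le_mul (rs_le _) (rs_le _)
      _ < 281474976710656 := by simp

/-- the Gaussian integer of a code -/
def gs : ℕ → GaussianInt
  | 0 => ⟨0, 0⟩
  | 1 => ⟨1, 0⟩
  | 2 => ⟨0, 1⟩
  | 3 => ⟨-1, 0⟩
  | 4 => ⟨0, -1⟩
  | 5 => ⟨4, 0⟩
  | 6 => ⟨0, 4⟩
  | 7 => ⟨-4, 0⟩
  | _ => ⟨0, -4⟩

theorem gs_abs (n : ℕ) : |(gs n).re| + |(gs n).im| ≤ 4 := by
  unfold gs
  split <;> simp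

/-- reduction of the Gaussian integers -/
noncomputable def psi : GaussianInt →+* ZMod 1000001 :=
  Zsqrtd.lift ⟨1000, by norm_num only []; exact (by decide +kernel : (1000000 : ZMod 1000001) = -1)⟩

theorem psi_apply (z : GaussianInt) : psi z = (z.re : ZMod 1000001) + z.im * 1000 := rfl

theorem psi_gs (n : ℕ) : psi (gs n) = (rs n : ℕ) := by
  rw [psi_apply]
  unfold gs rs
  split <;> simp <;> decide +kernel

theorem eq_zero_of_psi {z : GaussianInt} (h : psi z = 0) (h1 : |z.re| ≤ 448) (h2 : |z.im| ≤ 448) : z = 0 := by
  have h3 : ((z.re ^ 2 + z.im ^ 2 : ℤ) : ZMod 1000001) = 0 := by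
    have h4 : ((z.re : ZMod 1000001) + z.im * 1000) * ((z.re : ZMod 1000001) - z.im * 1000) = 0 := by
      rw [← psi_apply, h, zero_mul]
    have h5 : (1000000 : ZMod 1000001) = -1 := by decide +kernel
    push_cast
    linear_combination h4 + (z.im : ZMod 1000001) ^ 2 * h5
  rw [ZMod.intCast_zmod_eq_zero_iff_dvd] at h3
  have h4 := sq_le_sq' (by linarith [abs_nonneg z.re] : -448 ≤ |z.re|) h1
  have h5 := sq_le_sq' (by linarith [abs_nonneg z.im] : -448 ≤ |z.im|) h2
  rw [sq_abs] at h4 h5
  have h6 : z.re ^ 2 + z.im ^ 2 = 0 := by
    refine Int.eq_zero_of_dvd_of_nonneg_of_lt (by positivity) ?_ h3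
    norm_num
    linarith
  have h7 : z.re = 0 := by nlinarith only [h6, sq_nonneg z.im]
  have h8 : z.im = 0 := by nlinarith only [h6, sq_nonneg z.re]
  exact Zsqrtd.ext h7 h8

/-- the sup norm of a Gaussian integer, in the form of a sum -/
def nm (z : GaussianInt) : ℤ := |z.re| + |z.im|

theorem nm_add (z w : GaussianInt) : nm (z + w) ≤ nm z + nm w := by
  unfold nm
  rw [Zsqrtd.re_add, Zsqrtd.im_add]
  have := abs_add_le z.re w.re
  have := abs_add_le z.im w.im
  linarith

theorem nm_neg (z : GaussianInt) : nm (-z) = nm z := by
  unfold nm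
  rw [Zsqrtd.re_neg, Zsqrtd.im_neg, abs_neg, abs_neg]

theorem nm_mul (z w : GaussianInt) : nm (z * w) ≤ nm z * nm w := by
  unfold nm
  rw [Zsqrtd.re_mul, Zsqrtd.im_mul]
  have h1 := abs_add_le (z.re * w.re) (-1 * z.im * w.im)
  have h2 := abs_add_le (z.re * w.im) (z.im * w.re)
  rw [abs_mul, abs_mul, abs_mul, abs_neg, abs_one, one_mul] at h1
  rw [abs_mul, abs_mul] at h2
  linarith only [h1, h2]

theorem nm_sum {ι : Type*} (s : Finset ι) (f : ι → GaussianInt) : nm (∑ i ∈ s, f i) ≤ ∑ i ∈ s, nm (f i) := by
  classical
  induction s using Finset.induction_on with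
  | empty => simp [nm]
  | insert a s ha ih =>
    rw [Finset.sum_insert ha, Finset.sum_insert ha]
    exact (nm_add _ _).trans (by linarith)

theorem nm_nonneg (z : GaussianInt) : 0 ≤ nm z := add_nonneg (abs_nonneg _) (abs_nonneg _)

theorem nm_gs_mul (a b : ℕ) : nm (gs a * gs b) ≤ 16 := by
  refine (nm_mul _ _).trans ?_
  have h := mul_le_mul (gs_abs a) (gs_abs b) (nm_nonneg _) (by norm_num)
  exact h.trans (by norm_num)

theorem nm_four (a : ℕ) : nm (4 * gs a) ≤ 16 := by
  have h6 : (4 : GaussianInt) = gs 5 := rfl
  rw [h6]
  exact nm_gs_mul _ _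

theorem nm_row (f : ℕ → ℕ) (g : ℕ → ℕ) (x : ℕ) :
    nm (∑ t ∈ Finset.range 27, gs (f t) * gs (g t) - 4 * gs x) ≤ 448 := by
  rw [sub_eq_add_neg]
  refine (nm_add _ _).trans ?_
  rw [nm_neg]
  have h4 : nm (∑ t ∈ Finset.range 27, gs (f t) * gs (g t)) ≤ 432 := by
    refine (nm_sum _ _).trans ?_
    calc _ ≤ ∑ t ∈ Finset.range 27, (16 : ℤ) := Finset.sum_le_sum fun t _ => nm_gs_mul _ _
      _ = 432 := by simp
  have h5 := nm_four x
  linarith

/-- **Soundness** of the check of a row. -/
theorem row_spec (a b c i k : ℕ) (h : dig c 27 (comb a (rows b 27 0) i) k = true) (s : ℕ) (hs : s < 27) :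
    ∑ t ∈ Finset.range 27, gs (nib a (i + t)) * gs (nib b (27 * t + s)) = 4 * gs (nib c (k + s)) := by
  have h1 := row_mod a b c i k h s hs
  have h2 : ((∑ t ∈ Finset.range 27, rs (nib a (i + t)) * rs (nib b (27 * t + s)) : ℕ) : ZMod 1000001) =
      ((4 * rs (nib c (k + s)) : ℕ) : ZMod 1000001) := (ZMod.natCast_eq_natCast_iff' _ _ _).2 h1
  push_cast at h2
  simp only [← psi_gs] at h2
  have h3 := nm_row (fun t => nib a (i + t)) (fun t => nib b (27 * t + s)) (nib c (k + s))
  rw [← sub_eq_zero]
  apply eq_zero_of_psi
  · rw [map_sub, map_sum, map_mul, map_ofNat]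
    simp only [map_mul]
    rw [h2, sub_self]
  · exact le_trans (le_add_of_nonneg_right (abs_nonneg _)) h3
  · exact le_trans (le_add_of_nonneg_left (abs_nonneg _)) h3

theorem chkR_spec (a c : ℕ) (rb : List ℕ) (n : ℕ) : ∀ i, chkR a c rb n i = true →
    ∀ r < n, dig c 27 (comb a rb (i + 27 * r)) (i + 27 * r) = true := by
  induction n with
  | zero => intro i _ r hr; exact absurd hr (Nat.not_lt_zero r)
  | succ n ih =>
    intro i h r hr
    rw [chkR, Bool.and_eq_true] at h
    rcases r with _ | r
    · simpa using h.1
    · have h1 := ih (i + 27) h.2 r (by omega)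
      rwa [show i + 27 + 27 * r = i + 27 * (r + 1) by ring] at h1

/-- the matrix of a code -/
def mt (a : ℕ) : Matrix (Fin 27) (Fin 27) GaussianInt := Matrix.of fun i j => gs (nib a (27 * i + j))

/-- the row vector of a code -/
def vt (v : ℕ) : Fin 27 → GaussianInt := fun j => gs (nib v j)

/-- **Soundness** of the check of a product. -/
theorem mul_of_chk {a b c : ℕ} (h : chk a b c = true) : mt a * mt b = (4 : GaussianInt) • mt c := by
  ext1 i j
  have h1 := chkR_spec a c _ 27 0 h i i.2
  have h2 := row_spec a b c _ _ h1 j j.2
  rw [zero_add] at h2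
  rw [Matrix.mul_apply, Matrix.smul_apply, smul_eq_mul]
  unfold mt
  simp only [Matrix.of_apply]
  rw [← h2, Finset.sum_range]

/-- the check of the product of a row vector and a matrix -/
def vchk (v b w : ℕ) : Bool := dig w 27 (comb v (rows b 27 0) 0) 0

/-- **Soundness** of the check of a product with a row vector. -/
theorem vecMul_of_vchk {v b w : ℕ} (h : vchk v b w = true) :
    Matrix.vecMul (vt v) (mt b) = (4 : GaussianInt) • vt w := by
  funext j
  have h2 := row_spec v b w 0 0 h j j.2
  simp only [zero_add] at h2
  rw [Matrix.vecMul, dotProduct, Pi.smul_apply, smul_eq_mul]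
  unfold mt vt
  simp only [Matrix.of_apply]
  rw [← h2, Finset.sum_range]

end Cfsg.Agent.H29.TitsMat
end

-- part: H29/TitsMatData
section
/-!
# The `27`-dimensional representation of the Tits group: the matrices

`z 0, …, z 7` : eight central involutions of an apartment; `rr` : the rotation; `xx` : the element `y 7` of order `4` of
the automorphism group; the others are products of these.
-/

set_option autoImplicit false

namespace Cfsg.Agent.H29.TitsMat

/-- a matrix -/
def one : ℕ := 0x500000000000000000000000000050000000000000000000000000005000000000000000000000000000500000000000000000000000000050000000000000000000000000005000000000000000000000000000500000000000000000000000000050000000000000000000000000005000000000000000000000000000500000000000000000000000000050000000000000000000000000005000000000000000000000000000500000000000000000000000000050000000000000000000000000005000000000000000000000000000500000000000000000000000000050000000000000000000000000005000000000000000000000000000500000000000000000000000000050000000000000000000000000005000000000000000000000000000500000000000000000000000000050000000000000000000000000005000000000000000000000000000500000000000000000000000000050000000000000000000000000005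

/-- a matrix -/
def z0 : ℕ := 0x6000000000000000000000000000500000000000000000000000800000000000000000000000000050000000000000000000000000000000600000000000000000000000000050000000000000000000000080000000000000000000000000005000000000000000000000000000000000800000000000000000000000000050000000000000000000000000006000000000000000000000000000500000000000000000006000000000000000000000000000500000000000000000000000000080000000000000000000000000005000000000000000000000000000000070000000000000000000000000007000000000000000000000000000700000000000000000000000000070000000000000000000000000005000000000000000000000000000500000000000000000000000000070000000000000000000000000007000000000000000000000000000700000000000000000000000000070000000000000000000000000005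

/-- a matrix -/
def z1 : ℕ := 0x700000000000000000000000000070000000000000000000000000007000000000000000000000000000700000000000000000000000000070000000000000000000000000007000000000000000000000000000700000000000000000000000000070000000000000000000000000007000000000000000000000000000700000000000000000000000000070000000000000000000000000007000000000000000000000000000700000000000000000000000000070000000000000000000000000007000000000000000000000000000700000000000000000000000000050000000000000000000000000005000000000000000000000000000500000000000000000000000000050000000000000000000000000005000000000000000000000000000500000000000000000000000000050000000000000000000000000005000000000000000000000000000500000000000000000000000000050000000000000000000000000005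

/-- a matrix -/
def z2 : ℕ := 0x700000000000000000000000000070000000000000000000000000007000000000000000000000000000700000000000000000000000000070000000000000000000000000007000000000000000000000000000700000000000000000000000000070000000000000000000000000005000000000000000000000000000500000000000000000000000000050000000000000000000000000005000000000000000000000000000500000000000000000000000000050000000000000000000000000005000000000000000000000000000500000000000000000000000000070000000000000000000000000007000000000000000000000000000700000000000000000000000000070000000000000000000000000007000000000000000000000000000700000000000000000000000000070000000000000000000000000007000000000000000000000000000500000000000000000000000000050000000000000000000000000005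

/-- a matrix -/
def z3 : ℕ := 0x500000000000000000000000006000000000000000000000000080000000000000000000000000500000000000000000000000000000000500000000000000000000000000060000000000000000000000050000000000000000000000000008000000000000000000000000000007000000000000000000000000000700000000000000000000000000070000000000000000000000000007000000000000000000000000000500000000000000000000000000050000000000000000000000000007000000000000000000000000000700000000000000000000000000000800000000000000000000000000050000000000000000000000060000000000000000000000000005000000000000000000000000000000060000000000000000000000000005000000000000000000000008000000000000000000000000000500000000000000000000000000000700000000000000000000000000050000000000000000000000000007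

/-- a matrix -/
def z4 : ℕ := 0x323324430000000022341121000434413320000000033414414000323324430000000044123343000323342210000000044121121000414233340000000031214234000232433340000000013434234000232433340000000031212412000343122230000000042321341000000000000050000000000000000000000000005000000000000000000000005000000000000000000000000000500000000000000000000000000000700000000000000000000000000050000000000000000000000000000000000000500000000000000000000000000005432231320000000033234432000432213140000000033232214000321142430000000044343321000214413140000000033234432000123122410000000024323141000123144230000000024321323000412433120000000031432434000123122410000000042141323000000000000000005000000000000000000000000000000000000070000000000000000500000000000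

/-- a matrix -/
def z5 : ℕ := 0x4112140330201040200310011030340104004300424130011420203040301001200112433400110130013130110203030304003013122100112002404020032020014400303200220400214003342210113114004004402003101030012200310030330300300332132340021040203131002240100103404300104031313002204023020404300104033131004404023020202021040201313004440100103202434422230000000022122434000000000000000070000000000000100320404422003140103020301021004034422001302040301103241341002002402030020304012024002300220400400314121410412300131001101003300104021033030030440400241001111210003243140330403002013004033302003011001200331110031310110042330440304004010330024010304043003200121212100110021004032244003102040301301141111120000000011413141000100320402244001340103020103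

/-- a matrix -/
def z6 : ℕ := 0x300304011124003304043040402004121411040034030302003011023004030012342301012010101310031310330401010102001031040330024214330020024002201212100112020200302204020041020301303200211330033003304113141003003103004404040021110024333004030140203004042100340400021214103012030101421314000430030202404020021204020032100411120044002401003234410402300130104003033032030103131003101032010301324100130201033003103030034303003301141110040024004201030140302004300231240031220201004020340013013240013220030104024020101044330022130201040300102030422330044130344422323422243200000000000000000000000000000000700000201004020340013031420031440030140302004300213420013440201040300102030444110022310010302042040303044330022130411111214111312100000000000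

/-- a matrix -/
def z7 : ℕ := 0x344431231433442100000000000233342342122111400000000000233342344344333200000000000233324122144113200000000000322433433413422300000000000144233433431424100000000000433122324142131200000000000322433431231244100000000000142433213431242300000000000213122142342133400000000000342213233233444300000000000342231411433224300000000000213122144124311200000000000213144322324131200000000000413342124322113200000000000124431413233444300000000000000000000000000000000050000000000000000000000000005000000000000000000000000000700000000000000000000000000050000000000000000000007000000000000000000000000000500000000000000000000050000000000000000000000000005000000000000000000000000000700000000000000000000000000050000000000000000000000000000000007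

/-- a matrix -/
def rr : ℕ := 0x433131232131332300000000000322442341442223400000000000433113414331112300000000000211313412131332300000000000413333214111134300000000000231133212311314300000000000231111434111134300000000000342244321244243200000000000000000000000000000600000000000000000000000000050000000000000000000000070000000000000000000000000005000000000000000000000000000000000500000000000000000000000000050000000000000000000000060000000000000000000000000005000233311214133314300000000000411111212333134300000000000122244141244421400000000000233333432333134300000000000431331414331334100000000000431313234313332300000000000142442123224223400000000000213131414313332300000000000000000000000000000005000000000000000000000000000000007000000000000000000000500000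

/-- a matrix -/
def ri : ℕ := 0x232424430000000042142214000343113320000000031433321000343131140000000031431143000121331140000000031433321000321133120000000011233123000143333120000000011231341000432244230000000044122412000321111340000000011231341000412424210000000024142232000123113140000000013433343000323311120000000033233141000141111120000000033231323000341313140000000031213343000341331320000000013433343000434422230000000022122434000323333340000000033231323000000000000070000000000000000000000000005000000000000000000000008000000000000000000000000000500000000000000000000000000000000000000000500000000000000000000000000005000000000000008000000000000000000000000000500000000000000000000000500000000000000000000000000050000000000000000000000000000000000000070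

/-- a matrix -/
def xx : ℕ := 0x50000000000000000000000000006000000000000000000000000000060000000000000000000000000500000000000000000000000500000000000000000000000005000000000000000000000000500000000000000000000000000070000000000000000000000000000000000800000000000000000000000008000000000000000000000000000008000000000000000000000000080000000000000000000000000000700000000000000000000000000050000000000000000000000000008000000000000000000000000000800000000000000000000000000000007000000000000000000000000000500000000000000000000000000050000000000000000000000000005000000000000000000000600000000000000000000000000050000000000000000000000060000000000000000000000000005000000000000000000000000000000000800000000000000000000000000050000000000000000000000000008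

/-- a matrix -/
def xi : ℕ := 0x500000000000000000000000000070000000000000000000000005000000000000000000000000050000000000000000000000500000000000000000000000000080000000000000000000000000000500000000000000000000000008000000000000000000000000000000000600000000000000000000000006000000000000000000000000000006000000000000000000000000060000000000000000000000000000700000000000000000000000000050000000000000000000000000006000000000000000000000000000600000000000000000000000000000000080000000000000000000000000005000000000000000000000008000000000000000000000000000500000000000000000000070000000000000000000000000005000000000000000000000000000500000000000000000000000000050000000000000000000000000000000600000000000000000000000000050000000000000000000000000006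

/-- a matrix -/
def p0 : ℕ := 0x211313414313114100000000000144224123224441200000000000211331232113334100000000000433131234313114100000000000231111432333312100000000000413311434133132100000000000413333212333312100000000000124422143422421400000000000000000000000000000800000000000000000000000000070000000000000000000000050000000000000000000000000007000000000000000000000000000000000700000000000000000000000000070000000000000000000000080000000000000000000000000007000233311214133314300000000000411111212333134300000000000122244141244421400000000000233333432333134300000000000431331414331334100000000000431313234313332300000000000142442123224223400000000000213131414313332300000000000000000000000000000005000000000000000000000000000000007000000000000000000000500000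

/-- a matrix -/
def p1 : ℕ := 0x211313414313114100000000000144224123224441200000000000211331232113334100000000000433131234313114100000000000231111432333312100000000000413311434133132100000000000413333212333312100000000000124422143422421400000000000000000000000000000600000000000000000000000000050000000000000000000000070000000000000000000000000005000000000000000000000000000000000500000000000000000000000000050000000000000000000000060000000000000000000000000005000411133432311132100000000000233333434111312100000000000344422323422243200000000000411111214111312100000000000213113232113112300000000000213131412131114100000000000324224341442441200000000000431313232131114100000000000000000000000000000005000000000000000000000000000000007000000000000000000000500000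

/-- a matrix -/
def p2 : ℕ := 0x211313412131332300000000000144224121442223400000000000211331234331112300000000000433131232131332300000000000231111434111134300000000000413311432311314300000000000413333214111134300000000000124422141244243200000000000000000000000000000800000000000000000000000000070000000000000000000000050000000000000000000000000007000000000000000000000000000000000500000000000000000000000000050000000000000000000000080000000000000000000000000007000411133434133314300000000000233333432333134300000000000344422321244421400000000000411111212333134300000000000213113234331334100000000000213131414313332300000000000324224343224223400000000000431313234313332300000000000000000000000000000007000000000000000000000000000000007000000000000000000000700000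

/-- a matrix -/
def p3 : ℕ := 0x124422324313334100000000000413333433224221200000000000124444142113114100000000000342244144313334100000000000322424342333132100000000000144224344133312100000000000144242122333132100000000000211331413422241400000000000000000000000000070000000000000000000000000005000000000000000000000000000600000000000000000000000000050000000000000000000000000000000700000000000000000000000000050000000000000000000005000000000000000000000000000500000324224122311312100000000000142424124111132100000000000213113413422423200000000000324242344111132100000000000344444322113332300000000000344422142131334100000000000411111431442221200000000000122244322131334100000000000000000000000000000000060000000000000000000000000000005000000000000000000000005000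

/-- a matrix -/
def p4 : ℕ := 0x202040013121130010030120203040101104214420004104004304010202203143310001201001203404020033121130030010340203040110021141330002300410403303001101123110040022002403020330041141330004100230403404002204412440010033003302432213140000000011414432000214413140000000033234432000214413140000000011412214000432213140000000033232214000000000000000005000000000000000000000000000000000000070123144230000000042143141000123122410000000042141323000040130043341110002300230403303003303323330040024004403030420034412220001200120104101001103323330020042002403202020033143130010030340401010204401343130001203003203303030042432420020040410304030402201343130003401001203123122410000000024323141000000000000000000700000000000123144230000000024321323000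

/-- a matrix -/
def p5 : ℕ := 0x1213113244214243000001443322001040220200110033100402102003034032001133340202040011343310010030120401304001030304010434122100330200210300041233440300103202400103202010010100423423210301030042100323303400140104123400242002202004400201032033030030440400241001111210423123004004204010040102034024002300220400400314121410021004032244003102040301301141111120000000011413141000220013440110401001020440031010304043003200121212100110010220012300432204302002304133312000201013020032040014014010100021343240101020101440022313040012002011004031010340300320011042440042240213131412131114100000000000414100440340040320034040012040303103134310004304002302003243140330403002013004033300140204422003120301040301302003011001200331110031310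

/-- a matrix -/
def p6 : ℕ := 0x201002040320011013240031440040230203003400142310024110040230203003400124130042330104001030210044024310042110104010400403020133440033420020401033030402011440011420010304022020301022110022130104010400403020111220011240040201031030202011440033240201040300102030422330044130010320104002100413420013440201004020340013013240013220201040300102030444110022310010302042040303044330022130302001030410024042130042110030140302004300213420013440142442123224223400000000000213131414313332300000000000000000000000000000007000000000000000000000000000000007213113232113112300000000000431313234313332300000000000233311214133314300000000000411111212333134300000000000344422323422243200000000000233333432333134300000000000000000000000000000000700000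

/-- a matrix -/
def p7 : ℕ := 0x144224121442223400000000000211313412131332300000000000322424121424221200000000000322442341442223400000000000342222141222241400000000000342244321244243200000000000342222143444423200000000000231133212311314300000000000000000000000000000000000800000000000000000000000000050000000000000000000000070000000000000000000000000005000000000000000000000700000000000000000000000000050000000000000000000000060000000000000000000000000005000000000411133432311132100000000000233333434111312100000000000344422323422243200000000000411111214111312100000000000431331414331334100000000000431313234313332300000000000324224341442441200000000000431313232131114100000000000000000000000000000007000000000000000000000000000000005000000000000000000000500000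

/-- a matrix -/
def d01 : ℕ := 0x8000000000000000000000000000700000000000000000000000600000000000000000000000000070000000000000000000000000000000800000000000000000000000000070000000000000000000000060000000000000000000000000007000000000000000000000000000000000600000000000000000000000000070000000000000000000000000008000000000000000000000000000700000000000000000008000000000000000000000000000700000000000000000000000000060000000000000000000000000007000000000000000000000000000000070000000000000000000000000007000000000000000000000000000700000000000000000000000000070000000000000000000000000005000000000000000000000000000500000000000000000000000000070000000000000000000000000007000000000000000000000000000700000000000000000000000000070000000000000000000000000005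

/-- a matrix -/
def d02 : ℕ := 0x8000000000000000000000000000700000000000000000000000600000000000000000000000000070000000000000000000000000000000800000000000000000000000000070000000000000000000000060000000000000000000000000007000000000000000000000000000000000800000000000000000000000000050000000000000000000000000006000000000000000000000000000500000000000000000006000000000000000000000000000500000000000000000000000000080000000000000000000000000005000000000000000000000000000000050000000000000000000000000005000000000000000000000000000500000000000000000000000000050000000000000000000000000007000000000000000000000000000700000000000000000000000000050000000000000000000000000005000000000000000000000000000700000000000000000000000000070000000000000000000000000005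

/-- a matrix -/
def e1 : ℕ := 0x50000000000000000000000000500000000000000000000000000000800000000000000000000000006000000000000000000000000000060000000000000000000000000008000000000000000000000000000800000000000000000000000000060000000000000000000000000000000800000000000000000000000000050000000000000000000000000008000000000000000000000000000700000000000000000008000000000000000000000000000700000000000000000000000000060000000000000000000000000007000000000000000000000000000000000600000000000000000000000000070000000000000000000000080000000000000000000000000007000000000000000000000000000000060000000000000000000000000005000000000000000000000006000000000000000000000000000700000000000000000000000000000500000000000000000000000000070000000000000000000000000007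

/-- a matrix -/
def e2 : ℕ := 0x500000000000000000000000000050000000000000000000000000005000000000000000000000000000500000000000000000000000000070000000000000000000000000007000000000000000000000000000700000000000000000000000000070000000000000000000000000007000000000000000000000000000700000000000000000000000000050000000000000000000000000005000000000000000000000000000700000000000000000000000000070000000000000000000000000005000000000000000000000000000500000000000000000000000000050000000000000000000000000005000000000000000000000000000500000000000000000000000000050000000000000000000000000007000000000000000000000000000700000000000000000000000000070000000000000000000000000007000000000000000000000000000500000000000000000000000000050000000000000000000000000005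

/-- a matrix -/
def f1 : ℕ := 0x434431140000000011234414000323342210000000044121121000212213320000000011234414000434413320000000033414414000343144410000000042323123000343122230000000042321341000343122230000000024143123000232433340000000013434234000000000000000600000000000000000000000000050000000000000000000000000000000000000600000000000000000000000000005000000000060000000000000000000000000005000000000000000000000008000000000000000000000000000500000000000000000214413140000000011412214000214431320000000011414432000143324210000000022121143000432231320000000011412214000123122410000000024323141000123144230000000024321323000234211340000000013214212000341344230000000024323141000000000000000007000000000000000000000000000000000000050000000000000000500000000000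

/-- a matrix -/
def f2 : ℕ := 0x214422230000000013213343000143333340000000024322232000214444410000000013211121000432244410000000013213343000232442430000000033411323000414242430000000033413141000414224210000000033411323000121313140000000022342434000000000000070000000000000000000000000005000000000000000000000000000008000000000000000000000000000500000000000000000000000000000000000700000000000000000000000000005000000000000500000000000000000000000000050000000000000234242210000000011413123000412442210000000011411341000123131140000000022124234000234224430000000011411341000434444230000000013433321000434422410000000031213321000141111340000000042322214000212244230000000031213321000000000006000000000000000000000000000000000000000000050000000000500000000000000000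

/-- a matrix -/
def f4 : ℕ := 0x234233340000000044121143000341322230000000011234432000234233340000000022343321000234211120000000022341143000321124430000000013434212000143324430000000031214212000143324430000000013432434000214413320000000024141323000000000000000006000000000000000000000000000500000000000000000000000800000000000000000000000000050000000000000000000008000000000000000000000000000500000000000000000000000000000000000000000700000000000000000000000000005121322410000000011414414000121344230000000011412232000414233120000000022123343000343144230000000011414414000212231320000000042143123000212213140000000042141341000141142430000000013212412000212231320000000024321341000000000000080000000000000000000000000000000000000000050000000000005000000000000000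

/-- a matrix -/
def d12 : ℕ := 0x500000000000000000000000000050000000000000000000000000005000000000000000000000000000500000000000000000000000000050000000000000000000000000005000000000000000000000000000500000000000000000000000000050000000000000000000000000007000000000000000000000000000700000000000000000000000000070000000000000000000000000007000000000000000000000000000700000000000000000000000000070000000000000000000000000007000000000000000000000000000700000000000000000000000000070000000000000000000000000007000000000000000000000000000700000000000000000000000000070000000000000000000000000007000000000000000000000000000700000000000000000000000000070000000000000000000000000007000000000000000000000000000500000000000000000000000000050000000000000000000000000005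

/-- a matrix -/
def c1 : ℕ := 0x500000000000000000000000000050000000000000000000000000005000000000000000000000000000500000000000000000000000000070000000000000000000000000007000000000000000000000000000700000000000000000000000000070000000000000000000000000005000000000000000000000000000500000000000000000000000000070000000000000000000000000007000000000000000000000000000500000000000000000000000000050000000000000000000000000007000000000000000000000000000700000000000000000000000000070000000000000000000000000007000000000000000000000000000700000000000000000000000000070000000000000000000000000005000000000000000000000000000500000000000000000000000000050000000000000000000000000005000000000000000000000000000500000000000000000000000000050000000000000000000000000005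

/-- a matrix -/
def g1 : ℕ := 0x323324430000000022341121000434413320000000033414414000323324430000000044123343000323342210000000044121121000232411120000000013432412000414211120000000031212412000414211120000000013434234000121344410000000024143123000000000000050000000000000000000000000005000000000000000000000007000000000000000000000000000700000000000000000000000000000700000000000000000000000000050000000000000000000000000000000000000700000000000000000000000000007214413140000000011412214000214431320000000011414432000143324210000000022121143000432231320000000011412214000123122410000000024323141000123144230000000024321323000412433120000000031432434000123122410000000042141323000000000000000005000000000000000000000000000000000000070000000000000000500000000000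

/-- a matrix -/
def d34 : ℕ := 0x323342210000000044121121000434431140000000011234414000323342210000000022343343000323324430000000022341121000232433340000000031212412000414233340000000013432412000414233340000000031214234000121322230000000042323123000000000000070000000000000000000000000007000000000000000000000007000000000000000000000000000700000000000000000000000000000700000000000000000000000000050000000000000000000000000000000000000700000000000000000000000000007214431320000000033232214000214413140000000033234432000143342430000000044341143000432213140000000033232214000123144230000000042143141000123122410000000042141323000412411340000000013212434000123144230000000024321323000000000000000007000000000000000000000000000000000000070000000000000000700000000000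

/-- a matrix -/
def j1 : ℕ := 0x141142210000000044123343000212231140000000011232232000141142210000000022341121000141124430000000022343343000232411120000000013432412000414211120000000031212412000414211120000000013434234000121344410000000024143123000000000000070000000000000000000000000007000000000000000000000007000000000000000000000000000700000000000000000000000000000500000000000000000000000000070000000000000000000000000000000000000700000000000000000000000000007432231320000000033234432000432213140000000033232214000321142430000000044343321000214413140000000033234432000123122410000000024323141000123144230000000024321323000412433120000000031432434000123122410000000042141323000000000000000005000000000000000000000000000000000000070000000000000000500000000000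

/-- a matrix -/
def j2 : ℕ := 0x5000000000000000000000000000600000000000000000000000500000000000000000000000000080000000000000000000000000000000060000000000000000000000000500000000000000000000000005000000000000000000000000080000000000000000000000000000005000000000000000000000000000500000000000000000000000000050000000000000000000000000005000000000000000000000000000500000000000000000000000000050000000000000000000000000007000000000000000000000000000700000000000000000000000000000050000000000000000000000000800000000000000000000000006000000000000000000000000050000000000000000000000000000000007000000000000000000000000080000000000000000000000000600000000000000000000000007000000000000000000000000000000700000000000000000000000000050000000000000000000000000007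

/-- a matrix -/
def d23 : ℕ := 0x700000000000000000000000008000000000000000000000000060000000000000000000000000700000000000000000000000000000000700000000000000000000000000080000000000000000000000070000000000000000000000000006000000000000000000000000000007000000000000000000000000000700000000000000000000000000070000000000000000000000000007000000000000000000000000000500000000000000000000000000050000000000000000000000000007000000000000000000000000000700000000000000000000000000000600000000000000000000000000070000000000000000000000080000000000000000000000000007000000000000000000000000000000080000000000000000000000000007000000000000000000000006000000000000000000000000000700000000000000000000000000000700000000000000000000000000050000000000000000000000000007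

/-- a matrix -/
def c2 : ℕ := 0x60000000000000000000000000800000000000000000000000000000700000000000000000000000007000000000000000000000000000007000000000000000000000000070000000000000000000000000000080000000000000000000000000600000000000000000000000000007000000000000000000000000000700000000000000000000000000070000000000000000000000000007000000000000000000000000000500000000000000000000000000050000000000000000000000000005000000000000000000000000000500000000000000000000000000007000000000000000000000000070000000000000000000000000000080000000000000000000000000600000000000000000000000000000500000000000000000000000005000000000000000000000000000008000000000000000000000000060000000000000000000000000000500000000000000000000000000050000000000000000000000000005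

/-- a matrix -/
def l1 : ℕ := 0x600000000000000000000000005000000000000000000000000070000000000000000000000000600000000000000000000000000000000070000000000000000000000000800000000000000000000000008000000000000000000000000050000000000000000000000000000000000600000000000000000000000000070000000000000000000000000008000000000000000000000000000700000000000000000006000000000000000000000000000500000000000000000000000000080000000000000000000000000005000000000000000000000000000000005000000000000000000000000050000000000000000000000000000060000000000000000000000000800000000000000000000000000000500000000000000000000000005000000000000000000000000000006000000000000000000000000080000000000000000000000000000700000000000000000000000000070000000000000000000000000005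

/-- a matrix -/
def v1 : ℕ := 0x70000000000000000000000000008000000000000000000000000000080000000000000000000000000700000000000000000000000700000000000000000000000007000000000000000000000000700000000000000000000000000050000000000000000000000000000000000600000000000000000000000006000000000000000000000000000006000000000000000000000000060000000000000000000000000000500000000000000000000000000070000000000000000000000000006000000000000000000000000000600000000000000000000000000000007000000000000000000000000000500000000000000000000000000050000000000000000000000000005000000000000000000000600000000000000000000000000050000000000000000000000060000000000000000000000000005000000000000000000000000000000000800000000000000000000000000050000000000000000000000000008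

/-- a matrix -/
def v2 : ℕ := 0x70000000000000000000000000008000000000000000000000000000080000000000000000000000000700000000000000000000000700000000000000000000000007000000000000000000000000700000000000000000000000000050000000000000000000000000000000000800000000000000000000000008000000000000000000000000000008000000000000000000000000080000000000000000000000000000700000000000000000000000000050000000000000000000000000008000000000000000000000000000800000000000000000000000000000005000000000000000000000000000700000000000000000000000000070000000000000000000000000007000000000000000000000800000000000000000000000000070000000000000000000000080000000000000000000000000007000000000000000000000000000000000800000000000000000000000000050000000000000000000000000008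

/-- a matrix -/
def v4 : ℕ := 0x414233340000000031214234000343144410000000024141341000414233340000000013432412000232433340000000031212412000323342210000000044121121000323324430000000044123343000323324430000000022341121000212231140000000011232232000000000000008000000000000000000000000080000000000000000000000000800000000000000000000000008000000000000000000000000000000500000000000000000000000000050000000000000000000000000000000000000800000000000000000000000000008341344230000000042141323000123144230000000024321323000412433120000000031432434000123122410000000042141323000432213140000000011414432000214413140000000033234432000143342430000000044341143000432213140000000033232214000000000000000008000000000000000000000000000000000000070000000000000000800000000000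

/-- a matrix -/
def v5 : ℕ := 0x122100112002404020032020014100404300330100321004413320300420040440400400443243410113114004004402003101030012130013130110203030304003013203040301001200112433400110004112140330201040200310011010120302002100242310033240200403024242001103012010303014030102424001130400402303014030104242003330400402101200403022424003303012010101212244410000000044344212000000000000000070000000000000400210303311002430402010204014003023311004201030204402001421320110201004031002011302003011001200331110031310110042330440304004010330024010304043003200121212100110123400242002202004400201032033030030440400241001111210312412003003103040030401023024002300220400400314121410014003021133002401030204204141111120000000011413141000400210301133004230402010402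

/-- a matrix -/
def a1 : ℕ := 0x431322323211444300000000000324233434344113200000000000324233432122331400000000000324211214322111400000000000413342341231424100000000000231142341213422300000000000124431232324133400000000000413342343413242300000000000411124341213244100000000000122213234124131200000000000211322141411442100000000000211344323211222100000000000122213232342313400000000000122231414142133400000000000322411432144111400000000000433144321411442100000000000000000000000000000008000000000000000000000000000500000000000000000000000000000500000000000000000000000000050000000000000000000000080000000000000000000000000005000000000000000000000800000000000000000000000000050000000000000000000000080000000000000000000000000005000000000000000000000000000000000005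

/-- a matrix -/
def b1 : ℕ := 0x233324122144113200000000000344413411411444300000000000122231231411444300000000000344431231433442100000000000433122324142131200000000000433144142342311200000000000322433433413422300000000000433122322324313400000000000324211431213424100000000000431344324124311200000000000124431411411222100000000000124413233211442100000000000213122144124311200000000000213144322324131200000000000231124342144331400000000000342213231411222100000000000000000000000000000000000600000000000000000000000000050000000000000000000000060000000000000000000000000005000000000000000000060000000000000000000000000005000000000000000000000000000006000000000000000000000000000500000000000000000000000500000000000000000000000000050000000000000000000000000000000005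

/-- a matrix -/
def a2 : ℕ := 0x431322321433222100000000000324233432122331400000000000324233434344113200000000000324211212144333200000000000231124121231424100000000000413324121213422300000000000342213412324133400000000000231124123413242300000000000411124343431422300000000000122213232342313400000000000433144321411442100000000000433122143211222100000000000122213234124131200000000000122231412324311200000000000144233212144111400000000000211322141411442100000000000000000000000000000008000000000000000000000000000500000000000000000000000000000700000000000000000000000000070000000000000000000000060000000000000000000000000007000000000000000000000600000000000000000000000000070000000000000000000000060000000000000000000000000007000000000000000000000000000000000005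

/-- a matrix -/
def a3 : ℕ := 0x600000000000000000000000005000000000000000000000000050000000000000000000000000800000000000000000000000000000000070000000000000000000000000800000000000000000000000006000000000000000000000000070000000000000000000000000000000000080000000000000000000000000500000000000000000000000000000500000000000000000000000006000000000000000000000500000000000000000000000006000000000000000000000000000008000000000000000000000000050000000000000000000000000000000050000000000000000000000000005000000000000000000000000000700000000000000000000000000070000000000000000000000000007000000000000000000000000000700000000000000000000000000070000000000000000000000000007000000000000000000000000000700000000000000000000000000070000000000000000000000000005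

/-- a matrix -/
def v0 : ℕ := 0x600000000000000000000000000060000000000000000000000006000000000000000000000000080000000000000000000000050000000000000000000000000800000000000000000000000000006000000000000000000000000000700000000000000000000000000000000000080000000000000000000000000700000000000000000000000000000800000000000000000000000005000000000000000000008000000000000000000000000000500000000000000000000000000070000000000000000000000000008000000000000000000000000000000000007000000000000000000000000000500000000000000000000000000070000000000000000000000000007000000000000000000000800000000000000000000000000070000000000000000000000080000000000000000000000000007000000000000000000000000000000000600000000000000000000000000070000000000000000000000000008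

/-- a matrix -/
def b2 : ℕ := 0x101030044421310002302002302010202201114240030010340403030404401114240010030120403202040013314240003403003201010240014241330010031001102202002204223110001200120102101001101334220004100410203010240012423110010031001304101003301312220004100230401010220032441110010033003102202020031114420003401001201010204401132240030010120201030440012441110030011001102404002202423330003400120102020301104421130040020230104404040011114420001203003201000000000000006000000000000000000000000000000000000070123144230000000042143141000123122410000000042141323000143342430000000044341143000432213140000000033232214000234233120000000031434212000123144230000000024321323000321142430000000044343321000214413140000000033234432000000000000000000500000000000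

/-- a matrix -/
def b3 : ℕ := 0x301030023112130020020210302001223340404100130302003013110024240110401030104001033040330043400412410030320401344300334004202040014040032032003040032143440100101202034030302213004410400404103422232000403013020014040034300320400012344130200402101121200420340020140034020032101003101200141110010340401420024334003020210102001011112241003010300440012040012300102012424004240100301402001443232010023040203002024010202201114240010030120201433122143211222100000000000000000000000000007000000000031001204001014000313221140400310010310100300133243140042020020204403000333441340400301202030030100442312230100420020420200400422132430031001204001014000131443320300204101020020400113423340013030030301104000222334230433144321411442100000000000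

/-- a matrix -/
def v6 : ℕ := 0x40330024214330020024002201323200223030300403301030012224212004004204001101010032020301303200211330033003304310031310330401010102001031023004030012342301012010101300304011124003304043040402002343233020012010104001033400230300014143402041020404440013222003020430102003031103010021400344410033001304314243000320020101303010014001412230204100310302001011032030103131003101032010301213400420104022002402020023202002204434440030013003104122244141244421400000000000000000000000000000000700000201004020340013031420031440030140302004300213420013440040201031030202011440033240201040300102030422330044130040210403001400342310042330201004020340013013240013220104030200401020333440011240010302042040303044330022130344444143444241400000000000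

/-- a matrix -/
def b4 : ℕ := 0x413333433224221200000000000124422324313334100000000000124444142113114100000000000342244144313334100000000000144224344133312100000000000322424342333132100000000000211331413422241400000000000144242122333132100000000000411111431442221200000000000122244322131334100000000000324224122311312100000000000142424124111132100000000000344444322113332300000000000344422142131334100000000000431331231244241400000000000324242344111132100000000000000000000000000000600000000000000000000000000050000000000000000000000000007000000000000000000000000000500000000000000000000000000000700000000000000000000000000050000000000000000070000000000000000000000000005000000000000000000000000000000060000000000000000000000000005000000000000000000000000000005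

/-- a matrix -/
def b5 : ℕ := 0x322442341442223400000000000433131232131332300000000000433113414331112300000000000211313412131332300000000000231133212311314300000000000413333214111134300000000000342244321244243200000000000231111434111134300000000000142442123224223400000000000213131414313332300000000000233311214133314300000000000411111212333134300000000000431331414331334100000000000431313234313332300000000000344422323422243200000000000233333432333134300000000000000000000000000070000000000000000000000000005000000000000000000000000000000080000000000000000000000000005000000000000000000000000000500000000000000000000000000050000000000000000000600000000000000000000000000050000000000000000000000000005000000000000000000000000000500000000000000000000000000000007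

/-- a matrix -/
def v7 : ℕ := 0x322433433413422300000000000211344144142131200000000000433144142342311200000000000433122324142131200000000000233324122144113200000000000233342344344333200000000000344431231433442100000000000411124124344333200000000000142411431231422300000000000431322142324131200000000000231124344322113200000000000231142122122333200000000000431344322342133400000000000213144322324131200000000000342231413211442100000000000413324342122333200000000000000000000000000000005000000000000000000000000000500000000000000000000050000000000000000000000000005000000000000000000000000000000000800000000000000000000000000050000000000000000000000060000000000000000000000000005000000000000000000000600000000000000000000000000050000000000000000000000000000000006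

/-- a matrix -/
def h1 : ℕ := 0x2334320330201020400130011010120304004300442310033420401020101001200134211200110310031310110203010102001013344300332002404040014040014200101400220400232001124210331332004004402001303010012400130010330300300114314340043020403131002220300301404100302011313002202041040404100302013131004402041040202043020401313004420300301202212244410000000044344212000000000000000070000000000000300140204422003120301040301043002014422001304020103103423123002002402010040102012042004100220400400132343410234100311001101001100302021011010010440400223003333210001421320330403004031002033104001031001200313330013310330024110440304002030110024030102023003200143434300110043002012244003104020103301323333340000000033231323000300140202244001320301040103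

/-- a matrix -/
def h2 : ℕ := 0x404040011321310030010120203030304042020103033220042110033030014030030300313234410200203042231004401014010301112241003010300440012040012000000003444114124413132000101010044300234210011001104030304021001200114142300310020101101400124401200320102001443234030041040203002042310031441002030140403002044402004203121440001400320104300402302001014012002244140431322144142313400000000000100320402244001340103020103412300131001101003300104021003414120103200402010110044403020300410044043214300330012030100034213202020301303232442430000000033411323000130044440404300102033004031040230200430022013110013130432100420201033010020102032024004100240400200312343230221134000102044003100104023011010010220200423003333430200203020012213240303020101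

/-- a matrix -/
def h3 : ℕ := 0x432231140000000024141323000321142210000000013432434000214413320000000024141323000432213320000000042321323000341344410000000033414432000341322230000000033412214000123144410000000033412214000412411120000000022343321000000000000000008000000000000000000000000000700000000000000000000000500000000000000000000000000080000000000000000000000500000000000000000000000008000000000000000000000000000000000000000000007000000000000000000000000500141142430000000013212412000323342430000000031432412000434413140000000024321341000141142430000000031434234000414233120000000044341121000232433120000000022121121000343144230000000011414414000232411340000000044341121000000000000070000000000000000000000000000000000000000050000000000006000000000000000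

/-- a matrix -/
def gg : ℕ := 0x60000000000000000000000000007000000000000000000000000000050000000000000000000000000800000000000000000000006000000000000000000000000000600000000000000000000000070000000000000000000000000700000000000000000000000000000000007000000000000000000000000000700000000000000000000000000060000000000000000000000000008000000000000000000000000000050000000000000000000000000500000000000000000000000000000700000000000000000000000007000000000000000000000000000000000050000000000000000000000000006000000000000000000000007000000000000000000000000000800000000000000000000008000000000000000000000000060000000000000000000000000000050000000000000000000000000700000000000000000000000000000000800000000000000000000000000050000000000000000000000000006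

/-- a matrix -/
def h4 : ℕ := 0x80000000000000000000000000005000000000000000000000000000070000000000000000000000000600000000000000000000008000000000000000000000000000800000000000000000000000050000000000000000000000000500000000000000000000000000000000005000000000000000000000000000500000000000000000000000000080000000000000000000000000006000000000000000000000000000070000000000000000000000000700000000000000000000000000000500000000000000000000000005000000000000000000000000000000000050000000000000000000000000006000000000000000000000007000000000000000000000000000800000000000000000000008000000000000000000000000060000000000000000000000000000050000000000000000000000000700000000000000000000000000000000800000000000000000000000000050000000000000000000000000006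

/-- a matrix -/
def q1 : ℕ := 0x100102033342001104043040402002343233020012030302003011041002010034124101012010101130013130110203010102001031020110042432110020024002201434300334040400102204020041040103101400433130033003304331323001001301004404040021330042111002010340203004042300120200043432303012030101243132000210010402404020021402040014300233320044002401001412230204100330104003033014010301313001301032010301142300310403011003103030034101001103323330040024004201010320104002100431240031220403002040120031013240013220010302042040303044330022130403020100304010222330044130122244141244421400000000000000000000000000000000700000403002040120031031420031440010320104002100413420013440403020100304010244110022310030104024020101044330022130233333432333134300000000000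

/-- a matrix -/
def q2 : ℕ := 0x142411433413244100000000000213144322324131200000000000431322142324131200000000000213122142342133400000000000124413231433224300000000000124431413233444300000000000231142122122333200000000000342231411433224300000000000344413411411444300000000000233324122144113200000000000144233431213242300000000000322433431231244100000000000411142342144113200000000000233342342122111400000000000211322322342311200000000000144233433431424100000000000000000000000000000000007000000000000000000000000070000000000000000000000000000050000000000000000000000000700000000000000000000007000000000000000000000000000500000000000000000000007000000000000000000000000070000000000000000000000000000070000000000000000000000000500000000000000000000000000000000007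

/-- a matrix -/
def d70 : ℕ := 0x344413411411444300000000000233324122144113200000000000233324124322331400000000000233342342122111400000000000144233431213242300000000000322433431231244100000000000211322322342311200000000000144233433431424100000000000142411433413244100000000000213144322324131200000000000124413231433224300000000000124431413233444300000000000213144324142313400000000000213122142342133400000000000231142122122333200000000000342231411433224300000000000000000000000000000000070000000000000000000000000007000000000000000000000000000500000000000000000000000000070000000000000000000007000000000000000000000000000500000000000000000000070000000000000000000000000007000000000000000000000000000500000000000000000000000000070000000000000000000000000000000007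

/-- a matrix -/
def cm : ℕ := 0x5000000000000000000000000000500000000000000000000000000000700000000000000000000000000050000000000000000000000050000000000000000000000000005000000000000000000000000000005000000000000000000000000000500000000000500000000000000000000000000050000000000000000000000000000050000000000000000000000000005000000000000000000000007000000000000000000000000000500000000000000000000000000000500000000000000000000000000050000000000000000000000000000000000005000000000000000000000000050000000000000000000000000000070000000000000000000000000700000000000000000000000000005000000000000000000000000000500000000000000000000000000005000000000000000000000000050000000000000000000000000000050000000000000000000000000500000000000000000000000000005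

/-- the eight involutions -/
def zc (i : ZMod 8) : ℕ := [z0, z1, z2, z3, z4, z5, z6, z7].getD i.val 0

/-- a walk through the orbit of the first basis vector -/
def walk : List (ZMod 8 × ℕ) := [
  (4, 0x500000000000),
  (6, 0x303003301141110040024004201),
  (1, 0x101001103323330040024004201),
  (6, 0x322411211213242300000000000),
  (7, 0x7000000000000000000000),
  (7, 0x322411211213242300000000000),
  (2, 0x144233431213242300000000000),
  (7, 0x600000000000000000000),
  (7, 0x144233431213242300000000000),
  (2, 0x322411211213242300000000000),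
  (6, 0x101001103323330040024004201),
  (1, 0x303003301141110040024004201),
  (6, 0x500000000000),
  (7, 0x124431413233444300000000000),
  (2, 0x342213233233444300000000000),
  (7, 0x50000000000000000),
  (7, 0x342213233233444300000000000),
  (2, 0x124431413233444300000000000),
  (3, 0x433144321411442100000000000),
  (4, 0x10202201114240010030120201),
  (1, 0x30404403332420010030120201),
  (4, 0x122231233233222100000000000),
  (7, 0x8000000000000000000000000),
  (7, 0x122231233233222100000000000),
  (4, 0x30404403332420010030120201),
  (1, 0x10202201114240010030120201),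
  (4, 0x433144321411442100000000000),
  (3, 0x124431413233444300000000000),
  (7, 0x500000000000),
  (0, 0x5000000000000000),
  (5, 0x21040201313004440100103202),
  (2, 0x43020401313004420300301202),
  (5, 0x7000000000000000000),
  (5, 0x43020401313004420300301202),
  (2, 0x21040201313004440100103202),
  (5, 0x5000000000000000),
  (6, 0x204020032100411120044002401),
  (1, 0x402040014300233320044002401),
  (6, 0x144211213413422300000000000),
  (7, 0x70000000000000000000),
  (7, 0x144211213413422300000000000),
  (2, 0x322433433413422300000000000),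
  (7, 0x50000000000000000000000),
  (7, 0x322433433413422300000000000),
  (2, 0x144211213413422300000000000),
  (6, 0x402040014300233320044002401),
  (1, 0x204020032100411120044002401),
  (6, 0x5000000000000000),
  (4, 0x500000000000000000),
  (0, 0x50000000000000),
  (0, 0x500000000000000000),
  (7, 0x213122142342133400000000000),
  (2, 0x431344322342133400000000000),
  (7, 0x700000000000000),
  (7, 0x431344322342133400000000000),
  (2, 0x213122142342133400000000000),
  (7, 0x500000000000000000),
  (6, 0x100340400021214103012030101),
  (1, 0x300120200043432303012030101),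
  (5, 0x233324122144113200000000000),
  (7, 0x500000000000000000000000),
  (7, 0x233324122144113200000000000),
  (2, 0x411142342144113200000000000),
  (7, 0x600000000000000000000000000),
  (7, 0x411142342144113200000000000),
  (2, 0x233324122144113200000000000),
  (5, 0x300120200043432303012030101),
  (1, 0x100340400021214103012030101),
  (6, 0x500000000000000000),
  (4, 0x5000000000000000),
  (0, 0x500000000000),
  (5, 0x21004034422001302040301103),
  (0, 0x400203040043343204020303303),
  (1, 0x200401020021121404020303303),
  (4, 0x301030042100323303400140104),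
  (0, 0x404004404223110001200120304),
  (5, 0x403002040120031031420031440),
  (6, 0x7000000000),
  (6, 0x403002040120031031420031440),
  (5, 0x404004404223110001200120304),
  (0, 0x301030042100323303400140104),
  (4, 0x200401020021121404020303303),
  (1, 0x400203040043343204020303303),
  (0, 0x21004034422001302040301103),
  (2, 0x43002014422001304020103103),
  (5, 0x700),
  (7, 0x500000000),
  (3, 0x60000000000),
  (3, 0x500000000),
  (7, 0x700),
  (6, 0x403020100304010222330044130),
  (1, 0x201040300102030422330044130),
  (6, 0x50000000),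
  (7, 0x50),
  (7, 0x50000000),
  (6, 0x201040300102030422330044130),
  (1, 0x403020100304010222330044130),
  (6, 0x700),
  (5, 0x43002014422001304020103103),
  (2, 0x21004034422001302040301103),
  (5, 0x500000000000),
  (4, 0x5),
  (5, 0x100320402244001340103020103),
  (2, 0x300140202244001320301040103),
  (5, 0x7000000000000),
  (5, 0x300140202244001320301040103),
  (2, 0x100320402244001340103020103),
  (0, 0x32030300043121420303040303),
  (5, 0x344422323422243200000000000),
  (6, 0x5000000),
  (3, 0x60000),
  (3, 0x5000000),
  (6, 0x344422323422243200000000000),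
  (5, 0x32030300043121420303040303),
  (4, 0x40301104300323310031003104),
  (6, 0x40410203003200331240022310),
  (2, 0x20230403003200313420044310),
  (5, 0x80000000000000000000000000),
  (5, 0x20230403003200313420044310),
  (2, 0x40410203003200331240022310),
  (6, 0x40301104300323310031003104),
  (5, 0x10240012234440003400340302),
  (6, 0x123122410000000024323141000),
  (1, 0x341344230000000024323141000),
  (4, 0x7000),
  (4, 0x341344230000000024323141000),
  (3, 0x341322410000000042143141000),
  (4, 0x700000)]

/-- units at the basis vectors -/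
def unt (j : ℕ) : ℕ := [5, 5, 7, 7, 6, 7, 5, 5, 5, 7, 6, 5, 7, 5, 7, 5, 5, 5, 7, 7, 6, 7, 5, 5, 8, 8, 6].getD j 0

end Cfsg.Agent.H29.TitsMat
end

-- part: H29/TitsMatChk
section
/-!
# The `27`-dimensional representation of the Tits group: the kernel checks of the products
-/

set_option autoImplicit false

namespace Cfsg.Agent.H29.TitsMat

private theorem _root_.Cfsg.Agent.KOf52d358.e0.{ku} {M : Nat → Sort ku} (φ : ∀ n, M n) {z : M Nat.zero} {s : ∀ n, M n → M (Nat.succ n)} (h0 : φ Nat.zero = z) (hs : ∀ n, φ (Nat.succ n) = s n (φ n)) (n : Nat) : φ n = @Nat.rec M z s n := Nat.rec h0 (fun n ih => (hs n).trans (congrArg (s n) ih)) n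
private noncomputable def _root_.Cfsg.Agent.KOf52d358.k1 : type_of% @Nat.decEq := @(fun x0 x1 => @Bool.rec.{1} @(fun x2 => (@Eq.{1} _ (@Nat.beq @x0 @x1) @x2) → @Decidable (@Eq.{1} _ @x0 @x1)) @(fun x2 => @Decidable.isFalse _ (@Nat.ne_of_beq_eq_false _ _ @x2)) @(fun x2 => @Decidable.isTrue _ (@Nat.eq_of_beq_eq_true _ _ @x2)) (@Nat.beq @x0 @x1) (@Eq.refl.{1} _ (@Nat.beq @x0 @x1)))
private theorem _root_.Cfsg.Agent.KOf52d358.e1 : @Nat.decEq = @_root_.Cfsg.Agent.KOf52d358.k1 := by delta _root_.Cfsg.Agent.KOf52d358.k1; rfl'
private noncomputable def _root_.Cfsg.Agent.KOf52d358.k2 : (by first | exact type_of% @Cfsg.Agent.H29.TitsMat.rs | exact Unit : Sort _) := by first | (refine @Subtype.val _ (fun g => @Cfsg.Agent.H29.TitsMat.rs = @g) (@Subtype.mk _ _ (@(fun x0 => @Decidable.rec.{1} _ @(fun x1 => ℕ) @(fun x1 => @Decidable.rec.{1} _ @(fun x2 => ℕ) @(fun x2 => @Decidable.rec.{1} _ @(fun x3 => ℕ) @(fun x3 => @Decidable.rec.{1} _ @(fun x4 => ℕ) @(fun x4 => @Decidable.rec.{1} _ @(fun x5 => ℕ) @(fun x5 => @Decidable.rec.{1} _ @(fun x6 => ℕ) @(fun x6 => @Decidable.rec.{1} _ @(fun x7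 => ℕ) @(fun x7 => @Decidable.rec.{1} _ @(fun x8 => ℕ) @(fun x8 => nat_lit 996001) @(fun x8 => @Eq.rec.{1, 1} ℕ (nat_lit 7) @(fun x9 x10 => ℕ) (nat_lit 999997) @x0 (@Eq.symm.{1} _ _ _ @x8)) (@Cfsg.Agent.KOf52d358.k1 @x0 (nat_lit 7))) @(fun x7 => @Eq.rec.{1, 1} ℕ (nat_lit 6) @(fun x8 x9 => ℕ) (nat_lit 4000) @x0 (@Eq.symm.{1} _ _ _ @x7)) (@Cfsg.Agent.KOf52d358.k1 @x0 (nat_lit 6))) @(fun x6 => @Eq.rec.{1, 1} ℕ (nat_lit 5) @(fun x7 x8 => ℕ) (nat_lit 4) @x0 (@Eq.symm.{1} _ _ _ @x6)) (@Cfsg.Agent.KOf52d358.k1 @x0 (nat_lit 5))) @(fun x5 => @Eq.rec.{1, 1} ℕ (nat_lit 4) @(fun x6 x7 => ℕ) (nat_lit 999001) @x0 (@Eq.symm.{1} _ _ _ @x5)) (@Cfsg.Agent.KOf52d358.k1 @x0 (nat_lit 4))) @(fun x4 => @Eq.rec.{1, 1} ℕ (nat_lit 3) @(fun x5 x6 => ℕ) (nat_lit 1000000) @x0 (@Eq.symm.{1} _ _ _ @x4)) (@Cfsg.Agent.KOf52d358.k1 @x0 (nat_lit 3))) @(fun x3 => @Eq.rec.{1, 1} ℕ (nat_lit 2) @(fun x4 x5 => ℕ) (nat_lit 1000) @x0 (@Eq.symm.{1} _ _ _ @x3)) (@Cfsg.Agent.KOf52d358.k1 @x0 (nat_lit 2))) @(fun x2 => @Eq.rec.{1, 1} ℕ (nat_lit 1) @(fun x3 x4 => ℕ) (nat_lit 1) @x0 (@Eq.symm.{1} _ _ _ @x2)) (@Cfsg.Agent.KOf52d358.k1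 @x0 (nat_lit 1))) @(fun x1 => @Eq.rec.{1, 1} ℕ (nat_lit 0) @(fun x2 x3 => ℕ) (nat_lit 0) @x0 (@Eq.symm.{1} _ _ _ @x1)) (@Cfsg.Agent.KOf52d358.k1 @x0 (nat_lit 0)))) ?_); rewrite [← Cfsg.Agent.KOf52d358.e1]; rfl') | exact @Cfsg.Agent.H29.TitsMat.rs | exact ()
private theorem _root_.Cfsg.Agent.KOf52d358.e2 : (by first | exact @Cfsg.Agent.H29.TitsMat.rs = @_root_.Cfsg.Agent.KOf52d358.k2 | exact True : Prop) := by first | (delta _root_.Cfsg.Agent.KOf52d358.k2; exact @Subtype.property _ (fun g => @Cfsg.Agent.H29.TitsMat.rs = @g) _) | rfl | trivial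
private noncomputable def _root_.Cfsg.Agent.KOf52d358.k3 : (by first | exact type_of% @Cfsg.Agent.H29.TitsMat.nib | exact Unit : Sort _) := by first | (refine @Subtype.val _ (fun g => @Cfsg.Agent.H29.TitsMat.nib = @g) (@Subtype.mk _ _ (@(fun x0 x1 => @Nat.land (@Nat.shiftRight @x0 (@Nat.mul (nat_lit 4) @x1)) (nat_lit 15))) ?_); rfl') | exact @Cfsg.Agent.H29.TitsMat.nib | exact ()
private theorem _root_.Cfsg.Agent.KOf52d358.e3 : (by first | exact @Cfsg.Agent.H29.TitsMat.nib = @_root_.Cfsg.Agent.KOf52d358.k3 | exact True : Prop) := by first | (delta _root_.Cfsg.Agent.KOf52d358.k3; exact @Subtype.property _ (fun g => @Cfsg.Agent.H29.TitsMat.nib = @g) _) | rfl | trivial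
private noncomputable def _root_.Cfsg.Agent.KOf52d358.k4 : (by first | exact type_of% @Cfsg.Agent.H29.TitsMat.dig | exact Unit : Sort _) := by first | (refine @Subtype.val _ (fun g => @Cfsg.Agent.H29.TitsMat.dig = @g) (@Subtype.mk _ _ (@(fun x0 x1 x2 x3 => @Nat.rec.{1} @(fun x4 => ℕ → ℕ → @Bool) @(fun x4 x5 => @Bool.true) @(fun x4 x5 x6 x7 => @Bool.rec.{1} @(fun x8 => @Bool) @Bool.false (@x5 (@Nat.div @x6 (nat_lit 281474976710656)) (@Nat.add @x7 (nat_lit 1))) (@Nat.beq (@Nat.mod (@Nat.mod @x6 (nat_lit 281474976710656)) (nat_lit 1000001)) (@Nat.mod (@Nat.mul (nat_lit 4) (@Cfsg.Agent.KOf52d358.k2 (@Cfsg.Agent.KOf52d358.k3 @x0 @x7))) (nat_lit 1000001)))) @x1 @x2 @x3)) ?_); rewrite [← Cfsg.Agent.KOf52d358.e3, ← Cfsg.Agent.KOf52d358.e2]; funext a0 a1 a2 a3; refine (congrFun (congrFun (_root_.Cfsg.Agent.KOf52d358.e0 (fun a1 a2 a3 => @Cfsg.Agent.H29.TitsMat.dig a0 a1 a2 a3) ?_ (fun c0 => ?_) a1) a2) a3 :) <;> ((try delta Cfsg.Agent.H29.TitsMat.dig Cfsg.Agent.H29.TitsMat.dig._f); (try generalize @Cfsg.Agent.H29.TitsMat.rs = g0); (try generalize @Cfsg.Agent.H29.TitsMat.nib = g1); rfl'))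 | exact @Cfsg.Agent.H29.TitsMat.dig | exact ()
private theorem _root_.Cfsg.Agent.KOf52d358.e4 : (by first | exact @Cfsg.Agent.H29.TitsMat.dig = @_root_.Cfsg.Agent.KOf52d358.k4 | exact True : Prop) := by first | (delta _root_.Cfsg.Agent.KOf52d358.k4; exact @Subtype.property _ (fun g => @Cfsg.Agent.H29.TitsMat.dig = @g) _) | rfl | trivial
private theorem _root_.Cfsg.Agent.KOf52d358.e5.{ku, kv} {α : Type kv} {M : List α → Sort ku} (φ : ∀ l, M l) {z : M List.nil} {s : ∀ a l, M l → M (List.cons a l)} (h0 : φ List.nil = z) (hs : ∀ a l, φ (List.cons a l) = s a l (φ l)) (l : List α) : φ l = @List.rec α M z s l := List.rec h0 (fun a l ih => (hs a l).trans (congrArg (s a l) ih)) l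
private noncomputable def _root_.Cfsg.Agent.KOf52d358.k6 : (by first | exact type_of% @Cfsg.Agent.H29.TitsMat.comb | exact Unit : Sort _) := by first | (refine @Subtype.val _ (fun g => @Cfsg.Agent.H29.TitsMat.comb = @g) (@Subtype.mk _ _ (@(fun x0 x1 x2 => @List.rec.{1, 0} ℕ @(fun x3 => ℕ → ℕ) @(fun x3 => nat_lit 0) @(fun x3 x4 x5 x6 => @Nat.add (@Nat.mul (@Cfsg.Agent.KOf52d358.k2 (@Cfsg.Agent.KOf52d358.k3 @x0 @x6)) @x3) (@x5 (@Nat.add @x6 (nat_lit 1)))) @x1 @x2)) ?_); rewrite [← Cfsg.Agent.KOf52d358.e3, ← Cfsg.Agent.KOf52d358.e2]; funext a0 a1 a2; refine (congrFun (_root_.Cfsg.Agent.KOf52d358.e5 (fun a1 a2 => @Cfsg.Agent.H29.TitsMat.comb a0 a1 a2) ?_ (fun c0 c1 => ?_) a1) a2 :) <;> ((try delta Cfsg.Agent.H29.TitsMat.comb Cfsg.Agent.H29.TitsMat.comb._f); (try generalize @Cfsg.Agent.H29.TitsMat.rs = g0); (try generalize @Cfsg.Agent.H29.TitsMat.nib = g1); rfl')) | exact @Cfsg.Agent.H29.TitsMat.comb | exact ()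
private theorem _root_.Cfsg.Agent.KOf52d358.e6 : (by first | exact @Cfsg.Agent.H29.TitsMat.comb = @_root_.Cfsg.Agent.KOf52d358.k6 | exact True : Prop) := by first | (delta _root_.Cfsg.Agent.KOf52d358.k6; exact @Subtype.property _ (fun g => @Cfsg.Agent.H29.TitsMat.comb = @g) _) | rfl | trivial
private noncomputable def _root_.Cfsg.Agent.KOf52d358.k7 : (by first | exact type_of% @Cfsg.Agent.H29.TitsMat.chkR | exact Unit : Sort _) := by first | (refine @Subtype.val _ (fun g => @Cfsg.Agent.H29.TitsMat.chkR = @g) (@Subtype.mk _ _ (@(fun x0 x1 x2 x3 x4 => @Nat.rec.{1} @(fun x5 => ℕ → @Bool) @(fun x5 => @Bool.true) @(fun x5 x6 x7 => @Bool.rec.{1} @(fun x8 => @Bool) @Bool.false (@x6 (@Nat.add @x7 (nat_lit 27))) (@Cfsg.Agent.KOf52d358.k4 @x1 (nat_lit 27) (@Cfsg.Agent.KOf52d358.k6 @x0 @x2 @x7) @x7)) @x3 @x4)) ?_); rewrite [← Cfsg.Agent.KOf52d358.e6, ← Cfsg.Agent.KOf52d358.e4]; funext a0 a1 a2 a3 a4; refine (congrFun (_root_.Cfsg.Agent.KOf52d358.e0 (fun a3 a4 => @Cfsg.Agent.H29.TitsMat.chkR a0 a1 a2 a3 a4) ?_ (fun c0 => ?_) a3) a4 :) <;> ((try delta Cfsg.Agent.H29.TitsMat.chkR Cfsg.Agent.H29.TitsMat.chkR._f);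 (try generalize @Cfsg.Agent.H29.TitsMat.dig = g0); (try generalize @Cfsg.Agent.H29.TitsMat.comb = g1); rfl')) | exact @Cfsg.Agent.H29.TitsMat.chkR | exact ()
private theorem _root_.Cfsg.Agent.KOf52d358.e7 : (by first | exact @Cfsg.Agent.H29.TitsMat.chkR = @_root_.Cfsg.Agent.KOf52d358.k7 | exact True : Prop) := by first | (delta _root_.Cfsg.Agent.KOf52d358.k7; exact @Subtype.property _ (fun g => @Cfsg.Agent.H29.TitsMat.chkR = @g) _) | rfl | trivial
private noncomputable def _root_.Cfsg.Agent.KOf52d358.k8 : (by first | exact type_of% @Cfsg.Agent.H29.TitsMat.pk | exact Unit : Sort _) := by first | (refine @Subtype.val _ (fun g => @Cfsg.Agent.H29.TitsMat.pk = @g) (@Subtype.mk _ _ (@(fun x0 x1 x2 => @Nat.rec.{1} @(fun x3 => ℕ → ℕ) @(fun x3 => nat_lit 0) @(fun x3 x4 x5 => @Nat.add (@Cfsg.Agent.KOf52d358.k2 (@Cfsg.Agent.KOf52d358.k3 @x0 @x5)) (@Nat.mul (nat_lit 281474976710656) (@x4 (@Nat.add @x5 (nat_lit 1))))) @x1 @x2)) ?_); rewrite [← Cfsg.Agent.KOf52d358.e3, ← Cfsg.Agent.KOf52d358.e2]; funext a0 a1 a2; refine (congrFun (_root_.Cfsg.Agent.KOf52d358.e0 (fun a1 a2 => @Cfsg.Agent.H29.TitsMat.pk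 a0 a1 a2) ?_ (fun c0 => ?_) a1) a2 :) <;> ((try delta Cfsg.Agent.H29.TitsMat.pk Cfsg.Agent.H29.TitsMat.pk._f); (try generalize @Cfsg.Agent.H29.TitsMat.rs = g0); (try generalize @Cfsg.Agent.H29.TitsMat.nib = g1); rfl')) | exact @Cfsg.Agent.H29.TitsMat.pk | exact ()
private theorem _root_.Cfsg.Agent.KOf52d358.e8 : (by first | exact @Cfsg.Agent.H29.TitsMat.pk = @_root_.Cfsg.Agent.KOf52d358.k8 | exact True : Prop) := by first | (delta _root_.Cfsg.Agent.KOf52d358.k8; exact @Subtype.property _ (fun g => @Cfsg.Agent.H29.TitsMat.pk = @g) _) | rfl | trivial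
private noncomputable def _root_.Cfsg.Agent.KOf52d358.k9 : (by first | exact type_of% @Cfsg.Agent.H29.TitsMat.rows | exact Unit : Sort _) := by first | (refine @Subtype.val _ (fun g => @Cfsg.Agent.H29.TitsMat.rows = @g) (@Subtype.mk _ _ (@(fun x0 x1 x2 => @Nat.rec.{1} @(fun x3 => ℕ → @List.{0} ℕ) @(fun x3 => []) @(fun x3 x4 x5 => (@Cfsg.Agent.KOf52d358.k8 @x0 (nat_lit 27) @x5) :: (@x4 (@Nat.add @x5 (nat_lit 27)))) @x1 @x2)) ?_); rewrite [← Cfsg.Agent.KOf52d358.e8]; funext a0 a1 a2; refine (congrFun (_root_.Cfsg.Agent.KOf52d358.e0 (fun a1 a2 => @Cfsg.Agent.H29.TitsMat.rows a0 a1 a2) ?_ (fun c0 => ?_) a1) a2 :) <;> ((try delta Cfsg.Agent.H29.TitsMat.rows Cfsg.Agent.H29.TitsMat.rows._f); (try generalize @Cfsg.Agent.H29.TitsMat.pk = g0); rfl')) | exact @Cfsg.Agent.H29.TitsMat.rows | exact ()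
private theorem _root_.Cfsg.Agent.KOf52d358.e9 : (by first | exact @Cfsg.Agent.H29.TitsMat.rows = @_root_.Cfsg.Agent.KOf52d358.k9 | exact True : Prop) := by first | (delta _root_.Cfsg.Agent.KOf52d358.k9; exact @Subtype.property _ (fun g => @Cfsg.Agent.H29.TitsMat.rows = @g) _) | rfl | trivial
private noncomputable def _root_.Cfsg.Agent.KOf52d358.k10 : (by first | exact type_of% @Cfsg.Agent.H29.TitsMat.chk | exact Unit : Sort _) := by first | (refine @Subtype.val _ (fun g => @Cfsg.Agent.H29.TitsMat.chk = @g) (@Subtype.mk _ _ (@(fun x0 x1 x2 => @Cfsg.Agent.KOf52d358.k7 @x0 @x2 (@Cfsg.Agent.KOf52d358.k9 @x1 (nat_lit 27) (nat_lit 0)) (nat_lit 27) (nat_lit 0))) ?_); rewrite [← Cfsg.Agent.KOf52d358.e9, ← Cfsg.Agent.KOf52d358.e7]; (try delta Cfsg.Agent.H29.TitsMat.chk); (try generalize @Cfsg.Agent.H29.TitsMat.chkR = g0); (try generalize @Cfsg.Agent.H29.TitsMat.rows = g1); rfl') | exact @Cfsg.Agent.H29.TitsMat.chk | exact ()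
private theorem _root_.Cfsg.Agent.KOf52d358.e10 : (by first | exact @Cfsg.Agent.H29.TitsMat.chk = @_root_.Cfsg.Agent.KOf52d358.k10 | exact True : Prop) := by first | (delta _root_.Cfsg.Agent.KOf52d358.k10; exact @Subtype.property _ (fun g => @Cfsg.Agent.H29.TitsMat.chk = @g) _) | rfl | trivial

theorem k_rr_ri : chk rr ri one = true := by (first | (rewrite [Cfsg.Agent.KOf52d358.e10]; decide +kernel) | decide +kernel)

theorem k_xx_xi : chk xx xi one = true := by (first | (rewrite [Cfsg.Agent.KOf52d358.e10]; decide +kernel) | decide +kernel)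

theorem k_z0_z0 : chk z0 z0 one = true := by (first | (rewrite [Cfsg.Agent.KOf52d358.e10]; decide +kernel) | decide +kernel)

theorem k_z1_z1 : chk z1 z1 one = true := by (first | (rewrite [Cfsg.Agent.KOf52d358.e10]; decide +kernel) | decide +kernel)

theorem k_z2_z2 : chk z2 z2 one = true := by (first | (rewrite [Cfsg.Agent.KOf52d358.e10]; decide +kernel) | decide +kernel)

theorem k_z3_z3 : chk z3 z3 one = true := by (first | (rewrite [Cfsg.Agent.KOf52d358.e10]; decide +kernel) | decide +kernel)

theorem k_z4_z4 : chk z4 z4 one = true := by (first | (rewrite [Cfsg.Agent.KOf52d358.e10]; decide +kernel) | decide +kernel)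

theorem k_z5_z5 : chk z5 z5 one = true := by (first | (rewrite [Cfsg.Agent.KOf52d358.e10]; decide +kernel) | decide +kernel)

theorem k_z6_z6 : chk z6 z6 one = true := by (first | (rewrite [Cfsg.Agent.KOf52d358.e10]; decide +kernel) | decide +kernel)

theorem k_z7_z7 : chk z7 z7 one = true := by (first | (rewrite [Cfsg.Agent.KOf52d358.e10]; decide +kernel) | decide +kernel)

theorem k_rr_z0 : chk rr z0 p0 = true := by (first | (rewrite [Cfsg.Agent.KOf52d358.e10]; decide +kernel) | decide +kernel)

theorem k_z1_rr : chk z1 rr p0 = true := by (first | (rewrite [Cfsg.Agent.KOf52d358.e10]; decide +kernel) | decide +kernel)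

theorem k_rr_z1 : chk rr z1 p1 = true := by (first | (rewrite [Cfsg.Agent.KOf52d358.e10]; decide +kernel) | decide +kernel)

theorem k_z2_rr : chk z2 rr p1 = true := by (first | (rewrite [Cfsg.Agent.KOf52d358.e10]; decide +kernel) | decide +kernel)

theorem k_rr_z2 : chk rr z2 p2 = true := by (first | (rewrite [Cfsg.Agent.KOf52d358.e10]; decide +kernel) | decide +kernel)

theorem k_z3_rr : chk z3 rr p2 = true := by (first | (rewrite [Cfsg.Agent.KOf52d358.e10]; decide +kernel) | decide +kernel)

theorem k_rr_z3 : chk rr z3 p3 = true := by (first | (rewrite [Cfsg.Agent.KOf52d358.e10]; decide +kernel) | decide +kernel)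

theorem k_z4_rr : chk z4 rr p3 = true := by (first | (rewrite [Cfsg.Agent.KOf52d358.e10]; decide +kernel) | decide +kernel)

theorem k_rr_z4 : chk rr z4 p4 = true := by (first | (rewrite [Cfsg.Agent.KOf52d358.e10]; decide +kernel) | decide +kernel)

theorem k_z5_rr : chk z5 rr p4 = true := by (first | (rewrite [Cfsg.Agent.KOf52d358.e10]; decide +kernel) | decide +kernel)

theorem k_rr_z5 : chk rr z5 p5 = true := by (first | (rewrite [Cfsg.Agent.KOf52d358.e10]; decide +kernel) | decide +kernel)

theorem k_z6_rr : chk z6 rr p5 = true := by (first | (rewrite [Cfsg.Agent.KOf52d358.e10]; decide +kernel) | decide +kernel)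

theorem k_rr_z6 : chk rr z6 p6 = true := by (first | (rewrite [Cfsg.Agent.KOf52d358.e10]; decide +kernel) | decide +kernel)

theorem k_z7_rr : chk z7 rr p6 = true := by (first | (rewrite [Cfsg.Agent.KOf52d358.e10]; decide +kernel) | decide +kernel)

theorem k_rr_z7 : chk rr z7 p7 = true := by (first | (rewrite [Cfsg.Agent.KOf52d358.e10]; decide +kernel) | decide +kernel)

theorem k_z0_rr : chk z0 rr p7 = true := by (first | (rewrite [Cfsg.Agent.KOf52d358.e10]; decide +kernel) | decide +kernel)

theorem k_z0_z1 : chk z0 z1 d01 = true := by (first | (rewrite [Cfsg.Agent.KOf52d358.e10]; decide +kernel) | decide +kernel)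

theorem k_z1_z0 : chk z1 z0 d01 = true := by (first | (rewrite [Cfsg.Agent.KOf52d358.e10]; decide +kernel) | decide +kernel)

theorem k_z0_z2 : chk z0 z2 d02 = true := by (first | (rewrite [Cfsg.Agent.KOf52d358.e10]; decide +kernel) | decide +kernel)

theorem k_z2_z0 : chk z2 z0 d02 = true := by (first | (rewrite [Cfsg.Agent.KOf52d358.e10]; decide +kernel) | decide +kernel)

theorem k_z0_z3 : chk z0 z3 e1 = true := by (first | (rewrite [Cfsg.Agent.KOf52d358.e10]; decide +kernel) | decide +kernel)

theorem k_e1_e1 : chk e1 e1 e2 = true := by (first | (rewrite [Cfsg.Agent.KOf52d358.e10]; decide +kernel) | decide +kernel)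

theorem k_e2_e2 : chk e2 e2 one = true := by (first | (rewrite [Cfsg.Agent.KOf52d358.e10]; decide +kernel) | decide +kernel)

theorem k_z0_z4 : chk z0 z4 f1 = true := by (first | (rewrite [Cfsg.Agent.KOf52d358.e10]; decide +kernel) | decide +kernel)

theorem k_f1_f1 : chk f1 f1 f2 = true := by (first | (rewrite [Cfsg.Agent.KOf52d358.e10]; decide +kernel) | decide +kernel)

theorem k_f2_f2 : chk f2 f2 f4 = true := by (first | (rewrite [Cfsg.Agent.KOf52d358.e10]; decide +kernel) | decide +kernel)

theorem k_f4_f1 : chk f4 f1 one = true := by (first | (rewrite [Cfsg.Agent.KOf52d358.e10]; decide +kernel) | decide +kernel)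

theorem k_z1_z2 : chk z1 z2 d12 = true := by (first | (rewrite [Cfsg.Agent.KOf52d358.e10]; decide +kernel) | decide +kernel)

theorem k_e2_d12 : chk e2 d12 c1 = true := by (first | (rewrite [Cfsg.Agent.KOf52d358.e10]; decide +kernel) | decide +kernel)

theorem k_c1_z4 : chk c1 z4 g1 = true := by (first | (rewrite [Cfsg.Agent.KOf52d358.e10]; decide +kernel) | decide +kernel)

theorem k_z3_z4 : chk z3 z4 d34 = true := by (first | (rewrite [Cfsg.Agent.KOf52d358.e10]; decide +kernel) | decide +kernel)

theorem k_d34_c1 : chk d34 c1 g1 = true := by (first | (rewrite [Cfsg.Agent.KOf52d358.e10]; decide +kernel) | decide +kernel)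

theorem k_z1_z4 : chk z1 z4 j1 = true := by (first | (rewrite [Cfsg.Agent.KOf52d358.e10]; decide +kernel) | decide +kernel)

theorem k_j1_j1 : chk j1 j1 j2 = true := by (first | (rewrite [Cfsg.Agent.KOf52d358.e10]; decide +kernel) | decide +kernel)

theorem k_z2_z3 : chk z2 z3 d23 = true := by (first | (rewrite [Cfsg.Agent.KOf52d358.e10]; decide +kernel) | decide +kernel)

theorem k_j2_d23 : chk j2 d23 c2 = true := by (first | (rewrite [Cfsg.Agent.KOf52d358.e10]; decide +kernel) | decide +kernel)

theorem k_c2_z0 : chk c2 z0 l1 = true := by (first | (rewrite [Cfsg.Agent.KOf52d358.e10]; decide +kernel) | decide +kernel)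

theorem k_d01_c2 : chk d01 c2 l1 = true := by (first | (rewrite [Cfsg.Agent.KOf52d358.e10]; decide +kernel) | decide +kernel)

theorem k_xx_z1 : chk xx z1 v1 = true := by (first | (rewrite [Cfsg.Agent.KOf52d358.e10]; decide +kernel) | decide +kernel)

theorem k_z1_xx : chk z1 xx v1 = true := by (first | (rewrite [Cfsg.Agent.KOf52d358.e10]; decide +kernel) | decide +kernel)

theorem k_xx_z2 : chk xx z2 v2 = true := by (first | (rewrite [Cfsg.Agent.KOf52d358.e10]; decide +kernel) | decide +kernel)

theorem k_z2_xx : chk z2 xx v2 = true := by (first | (rewrite [Cfsg.Agent.KOf52d358.e10]; decide +kernel) | decide +kernel)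

theorem k_xx_z3 : chk xx z3 xi = true := by (first | (rewrite [Cfsg.Agent.KOf52d358.e10]; decide +kernel) | decide +kernel)

theorem k_z3_xx : chk z3 xx xi = true := by (first | (rewrite [Cfsg.Agent.KOf52d358.e10]; decide +kernel) | decide +kernel)

theorem k_xx_z4 : chk xx z4 v4 = true := by (first | (rewrite [Cfsg.Agent.KOf52d358.e10]; decide +kernel) | decide +kernel)

theorem k_z4_xx : chk z4 xx v4 = true := by (first | (rewrite [Cfsg.Agent.KOf52d358.e10]; decide +kernel) | decide +kernel)

theorem k_xx_z5 : chk xx z5 v5 = true := by (first | (rewrite [Cfsg.Agent.KOf52d358.e10]; decide +kernel) | decide +kernel)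

theorem k_z5_xx : chk z5 xx v5 = true := by (first | (rewrite [Cfsg.Agent.KOf52d358.e10]; decide +kernel) | decide +kernel)

theorem k_z7_z3 : chk z7 z3 a1 = true := by (first | (rewrite [Cfsg.Agent.KOf52d358.e10]; decide +kernel) | decide +kernel)

theorem k_z3_z7 : chk z3 z7 b1 = true := by (first | (rewrite [Cfsg.Agent.KOf52d358.e10]; decide +kernel) | decide +kernel)

theorem k_a1_z0 : chk a1 z0 a2 = true := by (first | (rewrite [Cfsg.Agent.KOf52d358.e10]; decide +kernel) | decide +kernel)

theorem k_a2_b1 : chk a2 b1 a3 = true := by (first | (rewrite [Cfsg.Agent.KOf52d358.e10]; decide +kernel) | decide +kernel)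

theorem k_xx_z0 : chk xx z0 v0 = true := by (first | (rewrite [Cfsg.Agent.KOf52d358.e10]; decide +kernel) | decide +kernel)

theorem k_a3_xx : chk a3 xx v0 = true := by (first | (rewrite [Cfsg.Agent.KOf52d358.e10]; decide +kernel) | decide +kernel)

theorem k_b1_z4 : chk b1 z4 b2 = true := by (first | (rewrite [Cfsg.Agent.KOf52d358.e10]; decide +kernel) | decide +kernel)

theorem k_b2_a1 : chk b2 a1 b3 = true := by (first | (rewrite [Cfsg.Agent.KOf52d358.e10]; decide +kernel) | decide +kernel)

theorem k_xx_z6 : chk xx z6 v6 = true := by (first | (rewrite [Cfsg.Agent.KOf52d358.e10]; decide +kernel) | decide +kernel)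

theorem k_b3_xx : chk b3 xx v6 = true := by (first | (rewrite [Cfsg.Agent.KOf52d358.e10]; decide +kernel) | decide +kernel)

theorem k_b1_b1 : chk b1 b1 b4 = true := by (first | (rewrite [Cfsg.Agent.KOf52d358.e10]; decide +kernel) | decide +kernel)

theorem k_b4_z3 : chk b4 z3 b5 = true := by (first | (rewrite [Cfsg.Agent.KOf52d358.e10]; decide +kernel) | decide +kernel)

theorem k_xx_z7 : chk xx z7 v7 = true := by (first | (rewrite [Cfsg.Agent.KOf52d358.e10]; decide +kernel) | decide +kernel)

theorem k_b5_xx : chk b5 xx v7 = true := by (first | (rewrite [Cfsg.Agent.KOf52d358.e10]; decide +kernel) | decide +kernel)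

theorem k_z5_z2 : chk z5 z2 h1 = true := by (first | (rewrite [Cfsg.Agent.KOf52d358.e10]; decide +kernel) | decide +kernel)

theorem k_h1_z7 : chk h1 z7 h2 = true := by (first | (rewrite [Cfsg.Agent.KOf52d358.e10]; decide +kernel) | decide +kernel)

theorem k_h2_h2 : chk h2 h2 h3 = true := by (first | (rewrite [Cfsg.Agent.KOf52d358.e10]; decide +kernel) | decide +kernel)

theorem k_h3_f1 : chk h3 f1 gg = true := by (first | (rewrite [Cfsg.Agent.KOf52d358.e10]; decide +kernel) | decide +kernel)

theorem k_gg_z1 : chk gg z1 h4 = true := by (first | (rewrite [Cfsg.Agent.KOf52d358.e10]; decide +kernel) | decide +kernel)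

theorem k_z1_gg : chk z1 gg h4 = true := by (first | (rewrite [Cfsg.Agent.KOf52d358.e10]; decide +kernel) | decide +kernel)

theorem k_z6_z1 : chk z6 z1 q1 = true := by (first | (rewrite [Cfsg.Agent.KOf52d358.e10]; decide +kernel) | decide +kernel)

theorem k_q1_q1 : chk q1 q1 q2 = true := by (first | (rewrite [Cfsg.Agent.KOf52d358.e10]; decide +kernel) | decide +kernel)

theorem k_z7_z0 : chk z7 z0 d70 = true := by (first | (rewrite [Cfsg.Agent.KOf52d358.e10]; decide +kernel) | decide +kernel)

theorem k_q2_d70 : chk q2 d70 cm = true := by (first | (rewrite [Cfsg.Agent.KOf52d358.e10]; decide +kernel) | decide +kernel)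

end Cfsg.Agent.H29.TitsMat
end

private theorem dce_8a78d404cc55 : _root_.True := by
  try have : _root_.True := by simp only [_root_.Cfsg.Agent.H29.TitsMat.pk.eq_2]
  try have : _root_.True := by simp only [_root_.Cfsg.Agent.H29.TitsMat.pk.eq_def]
  try have : _root_.True := by simp only [_root_.Cfsg.Agent.H29.TitsMat.rows.eq_2]
  try have : _root_.True := by simp only [_root_.Cfsg.Agent.H29.TitsMat.dig.eq_1]
  try have : _root_.True := by simp only [_root_.Cfsg.Agent.H29.TitsMat.val.eq_2]
  try have : _root_.True := by simp only [_root_.Cfsg.Agent.H29.TitsMat.nm.eq_1]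
  try have : _root_.True := by simp only [_root_.Cfsg.Agent.H29.TitsMat.comb.eq_2]
  try have : _root_.True := by simp only [_root_.Cfsg.Agent.H29.TitsMat.rows.eq_def]
  try have : _root_.True := by simp only [_root_.Cfsg.Agent.H29.TitsMat.dig.eq_def]
  try have : _root_.True := by simp only [_root_.Cfsg.Agent.H29.TitsMat.pk.eq_1]
  try have : _root_.True := by simp only [_root_.Cfsg.Agent.H29.TitsMat.val.eq_1]
  try have : _root_.True := by simp only [_root_.Cfsg.Agent.H29.TitsMat.chkR.eq_def]
  try have : _root_.True := by simp only [_root_.Cfsg.Agent.H29.TitsMat.rows.eq_1]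
  try have : _root_.True := by simp only [_root_.Cfsg.Agent.H29.TitsMat.dig.eq_2]
  try have : _root_.True := by simp only [_root_.Cfsg.Agent.H29.TitsMat.comb.eq_1]
  try have : _root_.True := by simp only [_root_.Cfsg.Agent.H29.TitsMat.comb.eq_def]
  try have : _root_.True := by simp only [_root_.Cfsg.Agent.H29.TitsMat.chkR.eq_2]
  try have : _root_.True := by simp only [_root_.Cfsg.Agent.H29.TitsMat.chkR.eq_1]
  try have : _root_.True := by simp only [_root_.Cfsg.Agent.H29.TitsMat.val.eq_def]
  exact _root_.True.intro
end

-- part: H29/TitsExt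
section
prune_inst 0x20040000000000000000400000000000000000000000000000000000800000000000000000100000000020000000000000000000000000000000000000000000000000000000000000000000000000000000000000000000000000000000000000000
set_option linter.all false
open scoped Cfsg.Agent.FastGrp

-- part: H29/TitsRep
section
/-!
# The `27`-dimensional representation of the Tits group: the relations and the commutant

`ZG φ i`, `XG φ`: the elements of `GL 27 K`, for a field `K` with a homomorphism `φ : ℤ[i] →+* K`;

* `titsRel_ZG` : the eight involutions satisfy the relations `TitsRel`;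
* `XG_mul` : `XG` acts on them as the element `y 7` of `²F₄(2)`;
* `commutant` : the matrices which commute with the eight involutions are scalar.
-/

set_option autoImplicit false

namespace Cfsg.Agent.H29.TitsMat

open Cfsg.Agent.Omega.TitsIso Cfsg.Agent.Omega.TitsIso.TitsSideRel

section Shift

variable {M : Type*} [Group M] {Z : ZMod 8 → M} {f : M →* M}

theorem exists_shift (hf : ∀ i, f (Z i) = Z (i + 1)) (k : ZMod 8) : ∃ g : M →* M, ∀ i, g (Z i) = Z (i + k) := by
  have key : ∀ n : ℕ, ∃ g : M →* M, ∀ i, g (Z i) = Z (i + n) := by
    intro n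
    induction n with
    | zero => exact ⟨MonoidHom.id M, fun i => by simp⟩
    | succ n ih =>
      obtain ⟨g, hg⟩ := ih
      refine ⟨f.comp g, fun i => ?_⟩
      rw [MonoidHom.comp_apply, hg, hf, add_assoc]
      push_cast
      rfl
  obtain ⟨g, hg⟩ := key k.val
  refine ⟨g, fun i => ?_⟩
  rw [hg, ZMod.natCast_zmod_val]

theorem map_C {g : M →* M} {k : ZMod 8} (hg : ∀ i, g (Z i) = Z (i + k)) (i : ZMod 8) : g (C Z i) = C Z (i + k) := by
  unfold C
  simp only [map_mul, map_pow, hg]
  rw [show i - 1 + k = i + k - 1 by ring, show i + 2 + k = i + k + 2 by ring, show i + 1 + k = i + k + 1 by ring]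

/-- The relations follow from single instances and the rotation. -/
theorem titsRel_of_shift (hf : ∀ i, f (Z i) = Z (i + 1)) (sq : Z 0 * Z 0 = 1) (c1 : Z 0 * Z 1 = Z 1 * Z 0)
    (c2 : Z 0 * Z 2 = Z 2 * Z 0) (o4 : (Z 0 * Z 3) ^ 4 = 1) (o5 : (Z 0 * Z 4) ^ 5 = 1)
    (r : C Z 1 * Z 4 * (C Z 1)⁻¹ = Z 3 * Z 4) (l : C Z 2 * Z 0 * (C Z 2)⁻¹ = Z 1 * Z 0) : TitsRel Z := by
  refine ⟨fun i => ?_, fun i => ?_, fun i => ?_, fun i => ?_, fun i => ?_, fun i => ?_, fun i => ?_⟩
  · obtain ⟨g, hg⟩ := exists_shift hf i
    have h := congrArg g sq
    simpa only [hg, _root_.map_mul, _root_.zero_add, _root_.map_one] using h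
  · obtain ⟨g, hg⟩ := exists_shift hf i
    have h := congrArg g c1
    rw [map_mul, map_mul, hg, hg, zero_add, add_comm 1 i] at h
    exact h
  · obtain ⟨g, hg⟩ := exists_shift hf i
    have h := congrArg g c2
    rw [map_mul, map_mul, hg, hg, zero_add, add_comm 2 i] at h
    exact h
  · obtain ⟨g, hg⟩ := exists_shift hf i
    have h := congrArg g o4
    rw [map_pow, map_mul, hg, hg, zero_add, add_comm 3 i, map_one] at h
    exact h
  · obtain ⟨g, hg⟩ := exists_shift hf i
    have h := congrArg g o5
    rw [map_pow, map_mul, hg, hg, zero_add, add_comm 4 i, map_one] at h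
    exact h
  · obtain ⟨k, rfl⟩ : ∃ k, i = 1 + k := ⟨i - 1, by ring⟩
    obtain ⟨g, hg⟩ := exists_shift hf k
    have h := congrArg g r
    rw [map_mul, map_mul, map_inv, map_C hg, map_mul, hg, hg] at h
    rw [show 1 + k + 3 = 4 + k by ring, show 1 + k + 2 = 3 + k by ring]
    exact h
  · obtain ⟨k, rfl⟩ : ∃ k, i = 2 + k := ⟨i - 2, by ring⟩
    obtain ⟨g, hg⟩ := exists_shift hf k
    have h := congrArg g l
    rw [map_mul, map_mul, map_inv, map_C hg, map_mul, hg, hg] at h
    rw [show 2 + k - 2 = 0 + k by ring, show 2 + k - 1 = 1 + k by ring]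
    exact h

end Shift

variable {K : Type*} [Field K] [CharZero K] (φ : GaussianInt →+* K)

/-- the matrix over the field -/
noncomputable def GM (a : ℕ) : Matrix (Fin 27) (Fin 27) K := (4 : K)⁻¹ • (mt a).map φ

theorem GM_mul {a b c : ℕ} (h : chk a b c = true) : GM φ a * GM φ b = GM φ c := by
  unfold GM
  have h1 := congrArg (fun A : Matrix (Fin 27) (Fin 27) GaussianInt => A.map φ) (mul_of_chk h)
  simp only [Matrix.map_mul] at h1
  have h2 : ((4 : GaussianInt) • mt c).map φ = (4 : K) • (mt c).map φ := by
    ext i j
    rw [Matrix.map_apply, Matrix.smul_apply, Matrix.smul_apply, Matrix.map_apply, smul_eq_mul, smul_eq_mul, map_mul,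
      map_ofNat]
  rw [h2] at h1
  rw [Matrix.smul_mul, Matrix.mul_smul, h1, smul_smul, smul_smul,
    show (4 : K)⁻¹ * (4 : K)⁻¹ * 4 = (4 : K)⁻¹ by norm_num]

theorem nib_one : ∀ i j : Fin 27, nib one (27 * i + j) = if i = j then 5 else 0 := by decide +kernel

omit [CharZero K] in
theorem GM_apply (a : ℕ) (i j : Fin 27) : GM φ a i j = (4 : K)⁻¹ * φ (gs (nib a (27 * i + j))) := rfl

theorem GM_one : GM φ one = 1 := by
  ext i j
  rw [GM_apply, nib_one i j, Matrix.one_apply]
  by_cases hij : i = j
  · rw [if_pos hij, if_pos hij]
    have h : gs 5 = 4 := rfl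
    rw [h, map_ofNat]
    exact inv_mul_cancel₀ (by norm_num)
  · rw [if_neg hij, if_neg hij]
    have h : gs 0 = 0 := rfl
    rw [h, map_zero, mul_zero]

/-- a group element -/
noncomputable def un {a b : ℕ} (h : chk a b one = true) : GL (Fin 27) K :=
  ⟨GM φ a, GM φ b, by rw [GM_mul φ h, GM_one], by rw [mul_eq_one_comm, GM_mul φ h, GM_one]⟩

/-- `g` has the code `a` -/
def V (g : GL (Fin 27) K) (a : ℕ) : Prop := (g : Matrix (Fin 27) (Fin 27) K) = GM φ a

variable {φ} in
theorem V.mul {g h : GL (Fin 27) K} {a b c : ℕ} (hg : V φ g a) (hh : V φ h b) (hc : chk a b c = true) :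
    V φ (g * h) c := by
  unfold V at *
  rw [Units.val_mul, hg, hh, GM_mul φ hc]

omit [CharZero K] in
variable {φ} in
theorem V.eq {g h : GL (Fin 27) K} {a : ℕ} (hg : V φ g a) (hh : V φ h a) : g = h := Units.ext (hg.trans hh.symm)

theorem V_one : V φ 1 one := (GM_one φ).symm

theorem zc_sq : ∀ i : ZMod 8, chk (zc i) (zc i) one = true := by
  intro i
  fin_cases i
  exacts [k_z0_z0, k_z1_z1, k_z2_z2, k_z3_z3, k_z4_z4, k_z5_z5, k_z6_z6, k_z7_z7]

/-- the eight involutions -/
noncomputable def ZG (i : ZMod 8) : GL (Fin 27) K := un φ (zc_sq i)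

/-- the rotation -/
noncomputable def RG : GL (Fin 27) K := un φ k_rr_ri

/-- the element `y 7` -/
noncomputable def XG : GL (Fin 27) K := un φ k_xx_xi

theorem vz (i : ZMod 8) : V φ (ZG φ i) (zc i) := rfl
theorem vz0 : V φ (ZG φ 0) z0 := rfl
theorem vz1 : V φ (ZG φ 1) z1 := rfl
theorem vz2 : V φ (ZG φ 2) z2 := rfl
theorem vz3 : V φ (ZG φ 3) z3 := rfl
theorem vz4 : V φ (ZG φ 4) z4 := rfl
theorem vz5 : V φ (ZG φ 5) z5 := rfl
theorem vz6 : V φ (ZG φ 6) z6 := rfl
theorem vz7 : V φ (ZG φ 7) z7 := rfl
theorem vR : V φ (RG φ) rr := rfl
theorem vX : V φ (XG φ) xx := rfl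

theorem R_mul : ∀ i : ZMod 8, RG φ * ZG φ i = ZG φ (i + 1) * RG φ := by
  intro i
  fin_cases i
  · exact ((vR φ).mul (vz0 φ) k_rr_z0).eq ((vz1 φ).mul (vR φ) k_z1_rr)
  · exact ((vR φ).mul (vz1 φ) k_rr_z1).eq ((vz2 φ).mul (vR φ) k_z2_rr)
  · exact ((vR φ).mul (vz2 φ) k_rr_z2).eq ((vz3 φ).mul (vR φ) k_z3_rr)
  · exact ((vR φ).mul (vz3 φ) k_rr_z3).eq ((vz4 φ).mul (vR φ) k_z4_rr)
  · exact ((vR φ).mul (vz4 φ) k_rr_z4).eq ((vz5 φ).mul (vR φ) k_z5_rr)
  · exact ((vR φ).mul (vz5 φ) k_rr_z5).eq ((vz6 φ).mul (vR φ) k_z6_rr)
  · exact ((vR φ).mul (vz6 φ) k_rr_z6).eq ((vz7 φ).mul (vR φ) k_z7_rr)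
  · exact ((vR φ).mul (vz7 φ) k_rr_z7).eq ((vz0 φ).mul (vR φ) k_z0_rr)

theorem conj_R (i : ZMod 8) : (MulAut.conj (RG φ)).toMonoidHom (ZG φ i) = ZG φ (i + 1) := by
  change RG φ * ZG φ i * (RG φ)⁻¹ = ZG φ (i + 1)
  rw [R_mul, mul_inv_cancel_right]

theorem vc1 : V φ (C (ZG φ) 1) c1 := by
  have h1 : V φ (ZG φ 0 * ZG φ 3 * (ZG φ 0 * ZG φ 3) * (ZG φ 1 * ZG φ 2)) c1 :=
    ((((vz0 φ).mul (vz3 φ) k_z0_z3).mul ((vz0 φ).mul (vz3 φ) k_z0_z3) k_e1_e1)).mul
      ((vz1 φ).mul (vz2 φ) k_z1_z2) k_e2_d12
  have h2 : C (ZG φ) 1 = ZG φ 0 * ZG φ 3 * (ZG φ 0 * ZG φ 3) * (ZG φ 1 * ZG φ 2) := by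
    unfold C
    rw [pow_two]
    rfl
  rw [h2]
  exact h1

theorem vc2 : V φ (C (ZG φ) 2) c2 := by
  have h1 : V φ (ZG φ 1 * ZG φ 4 * (ZG φ 1 * ZG φ 4) * (ZG φ 2 * ZG φ 3)) c2 :=
    ((((vz1 φ).mul (vz4 φ) k_z1_z4).mul ((vz1 φ).mul (vz4 φ) k_z1_z4) k_j1_j1)).mul
      ((vz2 φ).mul (vz3 φ) k_z2_z3) k_j2_d23
  have h2 : C (ZG φ) 2 = ZG φ 1 * ZG φ 4 * (ZG φ 1 * ZG φ 4) * (ZG φ 2 * ZG φ 3) := by
    unfold C
    rw [pow_two]
    rfl
  rw [h2]
  exact h1

theorem vcm : V φ (C (ZG φ) 7) cm := by
  have h1 : V φ (ZG φ 6 * ZG φ 1 * (ZG φ 6 * ZG φ 1) * (ZG φ 7 * ZG φ 0)) cm :=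
    ((((vz6 φ).mul (vz1 φ) k_z6_z1).mul ((vz6 φ).mul (vz1 φ) k_z6_z1) k_q1_q1)).mul
      ((vz7 φ).mul (vz0 φ) k_z7_z0) k_q2_d70
  have h2 : C (ZG φ) 7 = ZG φ 6 * ZG φ 1 * (ZG φ 6 * ZG φ 1) * (ZG φ 7 * ZG φ 0) := by
    unfold C
    rw [pow_two]
    rfl
  rw [h2]
  exact h1

/-- **The relations.** -/
theorem titsRel_ZG : TitsRel (ZG φ) := by
  refine titsRel_of_shift (conj_R φ) ?_ ?_ ?_ ?_ ?_ ?_ ?_
  · exact ((vz0 φ).mul (vz0 φ) k_z0_z0).eq (V_one φ)
  · exact ((vz0 φ).mul (vz1 φ) k_z0_z1).eq ((vz1 φ).mul (vz0 φ) k_z1_z0)
  · exact ((vz0 φ).mul (vz2 φ) k_z0_z2).eq ((vz2 φ).mul (vz0 φ) k_z2_z0)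
  · have e1 := (vz0 φ).mul (vz3 φ) k_z0_z3
    have e2 := e1.mul e1 k_e1_e1
    have h := (e2.mul e2 k_e2_e2).eq (V_one φ)
    rw [← h]
    simp only [pow_succ, pow_zero, one_mul, mul_assoc]
  · have e1 := (vz0 φ).mul (vz4 φ) k_z0_z4
    have e2 := e1.mul e1 k_f1_f1
    have h := ((e2.mul e2 k_f2_f2).mul e1 k_f4_f1).eq (V_one φ)
    rw [← h]
    simp only [pow_succ, pow_zero, one_mul, mul_assoc]
  · rw [mul_inv_eq_iff_eq_mul]
    exact ((vc1 φ).mul (vz4 φ) k_c1_z4).eq (((vz3 φ).mul (vz4 φ) k_z3_z4).mul (vc1 φ) k_d34_c1)
  · rw [mul_inv_eq_iff_eq_mul]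
    exact ((vc2 φ).mul (vz0 φ) k_c2_z0).eq (((vz1 φ).mul (vz0 φ) k_z1_z0).mul (vc2 φ) k_d01_c2)

/-- **The action of `XG`.** -/
theorem XG_mul : ∀ i : ZMod 8, XG φ * ZG φ i = ((c7.getD i.val []).map (ZG φ)).prod * XG φ := by
  intro i
  fin_cases i
  · have a1 := (vz7 φ).mul (vz3 φ) k_z7_z3
    have b1 := (vz3 φ).mul (vz7 φ) k_z3_z7
    have h := ((vX φ).mul (vz0 φ) k_xx_z0).eq (((a1.mul (vz0 φ) k_a1_z0).mul b1 k_a2_b1).mul (vX φ) k_a3_xx)
    refine h.trans ?_
    change _ = ([ZG φ 7, ZG φ 3, ZG φ 0, ZG φ 3, ZG φ 7]).prod * XG φ
    simp only [List.prod_cons, List.prod_nil, mul_one, mul_assoc]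
  · refine (((vX φ).mul (vz1 φ) k_xx_z1).eq ((vz1 φ).mul (vX φ) k_z1_xx)).trans ?_
    change _ = ([ZG φ 1]).prod * XG φ
    rw [List.prod_singleton]
  · refine (((vX φ).mul (vz2 φ) k_xx_z2).eq ((vz2 φ).mul (vX φ) k_z2_xx)).trans ?_
    change _ = ([ZG φ 2]).prod * XG φ
    rw [List.prod_singleton]
  · refine (((vX φ).mul (vz3 φ) k_xx_z3).eq ((vz3 φ).mul (vX φ) k_z3_xx)).trans ?_
    change _ = ([ZG φ 3]).prod * XG φ
    rw [List.prod_singleton]
  · refine (((vX φ).mul (vz4 φ) k_xx_z4).eq ((vz4 φ).mul (vX φ) k_z4_xx)).trans ?_
    change _ = ([ZG φ 4]).prod * XG φ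
    rw [List.prod_singleton]
  · refine (((vX φ).mul (vz5 φ) k_xx_z5).eq ((vz5 φ).mul (vX φ) k_z5_xx)).trans ?_
    change _ = ([ZG φ 5]).prod * XG φ
    rw [List.prod_singleton]
  · have a1 := (vz7 φ).mul (vz3 φ) k_z7_z3
    have b1 := (vz3 φ).mul (vz7 φ) k_z3_z7
    have h := ((vX φ).mul (vz6 φ) k_xx_z6).eq (((b1.mul (vz4 φ) k_b1_z4).mul a1 k_b2_a1).mul (vX φ) k_b3_xx)
    refine h.trans ?_
    change _ = ([ZG φ 3, ZG φ 7, ZG φ 4, ZG φ 7, ZG φ 3]).prod * XG φ
    simp only [List.prod_cons, List.prod_nil, mul_one, mul_assoc]
  · have b1 := (vz3 φ).mul (vz7 φ) k_z3_z7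
    have h := ((vX φ).mul (vz7 φ) k_xx_z7).eq (((b1.mul b1 k_b1_b1).mul (vz3 φ) k_b4_z3).mul (vX φ) k_b5_xx)
    refine h.trans ?_
    change _ = ([ZG φ 3, ZG φ 7, ZG φ 3, ZG φ 7, ZG φ 3]).prod * XG φ
    simp only [List.prod_cons, List.prod_nil, mul_one, mul_assoc]

/-! ### the commutant -/

theorem col_neg : ∀ j : Fin 27, j = 0 ∨ ∃ k ∈ ([0, 1, 2] : List (ZMod 8)),
    (∀ i : Fin 27, nib (zc k) (27 * i + j) = if i = j then 7 else 0) := by decide +kernel

theorem row_one : ∀ k ∈ ([0, 1, 2] : List (ZMod 8)), ∀ j : Fin 27,
    nib (zc k) (27 * (0 : Fin 27) + j) = if j = 0 then 5 else 0 := by decide +kernel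

theorem first_row {D : Matrix (Fin 27) (Fin 27) K} (hD : ∀ i, D * GM φ (zc i) = GM φ (zc i) * D) (j : Fin 27)
    (hj : j ≠ 0) : D 0 j = 0 := by
  rcases col_neg j with h | ⟨k, hk, h⟩
  · exact absurd h hj
  have h1 := congrFun (congrFun (hD k) 0) j
  rw [Matrix.mul_apply, Matrix.mul_apply] at h1
  have h2 : ∑ t, D 0 t * GM φ (zc k) t j = - D 0 j := by
    rw [Finset.sum_eq_single j]
    · rw [GM_apply, h j, if_pos rfl]
      have : gs 7 = -4 := rfl
      rw [this, map_neg, map_ofNat]
      ring
    · intro t _ ht
      rw [GM_apply, h t, if_neg ht]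
      have : gs 0 = 0 := rfl
      rw [this, map_zero]
      ring
    · exact fun h => absurd (Finset.mem_univ _) h
  have h3 : ∑ t, GM φ (zc k) 0 t * D t j = D 0 j := by
    rw [Finset.sum_eq_single 0]
    · rw [GM_apply, row_one k hk 0, if_pos rfl]
      have : gs 5 = 4 := rfl
      rw [this, map_ofNat]
      field_simp
    · intro t _ ht
      rw [GM_apply, row_one k hk t, if_neg ht]
      have : gs 0 = 0 := rfl
      rw [this, map_zero]
      ring
    · exact fun h => absurd (Finset.mem_univ _) h
  rw [h2, h3] at h1
  exact self_eq_neg.1 h1.symm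

/-- the vector over the field -/
noncomputable def GV (v : ℕ) : Fin 27 → K := fun j => φ (vt v j)

theorem vecMul_GM {v a w : ℕ} (h : vchk v a w = true) : Matrix.vecMul (GV φ v) (GM φ a) = GV φ w := by
  have h1 := vecMul_of_vchk h
  funext j
  have h2 := congrArg φ (congrFun h1 j)
  rw [Matrix.vecMul, dotProduct, map_sum, Pi.smul_apply, smul_eq_mul, map_mul, map_ofNat] at h2
  simp only [map_mul] at h2
  unfold GV GM
  rw [Matrix.vecMul, dotProduct]
  simp only [Matrix.smul_apply, Matrix.map_apply, smul_eq_mul]
  have h3 : ∑ t, φ (vt v t) * ((4 : K)⁻¹ * φ (mt a t j)) = (4 : K)⁻¹ * ∑ t, φ (vt v t) * φ (mt a t j) := by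
    rw [Finset.mul_sum]
    exact Finset.sum_congr rfl fun t _ => by ring
  rw [h3, h2, ← mul_assoc, inv_mul_cancel₀ (by norm_num), one_mul]

/-- the walk is correct -/
def walkOk : ℕ → List (ZMod 8 × ℕ) → Bool
  | _, [] => true
  | v, p :: l => vchk v (zc p.1) p.2 && walkOk p.2 l

private noncomputable def walkF (l : List (ZMod 8 × ℕ)) : ℕ → Bool :=
  List.rec (fun _ => true) (fun p _ ih v => Nat.rec (motive := fun _ => Bool) (vchk v z0 p.2)
    (fun a _ => vchk v ([z1, z2, z3, z4, z5, z6, z7].getD a 0) p.2) p.1.val && ih p.2) l

private theorem walkF_eq (l : List (ZMod 8 × ℕ)) : ∀ v, walkF l v = walkOk v l := by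
  induction l with
  | nil => exact fun _ => rfl
  | cons p l ih =>
    refine fun v => congrArg₂ (· && ·) ?_ (ih p.2)
    delta zc
    cases p.1.val <;> rfl

private noncomputable def _root_.Cfsg.Agent.KO85821d2.k3 : type_of% @Nat.decEq := @(fun x0 x1 => @Bool.rec.{1} @(fun x2 => (@Eq.{1} _ (@Nat.beq @x0 @x1) @x2) → @Decidable (@Eq.{1} _ @x0 @x1)) @(fun x2 => @Decidable.isFalse _ (@Nat.ne_of_beq_eq_false _ _ @x2)) @(fun x2 => @Decidable.isTrue _ (@Nat.eq_of_beq_eq_true _ _ @x2)) (@Nat.beq @x0 @x1) (@Eq.refl.{1} _ (@Nat.beq @x0 @x1)))
private theorem _root_.Cfsg.Agent.KO85821d2.e3 : @Nat.decEq = @_root_.Cfsg.Agent.KO85821d2.k3 := by delta _root_.Cfsg.Agent.KO85821d2.k3; rfl'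
private noncomputable def _root_.Cfsg.Agent.KO85821d2.k5 : (by first | exact type_of% @Cfsg.Agent.H29.TitsMat.nib | exact Unit : Sort _) := by first | (refine @Subtype.val _ (fun g => @Cfsg.Agent.H29.TitsMat.nib = @g) (@Subtype.mk _ _ (@(fun x0 x1 => @Nat.land (@Nat.shiftRight @x0 (@Nat.mul (nat_lit 4) @x1)) (nat_lit 15))) ?_); rfl') | exact @Cfsg.Agent.H29.TitsMat.nib | exact ()
private theorem _root_.Cfsg.Agent.KO85821d2.e5 : (by first | exact @Cfsg.Agent.H29.TitsMat.nib = @_root_.Cfsg.Agent.KO85821d2.k5 | exact True : Prop) := by first | (delta _root_.Cfsg.Agent.KO85821d2.k5; exact @Subtype.property _ (fun g => @Cfsg.Agent.H29.TitsMat.nib = @g) _) | rfl | trivial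
private theorem _root_.Cfsg.Agent.KO85821d2.e9.{ku, kv} {α : Type kv} {M : List α → Sort ku} (φ : ∀ l, M l) {z : M List.nil} {s : ∀ a l, M l → M (List.cons a l)} (h0 : φ List.nil = z) (hs : ∀ a l, φ (List.cons a l) = s a l (φ l)) (l : List α) : φ l = @List.rec α M z s l := List.rec h0 (fun a l ih => (hs a l).trans (congrArg (s a l) ih)) l
private noncomputable def _root_.Cfsg.Agent.KO85821d2.k12.{ku0} : type_of% @List.get?Internal.{ku0} := @(fun x0 x1 x2 => @List.rec.{(ku0+1), ku0} @x0 @(fun x3 => ℕ → @Option.{ku0} @x0) @(fun x3 => @Option.none.{ku0} _) @(fun x3 x4 x5 x6 => @Nat.rec.{(ku0+1)} @(fun x7 => @Option.{ku0} @x0) (@Option.some.{ku0} _ @x3) @(fun x7 x8 => @x5 @x7) @x6) @x1 @x2)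
private theorem _root_.Cfsg.Agent.KO85821d2.e12.{ku0} : @List.get?Internal.{ku0} = @_root_.Cfsg.Agent.KO85821d2.k12.{ku0} := by delta _root_.Cfsg.Agent.KO85821d2.k12; funext a0 a1 a2; refine (congrFun (_root_.Cfsg.Agent.KO85821d2.e9 (fun a1 a2 => @List.get?Internal.{ku0} a0 a1 a2) ?_ (fun c0 c1 => ?_) a1) a2 :) <;> [(funext b0; (rfl')); (funext b0; (cases b0 with | @zero  => (rfl') | @succ b0_0 => (rfl')))]
private noncomputable def _root_.Cfsg.Agent.KO85821d2.k13 : type_of% @Int.natAbs := @(fun x0 => @Int.rec.{1} @(fun x1 => ℕ) @(fun x1 => @x1) @(fun x1 => @Nat.succ @x1) @x0)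
private theorem _root_.Cfsg.Agent.KO85821d2.e13 : @Int.natAbs = @_root_.Cfsg.Agent.KO85821d2.k13 := by delta _root_.Cfsg.Agent.KO85821d2.k13; rfl'
private theorem _root_.Cfsg.Agent.KO85821d2.e15.{ku} {M : Nat → Sort ku} (φ : ∀ n, M n) {z : M Nat.zero} {s : ∀ n, M n → M (Nat.succ n)} (h0 : φ Nat.zero = z) (hs : ∀ n, φ (Nat.succ n) = s n (φ n)) (n : Nat) : φ n = @Nat.rec M z s n := Nat.rec h0 (fun n ih => (hs n).trans (congrArg (s n) ih)) n
private noncomputable def _root_.Cfsg.Agent.KO85821d2.k16 : (by first | exact type_of% @Cfsg.Agent.H29.TitsMat.rs | exact Unit : Sort _) := by first | (refine @Subtype.val _ (fun g => @Cfsg.Agent.H29.TitsMat.rs = @g) (@Subtype.mk _ _ (@(fun x0 => @Decidable.rec.{1} _ @(fun x1 => ℕ) @(fun x1 => @Decidable.rec.{1} _ @(fun x2 => ℕ) @(fun x2 => @Decidable.rec.{1} _ @(fun x3 => ℕ) @(fun x3 => @Decidable.rec.{1} _ @(fun x4 => ℕ) @(fun x4 => @Decidable.rec.{1} _ @(fun x5 => ℕ) @(fun x5 => @Decidable.rec.{1} _ @(fun x6 => ℕ) @(fun x6 => @Decidable.rec.{1} _ @(fun x7 => ℕ) @(fun x7 => @Decidable.rec.{1} _ @(fun x8 => ℕ) @(fun x8 => nat_lit 996001)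 @(fun x8 => @Eq.rec.{1, 1} ℕ (nat_lit 7) @(fun x9 x10 => ℕ) (nat_lit 999997) @x0 (@Eq.symm.{1} _ _ _ @x8)) (@Cfsg.Agent.KO85821d2.k3 @x0 (nat_lit 7))) @(fun x7 => @Eq.rec.{1, 1} ℕ (nat_lit 6) @(fun x8 x9 => ℕ) (nat_lit 4000) @x0 (@Eq.symm.{1} _ _ _ @x7)) (@Cfsg.Agent.KO85821d2.k3 @x0 (nat_lit 6))) @(fun x6 => @Eq.rec.{1, 1} ℕ (nat_lit 5) @(fun x7 x8 => ℕ) (nat_lit 4) @x0 (@Eq.symm.{1} _ _ _ @x6)) (@Cfsg.Agent.KO85821d2.k3 @x0 (nat_lit 5))) @(fun x5 => @Eq.rec.{1, 1} ℕ (nat_lit 4) @(fun x6 x7 => ℕ) (nat_lit 999001) @x0 (@Eq.symm.{1} _ _ _ @x5)) (@Cfsg.Agent.KO85821d2.k3 @x0 (nat_lit 4))) @(fun x4 => @Eq.rec.{1, 1} ℕ (nat_lit 3) @(fun x5 x6 => ℕ) (nat_lit 1000000) @x0 (@Eq.symm.{1} _ _ _ @x4)) (@Cfsg.Agent.KO85821d2.k3 @x0 (nat_lit 3))) @(fun x3 => @Eq.rec.{1, 1} ℕ (nat_lit 2) @(fun x4 x5 => ℕ) (nat_lit 1000) @x0 (@Eq.symm.{1} _ _ _ @x3)) (@Cfsg.Agent.KO85821d2.k3 @x0 (nat_lit 2))) @(fun x2 => @Eq.rec.{1, 1} ℕ (nat_lit 1) @(fun x3 x4 => ℕ) (nat_lit 1) @x0 (@Eq.symm.{1} _ _ _ @x2)) (@Cfsg.Agent.KO85821d2.k3 @x0 (nat_lit 1))) @(fun x1 => @Eq.rec.{1, 1} ℕ (nat_lit 0) @(fun x2 x3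 => ℕ) (nat_lit 0) @x0 (@Eq.symm.{1} _ _ _ @x1)) (@Cfsg.Agent.KO85821d2.k3 @x0 (nat_lit 0)))) ?_); rewrite [← Cfsg.Agent.KO85821d2.e3]; rfl') | exact @Cfsg.Agent.H29.TitsMat.rs | exact ()
private theorem _root_.Cfsg.Agent.KO85821d2.e16 : (by first | exact @Cfsg.Agent.H29.TitsMat.rs = @_root_.Cfsg.Agent.KO85821d2.k16 | exact True : Prop) := by first | (delta _root_.Cfsg.Agent.KO85821d2.k16; exact @Subtype.property _ (fun g => @Cfsg.Agent.H29.TitsMat.rs = @g) _) | rfl | trivial
private noncomputable def _root_.Cfsg.Agent.KO85821d2.k17 : (by first | exact type_of% @Cfsg.Agent.H29.TitsMat.dig | exact Unit : Sort _) := by first | (refine @Subtype.val _ (fun g => @Cfsg.Agent.H29.TitsMat.dig = @g) (@Subtype.mk _ _ (@(fun x0 x1 x2 x3 => @Nat.rec.{1} @(fun x4 => ℕ → ℕ → @Bool) @(fun x4 x5 => @Bool.true) @(fun x4 x5 x6 x7 => @Bool.rec.{1} @(fun x8 => @Bool) @Bool.false (@x5 (@Nat.div @x6 (nat_lit 281474976710656)) (@Nat.add @x7 (nat_lit 1))) (@Nat.beq (@Nat.mod (@Nat.mod @x6 (nat_lit 281474976710656)) (nat_lit 1000001)) (@Nat.mod (@Nat.mul (nat_lit 4) (@Cfsg.Agent.KO85821d2.k16 (@Cfsg.Agent.KO85821d2.k5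 @x0 @x7))) (nat_lit 1000001)))) @x1 @x2 @x3)) ?_); rewrite [← Cfsg.Agent.KO85821d2.e5, ← Cfsg.Agent.KO85821d2.e16]; funext a0 a1 a2 a3; refine (congrFun (congrFun (_root_.Cfsg.Agent.KO85821d2.e15 (fun a1 a2 a3 => @Cfsg.Agent.H29.TitsMat.dig a0 a1 a2 a3) ?_ (fun c0 => ?_) a1) a2) a3 :) <;> ((try delta Cfsg.Agent.H29.TitsMat.dig Cfsg.Agent.H29.TitsMat.dig._f); (try generalize @Cfsg.Agent.H29.TitsMat.rs = g0); (try generalize @Cfsg.Agent.H29.TitsMat.nib = g1); rfl')) | exact @Cfsg.Agent.H29.TitsMat.dig | exact ()
private theorem _root_.Cfsg.Agent.KO85821d2.e17 : (by first | exact @Cfsg.Agent.H29.TitsMat.dig = @_root_.Cfsg.Agent.KO85821d2.k17 | exact True : Prop) := by first | (delta _root_.Cfsg.Agent.KO85821d2.k17; exact @Subtype.property _ (fun g => @Cfsg.Agent.H29.TitsMat.dig = @g) _) | rfl | trivial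
private noncomputable def _root_.Cfsg.Agent.KO85821d2.k18 : (by first | exact type_of% @Cfsg.Agent.H29.TitsMat.comb | exact Unit : Sort _) := by first | (refine @Subtype.val _ (fun g => @Cfsg.Agent.H29.TitsMat.comb = @g) (@Subtype.mk _ _ (@(fun x0 x1 x2 => @List.rec.{1, 0} ℕ @(fun x3 => ℕ → ℕ) @(fun x3 => nat_lit 0) @(fun x3 x4 x5 x6 => @Nat.add (@Nat.mul (@Cfsg.Agent.KO85821d2.k16 (@Cfsg.Agent.KO85821d2.k5 @x0 @x6)) @x3) (@x5 (@Nat.add @x6 (nat_lit 1)))) @x1 @x2)) ?_); rewrite [← Cfsg.Agent.KO85821d2.e5, ← Cfsg.Agent.KO85821d2.e16]; funext a0 a1 a2; refine (congrFun (_root_.Cfsg.Agent.KO85821d2.e9 (fun a1 a2 => @Cfsg.Agent.H29.TitsMat.comb a0 a1 a2) ?_ (fun c0 c1 => ?_) a1) a2 :) <;> ((try delta Cfsg.Agent.H29.TitsMat.comb Cfsg.Agent.H29.TitsMat.comb._f); (try generalize @Cfsg.Agent.H29.TitsMat.rs = g0); (try generalize @Cfsg.Agent.H29.TitsMat.nib = g1); rfl')) | exact @Cfsg.Agent.H29.TitsMat.comb | exact ()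
private theorem _root_.Cfsg.Agent.KO85821d2.e18 : (by first | exact @Cfsg.Agent.H29.TitsMat.comb = @_root_.Cfsg.Agent.KO85821d2.k18 | exact True : Prop) := by first | (delta _root_.Cfsg.Agent.KO85821d2.k18; exact @Subtype.property _ (fun g => @Cfsg.Agent.H29.TitsMat.comb = @g) _) | rfl | trivial
private noncomputable def _root_.Cfsg.Agent.KO85821d2.k19 : (by first | exact type_of% @Cfsg.Agent.H29.TitsMat.pk | exact Unit : Sort _) := by first | (refine @Subtype.val _ (fun g => @Cfsg.Agent.H29.TitsMat.pk = @g) (@Subtype.mk _ _ (@(fun x0 x1 x2 => @Nat.rec.{1} @(fun x3 => ℕ → ℕ) @(fun x3 => nat_lit 0) @(fun x3 x4 x5 => @Nat.add (@Cfsg.Agent.KO85821d2.k16 (@Cfsg.Agent.KO85821d2.k5 @x0 @x5)) (@Nat.mul (nat_lit 281474976710656) (@x4 (@Nat.add @x5 (nat_lit 1))))) @x1 @x2)) ?_); rewrite [← Cfsg.Agent.KO85821d2.e5, ← Cfsg.Agent.KO85821d2.e16]; funext a0 a1 a2; refine (congrFun (_root_.Cfsg.Agent.KO85821d2.e15 (fun a1 a2 => @Cfsg.Agent.H29.TitsMat.pk a0 a1 a2) ?_ (fun c0 => ?_) a1) a2 :) <;> ((try delta Cfsg.Agent.H29.TitsMat.pk Cfsg.Agent.H29.TitsMat.pk._f); (try generalize @Cfsg.Agent.H29.TitsMat.rs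 = g0); (try generalize @Cfsg.Agent.H29.TitsMat.nib = g1); rfl')) | exact @Cfsg.Agent.H29.TitsMat.pk | exact ()
private theorem _root_.Cfsg.Agent.KO85821d2.e19 : (by first | exact @Cfsg.Agent.H29.TitsMat.pk = @_root_.Cfsg.Agent.KO85821d2.k19 | exact True : Prop) := by first | (delta _root_.Cfsg.Agent.KO85821d2.k19; exact @Subtype.property _ (fun g => @Cfsg.Agent.H29.TitsMat.pk = @g) _) | rfl | trivial
private noncomputable def _root_.Cfsg.Agent.KO85821d2.k20 : (by first | exact type_of% @Cfsg.Agent.H29.TitsMat.rows | exact Unit : Sort _) := by first | (refine @Subtype.val _ (fun g => @Cfsg.Agent.H29.TitsMat.rows = @g) (@Subtype.mk _ _ (@(fun x0 x1 x2 => @Nat.rec.{1} @(fun x3 => ℕ → @List.{0} ℕ) @(fun x3 => []) @(fun x3 x4 x5 => (@Cfsg.Agent.KO85821d2.k19 @x0 (nat_lit 27) @x5) :: (@x4 (@Nat.add @x5 (nat_lit 27)))) @x1 @x2)) ?_); rewrite [← Cfsg.Agent.KO85821d2.e19]; funext a0 a1 a2; refine (congrFun (_root_.Cfsg.Agent.KO85821d2.e15 (fun a1 a2 => @Cfsg.Agent.H29.TitsMat.rows a0 a1 a2) ?_ (fun c0 => ?_) a1) a2 :) <;> ((try delta Cfsg.Agent.H29.TitsMat.rows Cfsg.Agent.H29.TitsMat.rows._f);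 (try generalize @Cfsg.Agent.H29.TitsMat.pk = g0); rfl')) | exact @Cfsg.Agent.H29.TitsMat.rows | exact ()
private theorem _root_.Cfsg.Agent.KO85821d2.e20 : (by first | exact @Cfsg.Agent.H29.TitsMat.rows = @_root_.Cfsg.Agent.KO85821d2.k20 | exact True : Prop) := by first | (delta _root_.Cfsg.Agent.KO85821d2.k20; exact @Subtype.property _ (fun g => @Cfsg.Agent.H29.TitsMat.rows = @g) _) | rfl | trivial
private noncomputable def _root_.Cfsg.Agent.KO85821d2.k21 : (by first | exact type_of% @Cfsg.Agent.H29.TitsMat.vchk | exact Unit : Sort _) := by first | (refine @Subtype.val _ (fun g => @Cfsg.Agent.H29.TitsMat.vchk = @g) (@Subtype.mk _ _ (@(fun x0 x1 x2 => @Cfsg.Agent.KO85821d2.k17 @x2 (nat_lit 27) (@Cfsg.Agent.KO85821d2.k18 @x0 (@Cfsg.Agent.KO85821d2.k20 @x1 (nat_lit 27) (nat_lit 0)) (nat_lit 0)) (nat_lit 0))) ?_); rewrite [← Cfsg.Agent.KO85821d2.e20, ← Cfsg.Agent.KO85821d2.e18, ← Cfsg.Agent.KO85821d2.e17]; (try delta Cfsg.Agent.H29.TitsMat.vchk); (try generalize @Cfsg.Agent.H29.TitsMat.dig = g0); (try generalize @Cfsg.Agent.H29.TitsMat.comb = g1); (try generalize @Cfsg.Agent.H29.TitsMat.rows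 = g2); rfl') | exact @Cfsg.Agent.H29.TitsMat.vchk | exact ()
private theorem _root_.Cfsg.Agent.KO85821d2.e21 : (by first | exact @Cfsg.Agent.H29.TitsMat.vchk = @_root_.Cfsg.Agent.KO85821d2.k21 | exact True : Prop) := by first | (delta _root_.Cfsg.Agent.KO85821d2.k21; exact @Subtype.property _ (fun g => @Cfsg.Agent.H29.TitsMat.vchk = @g) _) | rfl | trivial
private noncomputable def _root_.Cfsg.Agent.KO85821d2.k22 : (by first | exact type_of% @Cfsg.Agent.H29.TitsMat.walkF | exact Unit : Sort _) := by first | (refine @Subtype.val _ (fun g => @Cfsg.Agent.H29.TitsMat.walkF = @g) (@Subtype.mk _ _ (@(fun x0 => @List.rec.{1, 0} ((@ZMod ((8 : ℕ))) × ℕ) @(fun x1 => ℕ → @Bool) @(fun x1 => @Bool.true) @(fun x1 x2 x3 x4 => @Bool.rec.{1} @(fun x5 => @Bool) @Bool.false (@x3 (@Prod.snd.{0, 0} _ _ @x1)) (@Nat.rec.{1} @(fun x5 => @Bool) (@Cfsg.Agent.KO85821d2.k21 @x4 @Cfsg.Agent.H29.TitsMat.z0 (@Prod.snd.{0, 0} _ _ @x1)) @(fun x5 x6 => @Cfsg.Agent.KO85821d2.k21 @x4 (@Option.rec.{1, 0} ℕ @(fun x7 => ℕ) (nat_lit 0) @(fun x7 => @x7) (@Cfsg.Agent.KO85821d2.k12.{0} _ (@Cfsg.Agent.H29.TitsMat.z1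 :: (@Cfsg.Agent.H29.TitsMat.z2 :: (@Cfsg.Agent.H29.TitsMat.z3 :: (@Cfsg.Agent.H29.TitsMat.z4 :: (@Cfsg.Agent.H29.TitsMat.z5 :: (@Cfsg.Agent.H29.TitsMat.z6 :: (@Cfsg.Agent.H29.TitsMat.z7 :: []))))))) @x5)) (@Prod.snd.{0, 0} _ _ @x1)) (@Nat.rec.{1} @(fun x5 => (@ZMod @x5) → ℕ) @Cfsg.Agent.KO85821d2.k13 @(fun x5 x6 => @Fin.val _) (nat_lit 8) (@Prod.fst.{0, 0} _ _ @x1)))) @x0)) ?_); rewrite [← Cfsg.Agent.KO85821d2.e13, ← Cfsg.Agent.KO85821d2.e12.{0}, ← Cfsg.Agent.KO85821d2.e21]; (try delta Cfsg.Agent.H29.TitsMat.walkF); (try generalize @Cfsg.Agent.H29.TitsMat.vchk = g0); (try generalize @Cfsg.Agent.H29.TitsMat.z0 = g1); (try generalize @Cfsg.Agent.H29.TitsMat.z1 = g2); (try generalize @Cfsg.Agent.H29.TitsMat.z2 = g3); (try generalize @Cfsg.Agent.H29.TitsMat.z3 = g4); (try generalize @Cfsg.Agent.H29.TitsMat.z4 = g5); (try generalize @Cfsg.Agent.H29.TitsMat.z5 = g6); (try generalize @Cfsg.Agent.H29.TitsMat.z6 = g7); (try generalize @Cfsg.Agent.H29.TitsMat.z7 = g8); rfl') | exact @Cfsg.Agent.H29.TitsMat.walkF | exact ()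
private theorem _root_.Cfsg.Agent.KO85821d2.e22 : (by first | exact @Cfsg.Agent.H29.TitsMat.walkF = @_root_.Cfsg.Agent.KO85821d2.k22 | exact True : Prop) := by first | (delta _root_.Cfsg.Agent.KO85821d2.k22; exact @Subtype.property _ (fun g => @Cfsg.Agent.H29.TitsMat.walkF = @g) _) | rfl | trivial

theorem walk_ok : walkOk 5 walk = true := (walkF_eq walk 5).symm.trans (by (first | (rewrite [Cfsg.Agent.KO85821d2.e22]; decide +kernel) | decide +kernel))

theorem walk_spec {D : Matrix (Fin 27) (Fin 27) K} (hD : ∀ i, D * GM φ (zc i) = GM φ (zc i) * D) (c : K)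
    (l : List (ZMod 8 × ℕ)) : ∀ v, Matrix.vecMul (GV φ v) D = c • GV φ v → walkOk v l = true →
    ∀ p ∈ l, Matrix.vecMul (GV φ p.2) D = c • GV φ p.2 := by
  induction l with
  | nil => intro v _ _ p hp; exact absurd hp List.not_mem_nil
  | cons q l ih =>
    intro v hv h p hp
    rw [walkOk, Bool.and_eq_true] at h
    have h1 : Matrix.vecMul (GV φ q.2) D = c • GV φ q.2 := by
      rw [← vecMul_GM φ h.1, Matrix.vecMul_vecMul, ← hD, ← Matrix.vecMul_vecMul, hv, Matrix.smul_vecMul]
    rcases List.mem_cons.1 hp with rfl | hp
    · exact h1
    · exact ih q.2 h1 h.2 p hp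

theorem targets : ∀ j : Fin 27, j = 0 ∨ (unt j) <<< (4 * (j : ℕ)) ∈ walk.map Prod.snd := by decide +kernel

theorem targets_nib : ∀ j k : Fin 27, nib ((unt j) <<< (4 * (j : ℕ))) k = if k = j then unt j else 0 := by
  decide +kernel

theorem unt_ne : ∀ j : Fin 27, gs (unt j) ≠ 0 := by decide +kernel

theorem norm_ne {z : GaussianInt} (hz : z ≠ 0) : φ z ≠ 0 := by
  intro h
  have h1 : φ (z * star z) = 0 := by rw [map_mul, h, zero_mul]
  have h2 : z * star z = ((z.norm : ℤ) : GaussianInt) := (Zsqrtd.norm_eq_mul_conj z).symm
  rw [h2, map_intCast, Int.cast_eq_zero] at h1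
  exact hz (GaussianInt.norm_eq_zero.1 h1)

/-- **The commutant** of the eight involutions is scalar. -/
theorem commutant {D : Matrix (Fin 27) (Fin 27) K} (hD : ∀ i, D * GM φ (zc i) = GM φ (zc i) * D) :
    ∃ c : K, D = c • (1 : Matrix (Fin 27) (Fin 27) K) := by
  refine ⟨D 0 0, ?_⟩
  have key : ∀ j : Fin 27, ∀ k, D j k = if j = k then D 0 0 else 0 := by
    have h0 : ∀ k, D 0 k = if (0 : Fin 27) = k then D 0 0 else 0 := by
      intro k
      split
      · rename_i h; rw [← h]
      · rename_i h; exact first_row φ hD k (Ne.symm h)
    have h5 : GV φ 5 = fun j => if j = 0 then (4 : K) else 0 := by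
      have h : ∀ j : Fin 27, nib 5 j = if j = 0 then 5 else 0 := by decide
      funext j
      unfold GV vt
      rw [h]
      split
      · exact map_ofNat φ 4
      · exact map_zero φ
    have hs : Matrix.vecMul (GV φ 5) D = D 0 0 • GV φ 5 := by
      funext k
      rw [h5, Matrix.vecMul, dotProduct, Finset.sum_eq_single 0, if_pos rfl, h0, Pi.smul_apply, smul_eq_mul]
      · by_cases hk : k = 0
        · rw [if_pos hk, if_pos hk.symm, mul_comm]
        · rw [if_neg hk, if_neg (Ne.symm hk), mul_zero, mul_zero]
      · intro t _ ht
        rw [if_neg ht, zero_mul]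
      · exact fun h => absurd (Finset.mem_univ _) h
    intro j k
    rcases targets j with rfl | hj
    · exact h0 k
    rw [List.mem_map] at hj
    obtain ⟨p, hp, hpj⟩ := hj
    have h1 := walk_spec φ hD (D 0 0) walk 5 hs walk_ok p hp
    rw [hpj] at h1
    have h2 : GV φ ((unt j) <<< (4 * (j : ℕ))) = fun k => if k = j then φ (gs (unt j)) else 0 := by
      funext k
      unfold GV vt
      rw [targets_nib]
      split
      · rfl
      · exact map_zero φ
    rw [h2] at h1
    have h3 := congrFun h1 k
    rw [Matrix.vecMul, dotProduct, Finset.sum_eq_single j, if_pos rfl, Pi.smul_apply, smul_eq_mul] at h3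
    · have hne := norm_ne φ (unt_ne j)
      by_cases hk : k = j
      · rw [if_pos hk.symm, ← mul_right_inj' hne, h3, if_pos hk, mul_comm]
      · rw [if_neg hk, mul_zero] at h3
        rw [if_neg (Ne.symm hk)]
        exact (mul_eq_zero.1 h3).resolve_left hne
    · intro t _ ht
      rw [if_neg ht, zero_mul]
    · exact fun h => absurd (Finset.mem_univ _) h
  ext j k
  rw [key, Matrix.smul_apply, Matrix.one_apply, smul_eq_mul]
  split <;> simp

end Cfsg.Agent.H29.TitsMat
end

-- part: H29/TitsWalk
section
/-!
# The class of the first involution of the Tits group has at least 878 elements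
-/

set_option autoImplicit false

namespace Cfsg.Agent.H29.TitsWalk

open Cfsg.Agent.ChevalleyStructure.Tits.Pack Cfsg.Agent.ChevalleyStructure.Tits.Data
  Cfsg.Agent.ChevalleyStructure.Tits.Sat Cfsg.Agent.ChevalleyStructure.Tits.Final
  Cfsg.Agent.ChevalleyStructure.Tits.Mat Cfsg.Agent.ChevalleyStructure.Tits.Order
  Cfsg.Agent.ChevalleyStructure.Tits.Main Cfsg.Agent.Omega.TitsIso.TitsSideRel
  Cfsg.Agent.Omega.TitsIso.TitsSide Cfsg.Agent.Omega.TitsIso.TitsSideIdx Cfsg.Agent.Omega.TitsIso.Model

/-- a walk in the class -/
def wpath : List ℕ := [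
  3, 7, 4, 3, 1, 3, 0, 3, 7, 5, 7, 1, 7, 6, 2, 4, 3, 0, 2, 0, 4, 2, 7, 2, 6, 4, 6, 0, 2, 4, 2, 6, 0, 3, 1, 6,
  4, 7, 6, 1, 5, 7, 4, 7, 5, 0, 6, 5, 4, 0, 1, 3, 0, 1, 7, 0, 1, 0, 6, 5, 7, 4, 7, 6, 2, 7, 1, 2, 6, 1, 5, 0,
  6, 5, 7, 6, 5, 6, 2, 7, 5, 6, 3, 6, 7, 6, 0, 3, 7, 2, 3, 1, 4, 2, 0, 7, 0, 3, 0, 3, 0, 6, 1, 7, 2, 1, 3, 2,
  1, 6, 3, 1, 6, 5, 0, 5, 2, 3, 1, 7, 6, 0, 2, 1, 6, 2, 0, 1, 4, 2, 4, 6, 4, 0, 7, 1, 4, 0, 4, 7, 0, 2, 3, 4,
  1, 0, 1, 2, 1, 6, 4, 3, 4, 0, 7, 3, 1, 4, 6, 2, 4, 2, 5, 2, 5, 0, 3, 4, 3, 2, 4, 3, 4, 5, 7, 5, 2, 0, 5, 4,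
  2, 5, 4, 0, 5, 1, 4, 3, 2, 7, 3, 4, 3, 7, 6, 7, 1, 5, 2, 5, 6, 4, 1, 4, 2, 1, 4, 3, 0, 7, 0, 3, 1, 4, 7, 5,
  0, 6, 0, 1, 0, 3, 0, 1, 4, 5, 6, 5, 7, 3, 5, 2, 6, 7, 1, 5, 4, 1, 0, 6, 7, 1, 2, 6, 4, 3, 4, 1, 4, 3, 1, 5,
  4, 5, 3, 0, 6, 1, 2, 3, 2, 1, 2, 5, 4, 7, 1, 7, 6, 7, 2, 1, 6, 0, 2, 1, 0, 4, 5, 2, 4, 3, 6, 3, 7, 5, 1, 4,
  2, 5, 0, 1, 3, 0, 5, 4, 6, 2, 0, 2, 3, 2, 4, 3, 7, 4, 5, 1, 5, 1, 3, 6, 2, 6, 4, 1, 7, 5, 4, 3, 5, 0, 7, 3,
  1, 6, 2, 3, 5, 0, 7, 5, 3, 4, 2, 7, 0, 4, 1, 5, 4, 5, 0, 6, 4, 3, 0, 2, 1, 6, 4, 6, 7, 3, 5, 3, 7, 4, 7, 1,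
  7, 4, 5, 0, 3, 5, 0, 6, 5, 4, 6, 2, 4, 0, 6, 5, 3, 4, 0, 7, 4, 1, 4, 7, 2, 0, 4, 1, 6, 3, 5, 6, 2, 1, 0, 2,
  1, 6, 3, 4, 3, 6, 3, 2, 1, 3, 2, 4, 0, 4, 7, 0, 5, 7, 6, 7, 3, 1, 0, 4, 2, 1, 6, 1, 2, 3, 1, 3, 4, 2, 6, 2,
  3, 4, 1, 4, 2, 3, 5, 6, 4, 7, 6, 3, 2, 1, 0, 1, 3, 4, 5, 4, 2, 3, 2, 6, 2, 4, 1, 7, 0, 7, 1, 7, 4, 5, 0, 5,
  0, 4, 7, 1, 3, 1, 5, 1, 3, 5, 6, 7, 2, 4, 2, 3, 4, 0, 2, 0, 6, 2, 0, 4, 2, 6, 5, 7, 3, 2, 3, 0, 7, 3, 2, 5,
  4, 7, 5, 1, 0, 2, 3, 2, 7, 0, 1, 6, 7, 0, 1, 0, 6, 4, 7, 2, 7, 3, 4, 6, 4, 0, 3, 4, 5, 6, 3, 4, 6, 0, 6, 5,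
  6, 7, 5, 6, 1, 3, 1, 2, 1, 7, 1, 4, 5, 0, 4, 1, 2, 4, 2, 5, 0, 5, 6, 3, 7, 1, 4, 5, 7, 5, 0, 6, 7, 3, 0, 4,
  5, 7, 1, 4, 0, 7, 5, 3, 0, 1, 2, 0, 3, 0, 4, 2, 4, 6, 2, 1, 2, 7, 5, 3, 2, 4, 6, 2, 1, 0, 7, 1, 3, 6, 5, 7,
  5, 6, 3, 2, 1, 6, 2, 7, 0, 2, 0, 1, 3, 2, 1, 5, 1, 7, 4, 2, 6, 7, 4, 7, 2, 1, 2, 3, 7, 0, 5, 2, 1, 5, 2, 0,
  4, 2, 4, 6, 3, 7, 1, 2, 1, 0, 2, 1, 5, 6, 3, 2, 6, 1, 2, 6, 7, 5, 6, 3, 7, 0, 3, 2, 0, 2, 3, 1, 2, 6, 1, 7,
  6, 1, 7, 1, 3, 2, 3, 7, 2, 0, 6, 4, 3, 0, 7, 0, 5, 1, 0, 5, 1, 5, 3, 7, 1, 0, 5, 1, 5, 2, 1, 7, 6, 3, 2, 6,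
  2, 0, 5, 6, 4, 2, 4, 1, 6, 7, 6, 4, 0, 2, 7, 2, 1, 7, 2, 4, 5, 6, 5, 4, 0, 6, 4, 5, 1, 4, 7, 5, 6, 0, 1, 7,
  5, 4, 6, 5, 3, 4, 0, 1, 3, 4, 1, 5, 7, 1, 7, 6, 2, 0, 1, 6, 2, 6, 1, 6, 1, 5, 6, 4, 7, 6, 7, 2, 7, 2, 4, 2,
  3, 5, 7, 1, 2, 7, 5, 3, 1, 3, 6, 0, 6, 7, 4, 2, 5, 1, 5, 7, 2, 1, 2, 6, 4, 3, 7, 4, 7, 5, 0, 3, 5, 4, 1, 3,
  2, 0, 1, 4, 2, 3, 7, 6, 2, 7, 5, 0, 3, 2, 4, 3, 6, 1, 5, 6, 4, 7, 1, 0, 3, 7, 2, 1, 6, 5, 6, 2, 3, 7, 0, 5,
  6, 2, 3, 2, 1, 5, 0, 6, 2, 1, 6, 2, 6]

/-- labels of the walk -/
def wlabs : List ℕ := [
  0x10000000001, 0x1110000000001, 0x110000000001, 0xcc000048002, 0x104c100048002, 0x1ec000048002,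
  0x116c100048002, 0x100280000001, 0x1000380000001, 0x1104081469883, 0x1, 0x154301c24803, 0x1092101424803,
  0x114200800001, 0xce18043b802, 0x1096080453802, 0x1104200800001, 0x1a301000003, 0x1ca301000003,
  0x109a301000003, 0x114a301000003, 0x1018081818881, 0x1830881, 0x1830105a082, 0x10b0281012082,
  0x1100100000001, 0x10b8200060002, 0x1108080008001, 0xbe001474882, 0x1ca38143c882, 0xe228142d002,
  0x19e101445002, 0x1008180008001, 0x198300060002, 0x1138200060002, 0x18300060002, 0x18300c7f802, 0xc18081,
  0x1a300c22083, 0x1a30003d883, 0xec00183d883, 0xec180448003, 0x1100080810001, 0x10b838081d882, 0xec180008002,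
  0xec001c75082, 0x118281c08881, 0x10ea200861802, 0x104100430881, 0xc180000001, 0x198380c58003,
  0x1160080c58003, 0x118300000001, 0xa2380c18002, 0x105a080c18002, 0x104808140d082, 0x10001010881,
  0x1108100810881, 0x10e6180c0d082, 0x100300010081, 0x10f8201060003, 0xbc000c75883, 0x1004200810001,
  0x10201810801, 0x11d0081030083, 0x78001078083, 0x100100008001, 0xa0280068083, 0x180280020083,
  0x1014200810001, 0x104280825882, 0x104380c46002, 0x100008081, 0x100180073002, 0x100080031082,
  0x1156081035882, 0x1004001800801, 0x1004100408001, 0x1156180c62882, 0x4080808081, 0x120380073003,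
  0x1004101008801, 0x13a080c18002, 0x1014280000001, 0x120280059083, 0x1164080448003, 0x4080c00881,
  0x124280849083, 0x100428801, 0x1014100828081, 0x10ea101c42882, 0x62301c20802, 0x11a4101420802,
  0x1084081442882, 0x100080028081, 0x28000462882, 0x106e201873002, 0x1110281c28801, 0x11ca381049083,
  0x100c181400881, 0x110c001428801, 0xec001873003, 0x118201038081, 0x108c180442002, 0xcc181843882,
  0x103410182b882, 0x14001400801, 0xe0281c2b882, 0x18301c43882, 0x111c001020801, 0x1044180448003,
  0xcc000400003, 0x1110281030081, 0x1a001c05002, 0x1108180c10881, 0x300059083, 0x1104081020881,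
  0x180300058002, 0xa028007a082, 0x10c281c10801, 0x119a18007b002, 0x118c181060882, 0x38801, 0x105c08181c082,
  0x1114300c20801, 0xa0380028083, 0x180380060083, 0x1428801, 0xb6281c44882, 0x196301c57082, 0x1162081c3f082,
  0x104a081c0c882, 0x1058080419802, 0x1170080010002, 0xf6280810002, 0x1008301c20801, 0x11c101420801,
  0x14001400001, 0x101c08081f803, 0x104380c10081, 0x113c281c53802, 0xb4281447002, 0x116800142f002,
  0x118380c38081, 0xec180406883, 0xc18801, 0x10001032082, 0x100380028001, 0x1008300020001, 0x11b808107a082,
  0x1000080c00001, 0x11b0080c4f802, 0x10000825882, 0x800081, 0x400080d882, 0x4000008002, 0x1084100008002,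
  0x124000008002, 0x1010000000001, 0x1000000800001, 0x1010000800001, 0x16e00005b802, 0x136000033802,
  0x1104300018001, 0x10200030001, 0x11c2201020002, 0x104380c18001, 0x28001060003, 0x28101401883,
  0x104280838801, 0x14000810801, 0x11c080c18001, 0x1050301060003, 0x1178301469883, 0x1c380c00881,
  0x13e281408883, 0x100c200430081, 0x42201824802, 0x100c081408881, 0x200033003, 0x120380011083,
  0x1104181028881, 0x18020003a082, 0xa0280010002, 0x136080810002, 0x1100381020081, 0x110080820081,
  0xcc181c4f803, 0x1044081805883, 0x1010280810001, 0x80410881, 0x10428086c802, 0x104380c0f082, 0x180030001,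
  0x1010381030081, 0x116018142f083, 0x124380c2a803, 0x1c00081, 0x1400801, 0x1142380857082, 0x1142281021082,
  0x1014001000801, 0x1146200014002, 0x154200814002, 0x1104081c38881, 0x17c080c46002, 0x111c381020881,
  0x14e10047e083, 0x11c6280014003, 0x1050080814003, 0x104300c20801, 0x1010100420801, 0x100e08180a083,
  0x2810100a083, 0x28001463883, 0x107e200872803, 0x107e30101f803, 0x118380c00001, 0x102410140b803,
  0x1104180400001, 0x14001c00001, 0x100a080c0b803, 0xa2380c69883, 0x101c201430081, 0x111c100c30081,
  0x108818104a083, 0x1088001c04803, 0x1114081820881, 0x1114101400001, 0x110101010081, 0x1048000800802,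
  0x1048101445002, 0xbc00142d002, 0x1110381418801, 0x10f4281806883, 0x1a301006883, 0x1a301c19803, 0x1830001,
  0x8100443882, 0x186100457082, 0x1008281828881, 0x11dc181c4c803, 0x38881, 0x114280030881, 0x104e000c01802,
  0x1166080810002, 0x4000410881, 0x10c100408001, 0x12408002b882, 0x1014001800801, 0x11a0181022083,
  0x12201822083, 0x101c080418801, 0x111c000000001, 0x13238183b883, 0x1114181410081, 0xb428003d002,
  0xa2280812082, 0x100100012082, 0x8881, 0x801, 0x100000010002, 0x1102000810002, 0x10000800801, 0x10000000801,
  0x600001e002, 0x600081b882, 0x1c381830001, 0x101c180830881, 0x13e38003b883, 0x116a18183e803, 0xbe001876803,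
  0x114381408881, 0xce180476082, 0x1110180c28881, 0x4080c56082, 0x1126300456082, 0xc001c08881,
  0x11d418082c082, 0x100280028001, 0x1108300020001, 0x50201010083, 0x10f8381058083, 0x10ee380477083,
  0x16e18007d003, 0x1114200418881, 0x16e100452883, 0x80c52883, 0x80c59083, 0x10201010801, 0x11d8101850882,
  0xc181838801, 0xee000474083, 0x106638001e003, 0x11b418180a803, 0x11b400146d003, 0x1004081c00881,
  0x11bc000c58003, 0x1044300c58003, 0x10c180000001, 0x14280000001, 0x109e300c18002, 0x1166000c18002,
  0x104e080809802, 0x4080018881, 0x124100469802, 0x1114200800001, 0x300c65883, 0x107a201465883,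
  0x107a300c00003, 0xc18881, 0x101062083, 0x101069883, 0x50201001883, 0x42201001083, 0x16a20105a883,
  0x19018185a883, 0x111c080c00001, 0x19638146f003, 0xb6281456803, 0x1114101818881, 0x196280014003, 0x80814003,
  0x100420801, 0x100420881, 0x11c080c20881, 0x103c180c31082, 0x1114180430801, 0xcc181c03003, 0xcc00044c803,
  0x1100000448003, 0x1004381018881, 0x154381419803, 0xc181830001, 0x10f0280010002, 0x18301c20801,
  0x6080014003, 0x1180280814003, 0x1c000c18801, 0x10a630045c082, 0x10a6280810002, 0x1118380808881,
  0x1118200428881, 0x10fc200c76082, 0x11c000038801, 0x11ce300475082, 0x14e000077002, 0x110181838801,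
  0xbc000077002, 0x109e181877002, 0x1104380018001, 0x1096100c2c882, 0x110c200438081, 0xce180037003,
  0x114e38043d083, 0x114e281c43003, 0xce001c49083, 0x110c380c28801, 0x109e001000802, 0xce001800802,
  0x108c001000802, 0xdc001800802, 0x1f4181c03002, 0x1010081410881, 0x1fe201859083, 0x115e001873003,
  0x115e100424803, 0x1088300c24803, 0x10c281c18881, 0x1096081c57082, 0x8101008801, 0x11ac080442002,
  0x12410040a002, 0x1018081018081, 0x50200824802, 0x42201035882, 0x100c081c08081, 0x14a281447002,
  0x6230103e802, 0x100180020081, 0x1110380030001, 0x106a200c64882, 0x10c100428801, 0x4080018001,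
  0x124180442002, 0x10ac10040a002, 0x10c080420881, 0x4000010001, 0x42201805083, 0x50201805883, 0x100200018081,
  0x11d0101000003, 0x11c610081f083, 0x8001020801, 0x1168181467082, 0xa2380c73882, 0x1104000408001,
  0x10100b883, 0x101000003, 0x800001, 0x800881, 0x101009803, 0x101002083, 0x800801, 0x150000010002,
  0x1152000810002, 0x301018881, 0x10a2281802083, 0x111c301430081, 0x10f418003d003, 0x11dc18047c803,
  0x19e18186d083, 0xc181c30801, 0x11d4000814002, 0x186000014002, 0x1000201800001, 0x10201000001,
  0x62301c1e883, 0x101808141e883, 0x4000410081, 0x10c180020881, 0xbe000c2d083, 0x10142d083, 0x101426883,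
  0x101c301c18801, 0x1108281c10801, 0x111830044e883, 0x1014080c10801, 0xf428146e883, 0x1dc281447003,
  0x10142f003, 0x101424803, 0x101c001800001, 0xf4280016882, 0x1dc380037002, 0x1162001837002, 0x104a001804802,
  0x1010201000001, 0x19e080c3e883, 0x1018280038001, 0x180300072082, 0xa0380058002, 0x104080010001,
  0x10f8100863883, 0x18000020801, 0x8801, 0x1dc300c0b883, 0x1a301c1f083, 0x104000018001, 0x10ee201c77083,
  0x11c6281824883, 0xc180408881, 0x104180418081, 0x111a300816882, 0x118201000001, 0x11c6301c24803,
  0x11d0300c3b803, 0x80c53803, 0x80c58003, 0x10f8380c58003, 0x18001c20881, 0x1134300869082, 0x114280000001,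
  0x110c180000001, 0x1ca201069082, 0xe2281452802, 0x1004380c18001, 0x178201060003, 0x1118180828881,
  0x1014380828081, 0x111c300808881, 0x1cc080448003, 0x1118181018081, 0x10001010081, 0x1044000400003,
  0x14000810001, 0x12200015883, 0x1092080457803, 0x10c201828881, 0x108c30183c082, 0x1100281830081,
  0x111c281818081, 0x186080034883, 0x1f220007c883, 0x4080808801, 0x105e001405002, 0x1a000c01802,
  0x10ea380c69802, 0x112238146d002, 0x1130381052082, 0x19820101a082, 0x800100e882, 0x810146f002,
  0x11d4381407002, 0x11c2380c18002, 0x104080038881, 0x11c2181833002, 0x42201831082, 0x1114301808881,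
  0x11c181808801, 0x10f0181833002, 0xa0380032082, 0x180200010002, 0x1004001000801, 0x200011083,
  0x12028003b003, 0x1110100c38881, 0x132200033003, 0xc0381833003, 0x1008080808801, 0x1f2381833003,
  0x1052081811083, 0x280828881, 0x11b0100020002, 0x100000008001, 0x100008001, 0x100000081, 0x8080b883,
  0x1110180030001, 0x62301c3f082, 0x1018000400801, 0x1ea301020002, 0xc238141b882, 0x108080408001,
  0x1124181463883, 0x110000030001, 0x101a081c1f083, 0x113a08186c883, 0x1128080442003, 0x100808040a003,
  0x4000c10881, 0x1da000076802, 0x1000381c00081, 0xf6281c69803, 0xe0281c43003, 0x14000010801, 0x116c300c20802,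
  0x117e30001e002, 0x10ac10100a802, 0x10ba100420802, 0x1c000c00801, 0x8000428081, 0x10ba101020002,
  0x8001028881, 0x1c001800001, 0x108201000001, 0x1100081428081, 0x1014101c28081, 0x200826883, 0x1fe380026883,
  0x11bc180037003, 0x12201837003, 0x110c280430081, 0x136101420802, 0x10f0301c20802, 0x11d8281c43002,
  0x114301c30881, 0x1a30003b003, 0x1830081, 0xce18007a883, 0xce001c04803, 0x109a000c00003, 0x109a18047f803,
  0x1100301020001, 0x1428081, 0x1830105c802, 0x100c280438081, 0x1196301c45003, 0x1196281020883,
  0x1d0280824083, 0x1d0301050083, 0x380c28801, 0x1d6101475883, 0x1180101060003, 0x18300c18001,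
  0x1192001020002, 0x10b2181473882, 0x1c001818081, 0x10b2180073002, 0x1dc201873002, 0xf4281c78882,
  0x16e08047c082, 0x110c381418801, 0x17c000061802, 0xc001808881, 0x104200808081, 0x10fc10146d002,
  0x8001405002, 0x105c000401802, 0x301c20881, 0x1f410142d003, 0xdc001404803, 0x10144c803, 0x101445003,
  0x10144e883, 0x1114281c38001, 0x10e6281816882, 0x110101020001, 0x113e00044f803, 0x110181808801,
  0x113618105c883, 0x42201014883, 0x16a28146d003, 0x178281c57803, 0x180038081, 0xbe00002f802, 0x13a00003b002,
  0x1c381428881, 0xec001c3b802, 0x1014281000881, 0x1164001c7f803, 0x1164100400003, 0x124300c11083,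
  0x12420087a883, 0x80410801, 0x104300c36882, 0x78000c7e882, 0x110c281410801, 0x1050181070083, 0x1f8101038083,
  0x11ae30003d003, 0x8100420081, 0x112c001061803, 0x1018181438881, 0x18301c45002, 0x10b0301867082,
  0x1008000c00801, 0x608041f083, 0x6080801883, 0x102c181001883, 0x1100000c18001, 0x154280021882, 0x4080049882,
  0x4080c57802, 0x18301c20081, 0x608041e803, 0x18300c18881, 0x1084080c46002, 0x18300000881, 0x18608001e003,
  0x1026280454083, 0x110c101838081, 0x11be200861802, 0x14281438081, 0x116e180811883, 0x1054081011883,
  0x105418087d083, 0x200815083, 0x12200811883, 0x132280800003, 0x10e2280800003, 0x11ca380879883,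
  0x10200830801, 0x10fc381046882, 0x18001020001, 0xec180046882, 0x1100301c38001, 0x1196280c1e883,
  0x6080c0a083, 0x114200830801, 0x120180052082, 0x120080010002, 0x180408001, 0x80408081, 0x8000401802,
  0x100080020081, 0x1088000400003, 0x1188100448003, 0x119e101c53883, 0x10c201820801, 0x119e30186d083,
  0x1188300876883, 0x300c7c803, 0x105430087d083, 0x108381430801, 0xde001859882, 0x1106081831882,
  0x150080835082, 0x10420085d082, 0x180038001, 0x50200835082, 0x408085d082, 0x4080443882, 0xc000408001,
  0x10fc380c46002, 0x10ea381069082, 0x1118381430801, 0x1cc00006c802, 0x18000c20881, 0x11d4001024802,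
  0x810106c802, 0x104300c28881, 0x1100101428001, 0xde00145d883, 0x101c181c30801, 0x114a200876803,
  0x1018180038001, 0xce00184d082, 0x1010380c30801, 0x111028147c803, 0x1108301810881, 0x1108281008081,
  0xc038182f802, 0x10018003b002, 0x100080079082, 0xee181879082, 0xee00003d002, 0x106e30043f082, 0x2810042a802,
  0x4000c10081, 0x101e08001e003, 0x10001810081, 0x10aa38142d003, 0x10aa201861803, 0x115a181809803,
  0x108381410881, 0x1172200c18883, 0x1160201837003, 0xe0281c3d083, 0x1c381830881, 0x1176201037803,
  0x201020081, 0x30007b003, 0x110c101420801, 0x1a001c1a082, 0x13a181c0b802, 0xc180400001, 0x104000030801,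
  0x10a0181042083, 0x10b6181879803, 0x1c001418081, 0x8000020001, 0x108100028001, 0x18301038801,
  0x1104201030801, 0x17c181856883, 0xc181c38001, 0x119a20140e882, 0x380028001, 0x1008200020001,
  0x1178281018083, 0x1178380c46003, 0x100c201430881, 0x100c300838881, 0x117c301079803, 0x10b430007d003,
  0x1104001830801, 0x10bc381407003, 0x10bc201c72883, 0xc2381472883, 0x1ea201049083, 0x11a8000448003,
  0x8100028001, 0x11b6381c12082, 0x301c38001, 0x12201026883, 0x200837803, 0x101c080c18001, 0x124180421882,
  0x136181c0b802, 0x1108201000001, 0x8101408081, 0x109a001404803, 0xde000c00003, 0x104280830881,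
  0x2800106a083, 0x2810140b803, 0x6080c0b803, 0x6080015883, 0x18301038081, 0x1ec100400003, 0x14281428001,
  0x11b638083a082, 0x1c00881, 0x600081a082, 0x12018001a082, 0x180400001, 0x800040b802, 0x100180028081,
  0x10a8100400003, 0x10be10182a083, 0x118808102a083, 0x1188101876883, 0x101c281428001, 0x1180081834083,
  0x1d6080830883, 0x201010801, 0x1014200010001, 0x100300038001, 0x11ce28184d082, 0x1112281825082,
  0x1032281c56802, 0x10e6301c1e802, 0xc180008881, 0x11ce301c45002, 0x101c281c28801, 0x1072280454882,
  0x600041c882, 0x6000c19802, 0x600041d082, 0x10ae380037002, 0x10001837002, 0x11b8101c1d082, 0x1000100000001,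
  0x11a4100008002, 0x8101000881, 0x1018300000001, 0xc038185b802, 0x10001833802, 0x10001036882, 0xee181836882,
  0xee000072802, 0x10ae200c73882, 0x11c181830001, 0x100c08100b883, 0x108180408001, 0x1092380073003,
  0x11b2300428883, 0x14281c28081, 0x1ea38141e803, 0xc2381407003, 0x108000028001, 0x1080080442003,
  0x115a080456803, 0x280838881, 0x301038881, 0x1fe300c18002, 0x6000c18002, 0x1114280000001, 0x100c180000001,
  0xdc000c58003, 0x124300c58003, 0x124200833803, 0x1f408085b803, 0x1110200408881, 0x1da10102f803,
  0x1cc100424803, 0x100c001800001, 0x1fe300c20802, 0x1fe281457802, 0x1076281c43002, 0x1d6181c69082,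
  0x4000810801, 0x117a381c21082, 0x1da181c03002, 0x1cc180008002, 0x116c080008002, 0x116c181877002,
  0x101c200430881, 0x1168100c58882, 0x80418801, 0x16a38144c082, 0x10a4181448882, 0x118400142a802,
  0x10c381830001, 0x1092081c53883, 0x80408001, 0x120100079082, 0x120000033002, 0x180400081, 0x28000061802,
  0x2810002b882, 0x111c280c30081, 0x1fe38001e003, 0x1fe201861803, 0x301020001, 0xf6280006883, 0x1056000404803,
  0x1008181408081, 0x408085c802, 0x4080442002, 0x11ce080c56802, 0x11d8080058002, 0x10001810881,
  0x1046000c00003, 0x1054000c04803, 0x80c4c803, 0x80c46003]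

theorem wlabels_ok : labels (zp 0) wpath = wlabs := by decide +kernel

/-- `a` is different from all entries -/
def neA (a : ℕ) : List ℕ → Bool
  | [] => true
  | b :: l => !(Nat.beq a b) && neA a l

/-- no repetition -/
def noD : List ℕ → Bool
  | [] => true
  | a :: l => neA a l && noD l

theorem neA_sound {a : ℕ} : ∀ {l : List ℕ}, neA a l = true → a ∉ l := by
  intro l
  induction l with
  | nil => intro _; exact List.not_mem_nil
  | cons b l ih =>
    intro h
    rw [neA, Bool.and_eq_true] at h
    rw [List.mem_cons, not_or]
    refine ⟨fun h1 => ?_, ih h.2⟩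
    subst h1
    have h2 := h.1
    rw [Nat.beq_refl] at h2
    exact absurd h2 (by decide)

theorem noD_sound : ∀ {l : List ℕ}, noD l = true → l.Nodup := by
  intro l
  induction l with
  | nil => intro _; exact List.nodup_nil
  | cons a l ih =>
    intro h
    rw [noD, Bool.and_eq_true] at h
    exact List.nodup_cons.2 ⟨neA_sound h.1, ih h.2⟩

/-- no repetition, checked in residue classes -/
theorem nodup_of_mod {l : List ℕ} (m : ℕ) (hm : 0 < m)
    (h : ((List.range m).all fun i => noD (l.filter fun a => Nat.beq (a % m) i)) = true) : l.Nodup := by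
  rw [List.nodup_iff_count_le_one]
  intro a
  have h1 := List.all_eq_true.1 h (a % m) (List.mem_range.2 (Nat.mod_lt _ hm))
  have h2 := List.nodup_iff_count_le_one.1 (noD_sound h1) a
  rwa [List.count_filter (by rw [Nat.beq_refl])] at h2

private noncomputable def _root_.Cfsg.Agent.KO85821d2.k35.{ku0} : type_of% @List.all.{ku0} := @(fun x0 x1 x2 => @List.rec.{(ku0+1), ku0} @x0 @(fun x3 => (@x0 → @Bool) → @Bool) @(fun x3 => @Bool.true) @(fun x3 x4 x5 x6 => @Bool.rec.{1} @(fun x7 => @Bool) @Bool.false (@x5 @x6) (@x6 @x3)) @x1 @x2)
private theorem _root_.Cfsg.Agent.KO85821d2.e35.{ku0} : @List.all.{ku0} = @_root_.Cfsg.Agent.KO85821d2.k35.{ku0} := by delta _root_.Cfsg.Agent.KO85821d2.k35; funext a0 a1 a2; refine (congrFun (_root_.Cfsg.Agent.KO85821d2.e9 (fun a1 a2 => @List.all.{ku0} a0 a1 a2) ?_ (fun c0 c1 => ?_) a1) a2 :) <;> (rfl')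
private noncomputable def _root_.Cfsg.Agent.KO85821d2.k36 : type_of% @List.range.loop := @(fun x0 x1 => @Nat.rec.{1} @(fun x2 => (@List.{0} ℕ) → @List.{0} ℕ) @(fun x2 => @x2) @(fun x2 x3 x4 => @x3 (@x2 :: @x4)) @x0 @x1)
private theorem _root_.Cfsg.Agent.KO85821d2.e36 : @List.range.loop = @_root_.Cfsg.Agent.KO85821d2.k36 := by delta _root_.Cfsg.Agent.KO85821d2.k36; funext a0 a1; refine (congrFun (_root_.Cfsg.Agent.KO85821d2.e15 (fun a0 a1 => @List.range.loop a0 a1) ?_ (fun c0 => ?_) a0) a1 :) <;> (rfl')
private noncomputable def _root_.Cfsg.Agent.KO85821d2.k37 : type_of% @List.range := @(fun x0 => @Cfsg.Agent.KO85821d2.k36 @x0 [])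
private theorem _root_.Cfsg.Agent.KO85821d2.e37 : @List.range = @_root_.Cfsg.Agent.KO85821d2.k37 := by delta _root_.Cfsg.Agent.KO85821d2.k37; rewrite [← Cfsg.Agent.KO85821d2.e36]; rfl'
private noncomputable def _root_.Cfsg.Agent.KO85821d2.k38 : (by first | exact type_of% @Cfsg.Agent.H29.TitsWalk.neA | exact Unit : Sort _) := by first | (refine @Subtype.val _ (fun g => @Cfsg.Agent.H29.TitsWalk.neA = @g) (@Subtype.mk _ _ (@(fun x0 x1 => @List.rec.{1, 0} ℕ @(fun x2 => @Bool) @Bool.true @(fun x2 x3 x4 => @Bool.rec.{1} @(fun x5 => @Bool) @Bool.false @x4 (@Bool.rec.{1} @(fun x5 => @Bool) @Bool.true @Bool.false (@Nat.beq @x0 @x2))) @x1)) ?_); funext a0 a1; refine (_root_.Cfsg.Agent.KO85821d2.e9 (fun a1 => @Cfsg.Agent.H29.TitsWalk.neA a0 a1) ?_ (fun c0 c1 => ?_) a1 :) <;> (rfl')) | exact @Cfsg.Agent.H29.TitsWalk.neA | exact ()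
private theorem _root_.Cfsg.Agent.KO85821d2.e38 : (by first | exact @Cfsg.Agent.H29.TitsWalk.neA = @_root_.Cfsg.Agent.KO85821d2.k38 | exact True : Prop) := by first | (delta _root_.Cfsg.Agent.KO85821d2.k38; exact @Subtype.property _ (fun g => @Cfsg.Agent.H29.TitsWalk.neA = @g) _) | rfl | trivial
private noncomputable def _root_.Cfsg.Agent.KO85821d2.k39 : (by first | exact type_of% @Cfsg.Agent.H29.TitsWalk.noD | exact Unit : Sort _) := by first | (refine @Subtype.val _ (fun g => @Cfsg.Agent.H29.TitsWalk.noD = @g) (@Subtype.mk _ _ (@(fun x0 => @List.rec.{1, 0} ℕ @(fun x1 => @Bool) @Bool.true @(fun x1 x2 x3 => @Bool.rec.{1} @(fun x4 => @Bool) @Bool.false @x3 (@Cfsg.Agent.KO85821d2.k38 @x1 @x2)) @x0)) ?_); rewrite [← Cfsg.Agent.KO85821d2.e38]; funext a0; refine (_root_.Cfsg.Agent.KO85821d2.e9 (fun a0 => @Cfsg.Agent.H29.TitsWalk.noD a0) ?_ (fun c0 c1 => ?_) a0 :) <;> ((try delta Cfsg.Agent.H29.TitsWalk.noD Cfsg.Agent.H29.TitsWalk.noD._f); (try generalize @Cfsg.Agent.H29.TitsWalk.neA = g0); rfl')) | exact @Cfsg.Agent.H29.TitsWalk.noD | exact ()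
private theorem _root_.Cfsg.Agent.KO85821d2.e39 : (by first | exact @Cfsg.Agent.H29.TitsWalk.noD = @_root_.Cfsg.Agent.KO85821d2.k39 | exact True : Prop) := by first | (delta _root_.Cfsg.Agent.KO85821d2.k39; exact @Subtype.property _ (fun g => @Cfsg.Agent.H29.TitsWalk.noD = @g) _) | rfl | trivial
private noncomputable def _root_.Cfsg.Agent.KO85821d2.k40.{ku0} : type_of% @List.filter.{ku0} := @(fun x0 x1 x2 => @List.rec.{(ku0+1), ku0} @x0 @(fun x3 => @List.{ku0} @x0) [] @(fun x3 x4 x5 => @Bool.rec.{(ku0+1)} @(fun x6 => @List.{ku0} @x0) @x5 (@x3 :: @x5) (@x1 @x3)) @x2)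
private theorem _root_.Cfsg.Agent.KO85821d2.e40.{ku0} : @List.filter.{ku0} = @_root_.Cfsg.Agent.KO85821d2.k40.{ku0} := by delta _root_.Cfsg.Agent.KO85821d2.k40; funext a0 a1 a2; refine (_root_.Cfsg.Agent.KO85821d2.e9 (fun a2 => @List.filter.{ku0} a0 a1 a2) ?_ (fun c0 c1 => ?_) a2 :) <;> (rfl')

theorem wlabs_nodup : wlabs.Nodup := nodup_of_mod 37 (by norm_num) (by (first | (rewrite [Cfsg.Agent.KO85821d2.e35.{0}, Cfsg.Agent.KO85821d2.e37, Cfsg.Agent.KO85821d2.e39, Cfsg.Agent.KO85821d2.e40.{0}]; decide +kernel) | decide +kernel))

theorem wlabs_length : wlabs.length = 878 := by decide +kernel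

theorem wpath_lt : wpath.all (fun j => Nat.blt j 8) = true := by decide +kernel

theorem exists_of_mem' {a : ℕ} (ha : a ∈ wlabs) : ∃ g : ↥(commutator ChevalleyStructure.Tits.Order.H0), ∃ X,
    toMat X = _root_.Cfsg.Agent.Omega.TitsIso.Model.mt (g * ZC 0 * g⁻¹) ∧ lab X = a := by
  rw [← wlabels_ok] at ha
  have hlt : ∀ j ∈ wpath, j < 8 := by
    have h := wpath_lt
    rw [List.all_eq_true] at h
    intro j hj
    have := h j hj
    rwa [Nat.blt_eq] at this
  obtain ⟨Y, ⟨g, hg⟩, hY⟩ := labels_cl wpath hlt (zp 0) isCl_zero a ha
  exact ⟨g, Y, hg, hY⟩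

/-- **The class of `ZC 0` has at least 878 elements.** -/
theorem le_index' : 878 ≤ (Subgroup.centralizer ({ZC 0} : Set ↥(commutator ChevalleyStructure.Tits.Order.H0))).index := by
  classical
  choose g X hg hX using fun a : {a // a ∈ wlabs.toFinset} => exists_of_mem' (List.mem_toFinset.1 a.2)
  have hinj : Function.Injective fun a : {a // a ∈ wlabs.toFinset} =>
      (QuotientGroup.mk (g a) : ↥(commutator ChevalleyStructure.Tits.Order.H0) ⧸ Subgroup.centralizer ({ZC 0} : Set ↥(commutator ChevalleyStructure.Tits.Order.H0))) := by
    intro a b hab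
    have h1 := QuotientGroup.eq.1 hab
    rw [Subgroup.mem_centralizer_singleton_iff] at h1
    have h2 : g a * ZC 0 * (g a)⁻¹ = g b * ZC 0 * (g b)⁻¹ := by
      have h3 : (g a)⁻¹ * g b * ZC 0 = ZC 0 * ((g a)⁻¹ * g b) := h1
      rw [mul_inv_eq_iff_eq_mul]
      calc g a * ZC 0 = g a * (ZC 0 * ((g a)⁻¹ * g b)) * ((g b)⁻¹ * g a) := by group
        _ = g a * ((g a)⁻¹ * g b * ZC 0) * ((g b)⁻¹ * g a) := by rw [h3]
        _ = g b * ZC 0 * (g b)⁻¹ * g a := by group
    have h4 : toMat (X a) = toMat (X b) := by rw [hg a, hg b, h2]
    have h5 := lab_eq h4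
    rw [hX a, hX b] at h5
    exact Subtype.ext h5
  have h6 : Nat.card {a // a ∈ wlabs.toFinset} = 878 := by
    rw [Nat.card_eq_fintype_card, Fintype.card_coe, List.toFinset_card_of_nodup wlabs_nodup, wlabs_length]
  rw [← h6]
  have hfin : Finite ↥(commutator ChevalleyStructure.Tits.Order.H0) := Subtype.finite
  exact Nat.card_le_card_of_injective _ hinj

end Cfsg.Agent.H29.TitsWalk
end

-- part: H29/TitsHom
section
/-!
# The `27`-dimensional representation of the Tits group: the homomorphism

`exists_hom` : there is a homomorphism `σ : T →* GL 27 ℂ` with `σ (ZC i) = ZG (i + 1)`, where `T` is the derived subgroup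
of `²F₄(2)` and `ZC i` are its eight involutions.
-/

set_option autoImplicit false

namespace Cfsg.Agent.H29.TitsHom

open Cfsg.Agent.H29.TitsMat Cfsg.Agent.Omega.TitsIso Cfsg.Agent.Omega.TitsIso.TitsSideRel
  Cfsg.Agent.Omega.TitsIso.TitsSide

/-! ### rational Gaussian numbers -/

/-- the numbers with rational coordinates -/
def QI : Subring ℂ where
  carrier := {z | ∃ x y : ℚ, z = x + y * Complex.I}
  mul_mem' := by
    rintro _ _ ⟨x, y, rfl⟩ ⟨u, v, rfl⟩
    refine ⟨x * u - y * v, x * v + y * u, ?_⟩
    push_cast
    linear_combination (y * v : ℂ) * Complex.I_mul_I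
  one_mem' := ⟨1, 0, by simp⟩
  add_mem' := by
    rintro _ _ ⟨x, y, rfl⟩ ⟨u, v, rfl⟩
    exact ⟨x + u, y + v, by push_cast; ring⟩
  zero_mem' := ⟨0, 0, by simp⟩
  neg_mem' := by
    rintro _ ⟨x, y, rfl⟩
    exact ⟨-x, -y, by push_cast; ring⟩

theorem eq_one_of_cube {z : ℂ} (hz : z ∈ QI) (h : z ^ 3 = 1) : z = 1 := by
  obtain ⟨x, y, rfl⟩ := hz
  have h1 : ((x : ℂ) + y * Complex.I - 1) * (((x : ℂ) + y * Complex.I) ^ 2 + ((x : ℂ) + y * Complex.I) + 1) = 0 := by
    linear_combination h
  rcases mul_eq_zero.1 h1 with h2 | h2
  · exact sub_eq_zero.1 h2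
  exfalso
  have h3 : (((x ^ 2 - y ^ 2 + x + 1 : ℚ) : ℝ) : ℂ) + (((2 * x * y + y : ℚ) : ℝ) : ℂ) * Complex.I = 0 := by
    push_cast
    linear_combination h2 + (-(y : ℂ) ^ 2) * Complex.I_mul_I
  have hre := congrArg Complex.re h3
  have him := congrArg Complex.im h3
  rw [Complex.add_re, Complex.re_ofReal_mul, Complex.ofReal_re, Complex.I_re, mul_zero, add_zero, Complex.zero_re] at hre
  rw [Complex.add_im, Complex.im_ofReal_mul, Complex.ofReal_im, Complex.I_im, mul_one, zero_add, Complex.zero_im] at him
  have hre' : x ^ 2 - y ^ 2 + x + 1 = 0 := by exact_mod_cast hre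
  have him' : 2 * x * y + y = 0 := by exact_mod_cast him
  have h4 : y * (2 * x + 1) = 0 := by linear_combination him'
  rcases mul_eq_zero.1 h4 with rfl | h5
  · linarith only [hre', sq_nonneg (2 * x + 1)]
  · have hx : x = -1 / 2 := by linarith
    subst hx
    have h6 : (2 * y) * (2 * y) = 3 := by linear_combination (-4) * hre'
    have h7 : IsSquare (3 : ℚ) := ⟨2 * y, h6.symm⟩
    have h8 : ¬ IsSquare (3 : ℚ) := by
      rw [Rat.isSquare_iff]
      rintro ⟨⟨n, hn⟩, -⟩
      have hn' : (3 : ℤ) = n * n := hn
      have h9 : n < 2 := by nlinarith only [hn']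
      have h10 : -2 < n := by nlinarith only [hn']
      interval_cases n <;> omega
    exact h8 h7

theorem eq_one_of_pow {z : ℂ} (hz : z ∈ QI) (h : z ^ 27 = 1) : z = 1 := by
  have h1 : z ^ 9 = 1 := eq_one_of_cube (pow_mem hz 9) (by rw [← pow_mul]; exact h)
  have h2 : z ^ 3 = 1 := eq_one_of_cube (pow_mem hz 3) (by rw [← pow_mul]; exact h1)
  exact eq_one_of_cube hz h2

/-- the matrices with coordinates in `QI` -/
def EF : Subgroup (GL (Fin 27) ℂ) where
  carrier := {m | (∀ i j, (m : Matrix (Fin 27) (Fin 27) ℂ) i j ∈ QI) ∧
    ∀ i j, ((m⁻¹ : GL (Fin 27) ℂ) : Matrix (Fin 27) (Fin 27) ℂ) i j ∈ QI}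
  mul_mem' := by
    rintro a b ⟨h1, h2⟩ ⟨h3, h4⟩
    refine ⟨fun i j => ?_, fun i j => ?_⟩
    · rw [Units.val_mul, Matrix.mul_apply]
      exact sum_mem fun k _ => mul_mem (h1 i k) (h3 k j)
    · rw [mul_inv_rev, Units.val_mul, Matrix.mul_apply]
      exact sum_mem fun k _ => mul_mem (h4 i k) (h2 k j)
  one_mem' := by
    have h : ∀ i j, ((1 : GL (Fin 27) ℂ) : Matrix (Fin 27) (Fin 27) ℂ) i j ∈ QI := by
      intro i j
      rw [Units.val_one, Matrix.one_apply]
      split
      · exact one_mem _
      · exact zero_mem _
    exact ⟨h, by rw [inv_one]; exact h⟩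
  inv_mem' := by
    rintro a ⟨h1, h2⟩
    exact ⟨h2, by rw [inv_inv]; exact h1⟩

/-- the embedding of the Gaussian integers -/
noncomputable abbrev phi : GaussianInt →+* ℂ := GaussianInt.toComplex

theorem phi_mem (z : GaussianInt) : phi z ∈ QI := by
  refine ⟨z.re, z.im, ?_⟩
  rw [phi, GaussianInt.toComplex_def]
  push_cast
  rfl

theorem GM_mem (a : ℕ) (i j : Fin 27) : GM phi a i j ∈ QI := by
  rw [GM_apply]
  refine mul_mem ⟨4⁻¹, 0, by push_cast; ring⟩ (phi_mem _)

theorem ZG_mem (i : ZMod 8) : ZG phi i ∈ EF := ⟨GM_mem _, GM_mem _⟩

/-! ### the line of the first basis vector -/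

/-- the matrices whose first column is `± e₀` -/
def LS : Subgroup (GL (Fin 27) ℂ) where
  carrier := {m | ∃ c : ℂ, (c = 1 ∨ c = -1) ∧ ∀ i, (m : Matrix (Fin 27) (Fin 27) ℂ) i 0 = if i = 0 then c else 0}
  mul_mem' := by
    rintro a b ⟨c, hc, h1⟩ ⟨d, hd, h2⟩
    refine ⟨c * d, ?_, fun i => ?_⟩
    · rcases hc with rfl | rfl <;> rcases hd with rfl | rfl <;> simp
    · rw [Units.val_mul, Matrix.mul_apply, Finset.sum_eq_single 0]
      · rw [h1, h2, if_pos rfl]
        split <;> simp
      · intro t _ ht
        rw [h2, if_neg ht, mul_zero]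
      · exact fun h => absurd (Finset.mem_univ _) h
  one_mem' := ⟨1, Or.inl rfl, fun i => by rw [Units.val_one, Matrix.one_apply]⟩
  inv_mem' := by
    rintro a ⟨c, hc, h1⟩
    have hcc : c * c = 1 := by rcases hc with rfl | rfl <;> norm_num
    refine ⟨c, hc, fun i => ?_⟩
    have h2 : ((a⁻¹ : GL (Fin 27) ℂ) : Matrix (Fin 27) (Fin 27) ℂ) * (a : Matrix (Fin 27) (Fin 27) ℂ) = 1 := by
      rw [← Units.val_mul, inv_mul_cancel, Units.val_one]
    have h3 := congrFun (congrFun h2 i) 0
    rw [Matrix.mul_apply, Finset.sum_eq_single 0, h1, if_pos rfl, Matrix.one_apply] at h3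
    · calc _ = ((a⁻¹ : GL (Fin 27) ℂ) : Matrix (Fin 27) (Fin 27) ℂ) i 0 * (c * c) := by rw [hcc, mul_one]
        _ = (if i = 0 then 1 else 0) * c := by rw [← h3]; ring
        _ = if i = 0 then c else 0 := by split <;> simp
    · intro t _ ht
      rw [h1, if_neg ht, mul_zero]
    · exact fun h => absurd (Finset.mem_univ _) h

theorem col_pos : ∀ a ∈ [z0, z1, z2, cm, c2], ∀ i : Fin 27, nib a (27 * i + (0 : Fin 27)) = if i = 0 then 5 else 0 := by
  decide +kernel

theorem col_min : ∀ a ∈ [z3, z7], ∀ i : Fin 27, nib a (27 * i + (0 : Fin 27)) = if i = 0 then 7 else 0 := by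
  decide +kernel

theorem col_gg : nib gg (27 * (0 : Fin 27) + (0 : Fin 27)) = 6 := by
  decide +kernel

theorem mem_LS_of_pos {m : GL (Fin 27) ℂ} {a : ℕ} (h : V phi m a) (ha : a ∈ [z0, z1, z2, cm, c2]) : m ∈ LS := by
  refine ⟨1, Or.inl rfl, fun i => ?_⟩
  rw [h, GM_apply, col_pos a ha i]
  split
  · have : gs 5 = 4 := rfl
    rw [this, map_ofNat]
    norm_num
  · have : gs 0 = 0 := rfl
    rw [this, map_zero, mul_zero]

theorem mem_LS_of_neg {m : GL (Fin 27) ℂ} {a : ℕ} (h : V phi m a) (ha : a ∈ [z3, z7]) : m ∈ LS := by
  refine ⟨-1, Or.inr rfl, fun i => ?_⟩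
  rw [h, GM_apply, col_min a ha i]
  split
  · have : gs 7 = -4 := rfl
    rw [this, map_neg, map_ofNat]
    norm_num
  · have : gs 0 = 0 := rfl
    rw [this, map_zero, mul_zero]

theorem not_mem_LS {m : GL (Fin 27) ℂ} (h : V phi m gg) : m ∉ LS := by
  rintro ⟨c, hc, h1⟩
  have h2 := h1 0
  rw [if_pos rfl, h, GM_apply, col_gg] at h2
  have h3 : gs 6 = ⟨0, 4⟩ := rfl
  rw [h3, phi, GaussianInt.toComplex_def] at h2
  have h4 := congrArg Complex.re h2
  rcases hc with rfl | rfl <;> simp at h4

/-! ### consequences of the relations -/

section Rel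

variable {M : Type*} [Group M] {Z : ZMod 8 → M}

/-- Consecutive involutions are conjugate. -/
theorem conj_succ (h : TitsRel Z) (i : ZMod 8) : ∃ g, g * Z (i + 2) * g⁻¹ = Z (i + 3) := by
  have h1 := h.r i
  have h2 := h.l (i + 4)
  have e1 : i + 4 - 2 = i + 2 := by ring
  have e2 : i + 4 - 1 = i + 3 := by ring
  rw [e1, e2] at h2
  have h3 := h.c1 (i + 2)
  have e3 : i + 2 + 1 = i + 3 := by ring
  rw [e3] at h3
  refine ⟨(C Z i)⁻¹ * C Z (i + 4), ?_⟩
  calc (C Z i)⁻¹ * C Z (i + 4) * Z (i + 2) * ((C Z i)⁻¹ * C Z (i + 4))⁻¹
      = (C Z i)⁻¹ * (C Z (i + 4) * Z (i + 2) * (C Z (i + 4))⁻¹) * C Z i := by group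
    _ = (C Z i)⁻¹ * (Z (i + 2) * Z (i + 3)) * C Z i := by rw [h2, ← h3]
    _ = Z (i + 3) := by rw [← h1]; group

theorem conj_zero (h : TitsRel Z) (i : ZMod 8) : ∃ g, g * Z 0 * g⁻¹ = Z i := by
  have key : ∀ n : ℕ, ∃ g, g * Z 0 * g⁻¹ = Z (n : ZMod 8) := by
    intro n
    induction n with
    | zero => exact ⟨1, by simp⟩
    | succ n ih =>
      obtain ⟨g, hg⟩ := ih
      obtain ⟨k, hk⟩ := conj_succ h ((n : ZMod 8) - 2)
      refine ⟨k * g, ?_⟩
      have e1 : (n : ZMod 8) - 2 + 2 = n := by ring
      have e2 : (n : ZMod 8) - 2 + 3 = ((n + 1 : ℕ) : ZMod 8) := by push_cast; ring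
      rw [e1, e2] at hk
      rw [← hk, ← hg]
      group
  obtain ⟨g, hg⟩ := key i.val
  rw [ZMod.natCast_zmod_val] at hg
  exact ⟨g, hg⟩

theorem TitsRel_abelian {A : Type*} [CommGroup A] (h : TitsRel Z) (f : M →* A) (i : ZMod 8) : f (Z i) = 1 := by
  have h1 := congrArg f (h.r (i - 2))
  have e : i - 2 + 2 = i := by ring
  rw [e, map_mul, map_mul, map_mul, map_inv, mul_comm (f (C Z (i - 2))), mul_inv_cancel_right] at h1
  exact (right_eq_mul.1 h1)

end Rel

/-! ### the product -/

theorem titsRel_shift {M : Type*} [Group M] {Z : ZMod 8 → M} (h : TitsRel Z) (k : ZMod 8) :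
    TitsRel (fun i => Z (i + k)) := by
  have hC : ∀ i, C (fun i => Z (i + k)) i = C Z (i + k) := by
    intro i
    unfold C
    beta_reduce
    rw [show i - 1 + k = i + k - 1 by ring, show i + 2 + k = i + k + 2 by ring, show i + 1 + k = i + k + 1 by ring]
  refine ⟨fun i => h.sq _, fun i => ?_, fun i => ?_, fun i => ?_, fun i => ?_, fun i => ?_, fun i => ?_⟩
  · rw [show i + 1 + k = i + k + 1 by ring]; exact h.c1 _
  · rw [show i + 2 + k = i + k + 2 by ring]; exact h.c2 _
  · rw [show i + 3 + k = i + k + 3 by ring]; exact h.o4 _
  · rw [show i + 4 + k = i + k + 4 by ring]; exact h.o5 _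
  · rw [hC, show i + 3 + k = i + k + 3 by ring, show i + 2 + k = i + k + 2 by ring]; exact h.r _
  · rw [hC, show i - 2 + k = i + k - 2 by ring, show i - 1 + k = i + k - 1 by ring]; exact h.l _

/-- the derived subgroup of `²F₄(2)` -/
abbrev T : Type := ↥(commutator ChevalleyStructure.Tits.Order.H0)

/-- the eight involutions, rotated -/
noncomputable def Zg (i : ZMod 8) : GL (Fin 27) ℂ := ZG phi (i + 1)

theorem titsRel_Zg : TitsRel Zg := titsRel_shift (titsRel_ZG phi) 1

theorem C_Zg (i : ZMod 8) : C Zg i = C (ZG phi) (i + 1) := by
  unfold C Zg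
  rw [show i - 1 + 1 = i + 1 - 1 by ring, show i + 2 + 1 = i + 1 + 2 by ring]

/-- The first involutions and their products are in `LS`. -/
theorem Zg_mem_LS : Zg (-2) ∈ LS ∧ Zg (-1) ∈ LS ∧ Zg 0 ∈ LS ∧ Zg 1 ∈ LS ∧ Zg 2 ∈ LS ∧ C Zg (-2) ∈ LS ∧
    C Zg (-1) ∈ LS ∧ C Zg 0 ∈ LS ∧ C Zg 1 ∈ LS := by
  have a7 : ZG phi 7 ∈ LS := mem_LS_of_neg (vz7 phi) (by simp)
  have a0 : ZG phi 0 ∈ LS := mem_LS_of_pos (vz0 phi) (by simp)
  have a1 : ZG phi 1 ∈ LS := mem_LS_of_pos (vz1 phi) (by simp)
  have a2 : ZG phi 2 ∈ LS := mem_LS_of_pos (vz2 phi) (by simp)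
  have a3 : ZG phi 3 ∈ LS := mem_LS_of_neg (vz3 phi) (by simp)
  refine ⟨a7, a0, a1, a2, a3, ?_, ?_, ?_, ?_⟩
  · rw [C_Zg]
    exact mem_LS_of_pos (vcm phi) (by simp)
  · rw [C_Zg]
    exact mul_mem (pow_mem (mul_mem a7 a2) 2) (mul_mem a0 a1)
  · rw [C_Zg]
    exact mul_mem (pow_mem (mul_mem a0 a3) 2) (mul_mem a1 a2)
  · rw [C_Zg]
    exact mem_LS_of_pos (vc2 phi) (by simp)

/-- the word of the element of the centraliser of the first involution -/
def gw {M : Type*} [Group M] (Z : ZMod 8 → M) : M := Z 4 * Z 1 * Z 6 * (Z 4 * Z 1 * Z 6) * (Z 7 * Z 3)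

theorem v_gw : V phi (gw Zg) gg := by
  have h1 := ((vz5 phi).mul (vz2 phi) k_z5_z2).mul (vz7 phi) k_h1_z7
  exact (h1.mul h1 k_h2_h2).mul ((vz0 phi).mul (vz4 phi) k_z0_z4) k_h3_f1

theorem gw_comm_Zg : gw Zg * Zg 0 = Zg 0 * gw Zg :=
  (v_gw.mul (vz1 phi) k_gg_z1).eq ((vz1 phi).mul v_gw k_z1_gg)

theorem gw_chk : ChevalleyStructure.Tits.Data.chk (zz ([4, 1, 6, 4, 1, 6, 7, 3] ++ [0]), zz ([0] ++ [4, 1, 6, 4, 1, 6, 7, 3])) = true := by
  decide +kernel

theorem gw_comm_ZC : gw ZC * ZC 0 = ZC 0 * gw ZC := by
  apply Subtype.ext
  have h := rel_zz gw_chk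
  simp only [List.map_append, List.prod_append, List.map_cons, List.map_nil, List.prod_cons, List.prod_nil,
    mul_one, mul_assoc] at h
  change gw ZH * ZH 0 = ZH 0 * gw ZH
  unfold gw
  simp only [mul_assoc]
  exact h

instance finite_T : Finite T := Subtype.finite

instance simple_T : IsSimpleGroup T := ChevalleyStructure.Tits.Main.H0_result.2.1

theorem det_of_det {m : GL (Fin 27) ℂ} (h : Matrix.GeneralLinearGroup.det m = 1) :
    Matrix.det (m : Matrix (Fin 27) (Fin 27) ℂ) = 1 := by
  rw [← Matrix.GeneralLinearGroup.val_det_apply, h, Units.val_one]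

/-- **The homomorphism.** -/
theorem exists_hom : ∃ σ : T →* GL (Fin 27) ℂ, ∀ i, σ (ZC i) = Zg i := by
  classical
  set! S : Subgroup (GL (Fin 27) ℂ × T) := Subgroup.closure (Set.range (Zp Zg ZC)) with hS
  have hmem : ∀ i, Zp Zg ZC i ∈ S := fun i => Subgroup.subset_closure ⟨i, rfl⟩
  set! Z : ZMod 8 → S := fun i => ⟨Zp Zg ZC i, hmem i⟩ with hZ
  have hrel : TitsRel Z := TitsRel.of_injective S.subtype S.subtype_injective (titsRel_Zg.prod Model.titsRel_ZC)
  have hgen : Subgroup.closure (Set.range Z) = ⊤ := by
    apply Subgroup.map_injective S.subtype_injective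
    rw [MonoidHom.map_closure, ← Set.range_comp, ← MonoidHom.range_eq_map, Subgroup.range_subtype]
    exact hS.symm
  obtain ⟨hidx, hidx0⟩ := indexLe S Z hrel hgen
  set! p1 : S →* GL (Fin 27) ℂ := (MonoidHom.fst (GL (Fin 27) ℂ) T).comp S.subtype with hp1
  set! p2 : S →* T := (MonoidHom.snd (GL (Fin 27) ℂ) T).comp S.subtype with hp2
  have hp1Z : ∀ i, p1 (Z i) = Zg i := fun i => rfl
  have hp2Z : ∀ i, p2 (Z i) = ZC i := fun i => rfl
  have hp2s : Function.Surjective p2 := by
    rw [← MonoidHom.range_eq_top, eq_top_iff, ← closure_ZC, Subgroup.closure_le]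
    rintro _ ⟨i, rfl⟩
    exact ⟨Z i, hp2Z i⟩
  have hext : ∀ m m' : S, p1 m = p1 m' → p2 m = p2 m' → m = m' := by
    intro m m' h1 h2
    apply Subtype.ext
    exact Prod.ext h1 h2
  -- the element of the centraliser
  have hg1 : p1 (gw Z) = gw Zg := by
    unfold gw
    simp only [map_mul, hp1Z]
  have hg2 : p2 (gw Z) = gw ZC := by
    unfold gw
    simp only [map_mul, hp2Z]
  have hgc : gw Z * Z 0 = Z 0 * gw Z := by
    apply hext
    · simp only [map_mul, map_mul, hg1, hp1Z, gw_comm_Zg]
    · simp only [map_mul, map_mul, hg2, hp2Z, gw_comm_ZC]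
  have hC1 : ∀ i, p1 (C Z i) = C Zg i := by
    intro i
    unfold C
    simp only [map_mul, map_pow, hp1Z]
  have hle : Omega.TitsIso.H0 Z ≤ LS.comap p1 := by
    obtain ⟨b1, b2, b3, b4, b5, b6, b7, b8, b9⟩ := Zg_mem_LS
    rw [Omega.TitsIso.H0, Subgroup.closure_le]
    intro x hx
    rw [SetLike.mem_coe, Subgroup.mem_comap]
    simp only [Set.mem_insert_iff, Set.mem_singleton_iff] at hx
    rcases hx with h' | h' | h' | h' | h' | h' | h' | h' | h'
    · rw [h', hp1Z (-2)]; exact b1
    · rw [h', hp1Z (-1)]; exact b2
    · rw [h', hp1Z 0]; exact b3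
    · rw [h', hp1Z 1]; exact b4
    · rw [h', hp1Z 2]; exact b5
    · rw [h', hC1 (-2)]; exact b6
    · rw [h', hC1 (-1)]; exact b7
    · rw [h', hC1 0]; exact b8
    · rw [h', hC1 1]; exact b9
  have hgn : gw Z ∉ Omega.TitsIso.H0 Z := by
    intro h
    have h1 := hle h
    rw [Subgroup.mem_comap, hg1] at h1
    exact not_mem_LS v_gw h1
  set! Cz : Subgroup S := Subgroup.centralizer {Z 0} with hCz
  have hHC : Omega.TitsIso.H0 Z ≤ Cz := hrel.H0_le_centralizer
  have hgC : gw Z ∈ Cz := by
    rw [hCz, Subgroup.mem_centralizer_singleton_iff]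
    exact hgc
  have hmul := Subgroup.relIndex_mul_index hHC
  have hr1 : (Omega.TitsIso.H0 Z).relIndex Cz ≠ 1 := by
    rw [Ne, Subgroup.relIndex_eq_one]
    exact fun h => hgn (h hgC)
  have hr0 : (Omega.TitsIso.H0 Z).relIndex Cz ≠ 0 := by
    intro h
    rw [h, zero_mul] at hmul
    exact hidx0 hmul.symm
  have hCi : Cz.index ≤ 1755 := by
    have h2 : 2 ≤ (Omega.TitsIso.H0 Z).relIndex Cz := by omega
    have h3 : 2 * Cz.index ≤ (Omega.TitsIso.H0 Z).relIndex Cz * Cz.index := Nat.mul_le_mul_right _ h2
    omega
  have hCi0 : Cz.index ≠ 0 := by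
    intro h
    rw [h, mul_zero] at hmul
    exact hidx0 hmul.symm
  -- the preimage of the centraliser
  set! D : Subgroup S := (Subgroup.centralizer {ZC 0}).comap p2 with hD
  have hDi : D.index = (Subgroup.centralizer {ZC 0}).index := Subgroup.index_comap_of_surjective _ hp2s
  have hCD : Cz ≤ D := by
    intro x hx
    rw [hCz, Subgroup.mem_centralizer_singleton_iff] at hx
    simp only [hD, Subgroup.mem_comap, Subgroup.mem_centralizer_singleton_iff, ← hp2Z, ← map_mul, ← map_mul, hx]
  have hmul2 := Subgroup.relIndex_mul_index hCD
  have hDC : D ≤ Cz := by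
    rw [← Subgroup.relIndex_eq_one]
    by_contra h1
    have h0 : Cz.relIndex D ≠ 0 := by
      intro h
      rw [h, zero_mul] at hmul2
      exact hCi0 hmul2.symm
    have h2 : 2 ≤ Cz.relIndex D := by omega
    have h3 : 2 * D.index ≤ Cz.relIndex D * D.index := Nat.mul_le_mul_right _ h2
    have h4 := Cfsg.Agent.H29.TitsWalk.le_index'
    rw [← hDi] at h4
    omega
  -- the kernel
  have hN0 : ∀ n ∈ p2.ker, n * Z 0 = Z 0 * n := by
    intro n hn
    have h1 : n ∈ D := by
      rw [hD, Subgroup.mem_comap, (MonoidHom.mem_ker).1 hn]
      exact one_mem _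
    have h2 := hDC h1
    rw [hCz, Subgroup.mem_centralizer_singleton_iff] at h2
    exact h2
  have hNi : ∀ n ∈ p2.ker, ∀ i, n * Z i = Z i * n := by
    intro n hn i
    obtain ⟨g, hg⟩ := conj_zero hrel i
    have h1 : g⁻¹ * n * g ∈ p2.ker := by
      have := (inferInstance : p2.ker.Normal).conj_mem n hn g⁻¹
      rwa [inv_inv] at this
    have h2 := hN0 _ h1
    rw [← hg]
    calc n * (g * Z 0 * g⁻¹) = g * (g⁻¹ * n * g * Z 0) * g⁻¹ := by group
      _ = g * (Z 0 * (g⁻¹ * n * g)) * g⁻¹ := by rw [h2]
      _ = g * Z 0 * g⁻¹ * n := by group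
  have hEF : ∀ m : S, p1 m ∈ EF := by
    have h1 : (⊤ : Subgroup S) ≤ EF.comap p1 := by
      rw [← hgen, Subgroup.closure_le]
      rintro _ ⟨i, rfl⟩
      exact ZG_mem (i + 1)
    exact fun m => h1 (Subgroup.mem_top m)
  have hdet : ∀ m : S, Matrix.det (p1 m : Matrix (Fin 27) (Fin 27) ℂ) = 1 := by
    have h1 : (⊤ : Subgroup S) ≤ (Matrix.GeneralLinearGroup.det.comp p1).ker := by
      rw [← hgen, Subgroup.closure_le]
      rintro _ ⟨i, rfl⟩
      rw [SetLike.mem_coe, MonoidHom.mem_ker, MonoidHom.comp_apply, hp1Z]
      exact TitsRel_abelian titsRel_Zg Matrix.GeneralLinearGroup.det i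
    intro m
    have h2 := h1 (Subgroup.mem_top m)
    rw [MonoidHom.mem_ker] at h2
    exact det_of_det h2
  have hker : p2.ker = ⊥ := by
    rw [eq_bot_iff]
    intro n hn
    rw [Subgroup.mem_bot]
    obtain ⟨c, hc⟩ := commutant phi (D := (p1 n : Matrix (Fin 27) (Fin 27) ℂ)) (fun i => by
      have h1 := congrArg p1 (hNi n hn (i - 1))
      simp only [map_mul, map_mul, hp1Z] at h1
      have h2 : Zg (i - 1) = ZG phi i := by unfold Zg; rw [sub_add_cancel]
      rw [h2] at h1
      exact congrArg (fun u : GL (Fin 27) ℂ => (u : Matrix (Fin 27) (Fin 27) ℂ)) h1)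
    have h1 := hdet n
    rw [hc, Matrix.det_smul, Matrix.det_one, mul_one, Fintype.card_fin] at h1
    have h2 : c ∈ QI := by
      have h3 := (hEF n).1 0 0
      rw [hc, Matrix.smul_apply, Matrix.one_apply_eq, smul_eq_mul, mul_one] at h3
      exact h3
    have h3 := eq_one_of_pow h2 h1
    apply hext
    · rw [map_one]
      apply Units.ext
      rw [hc, h3, one_smul, Units.val_one]
    · rw [map_one]
      exact (MonoidHom.mem_ker).1 hn
  have hinj : Function.Injective p2 := (MonoidHom.ker_eq_bot_iff p2).1 hker
  let e : S ≃* T := MulEquiv.ofBijective p2 ⟨hinj, hp2s⟩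
  refine ⟨p1.comp e.symm.toMonoidHom, fun i => ?_⟩
  have h1 : e.symm (ZC i) = Z i := by
    rw [MulEquiv.symm_apply_eq]
    rfl
  change p1 (e.symm (ZC i)) = Zg i
  rw [h1, hp1Z]

end Cfsg.Agent.H29.TitsHom
end

-- part: H29/TitsExt
section
/-!
# The Tits group has an irreducible character of degree 27 which extends to the automorphism group

* `irreducible_of_scalar` : a representation over `ℂ` whose commutant is scalar is irreducible;
* `extPP_tits` : `ExtPP` of the Tits group.
-/

set_option autoImplicit false

namespace Cfsg.Agent.H29.TitsExt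

open Cfsg Cfsg.Agent.H29.TitsMat Cfsg.Agent.H29.TitsHom Cfsg.Agent.Omega.TitsIso
  Cfsg.Agent.Omega.TitsIso.TitsSideRel Cfsg.Agent.Omega.TitsIso.TitsSide Cfsg.Agent.H29.MinExt

theorem irreducible_of_scalar {G : Type*} [Group G] [Finite G] {V : Type*} [AddCommGroup V] [Module ℂ V]
    [Nontrivial V] (ρ : Representation ℂ G V)
    (h : ∀ f : V →ₗ[ℂ] V, (∀ g v, f (ρ g v) = ρ g (f v)) → ∃ c : ℂ, ∀ v, f v = c • v) : ρ.IsIrreducible := by
  rw [CharactersDeep.InvRep.isIrreducible_iff]
  refine ⟨inferInstance, fun p hp => ?_⟩
  obtain ⟨U, hU⟩ := Characters.Core.exists_isCompl_sub (⟨p, fun g v hv => hp g v hv⟩ : Subrepresentation ρ)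
  set q := U.toSubmodule with hq
  have hpq : IsCompl p q := hU
  have hqi : ∀ g, ∀ v ∈ q, ρ g v ∈ q := fun g v hv => U.apply_mem_toSubmodule g hv
  set! f := p.projection q hpq with hf
  have hfp : ∀ v ∈ p, f v = v := fun v hv => Submodule.projection_apply_left hpq ⟨v, hv⟩
  have hfq : ∀ v ∈ q, f v = 0 := fun v hv => Submodule.projection_apply_right hpq ⟨v, hv⟩
  have hfm : ∀ v, f v ∈ p := fun v => Submodule.projection_apply_mem hpq v
  obtain ⟨c, hc⟩ := h f (fun g v => by
    obtain ⟨a, ha, b, hb, rfl⟩ : ∃ a ∈ p, ∃ b ∈ q, a + b = v := by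
      have h1 : v ∈ p ⊔ q := by rw [hpq.sup_eq_top]; trivial
      exact Submodule.mem_sup.1 h1
    rw [map_add, map_add, map_add, hfp _ (hp g a ha), hfq _ (hqi g b hb), hfp a ha, hfq b hb, map_add, map_zero])
  by_cases hc0 : c = 0
  · left
    rw [eq_bot_iff]
    intro v hv
    rw [Submodule.mem_bot, ← hfp v hv, hc, hc0, zero_smul]
  · right
    rw [eq_top_iff]
    intro v _
    have h1 := hfm v
    rw [hc] at h1
    have h2 := p.smul_mem c⁻¹ h1
    rwa [smul_smul, inv_mul_cancel₀ hc0, one_smul] at h2

/-- the representation of a homomorphism to `GL` -/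
noncomputable def rep (σ : T →* GL (Fin 27) ℂ) : Representation ℂ T (Fin 27 → ℂ) :=
  ((Matrix.toLinAlgEquiv' : Matrix (Fin 27) (Fin 27) ℂ ≃ₐ[ℂ] _) : Matrix (Fin 27) (Fin 27) ℂ →* _).comp
    ((Units.coeHom _).comp σ)

theorem rep_apply (σ : T →* GL (Fin 27) ℂ) (t : T) :
    rep σ t = Matrix.toLin' (σ t : Matrix (Fin 27) (Fin 27) ℂ) := rfl

theorem character_rep (σ : T →* GL (Fin 27) ℂ) (t : T) :
    (rep σ).character t = Matrix.trace (σ t : Matrix (Fin 27) (Fin 27) ℂ) := by
  change LinearMap.trace ℂ _ (rep σ t) = _
  rw [rep_apply, Matrix.trace_toLin'_eq]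

theorem irreducible_rep {σ : T →* GL (Fin 27) ℂ} (hσ : ∀ i, σ (ZC i) = Zg i) : (rep σ).IsIrreducible := by
  apply irreducible_of_scalar
  intro f hf
  set! D := LinearMap.toMatrix' f with hD
  have hfD : f = Matrix.toLin' D := by rw [hD, Matrix.toLin'_toMatrix']
  obtain ⟨c, hc⟩ := commutant phi (D := D) (fun i => by
    have h1 : f ∘ₗ Matrix.toLin' (GM phi (zc i)) = Matrix.toLin' (GM phi (zc i)) ∘ₗ f := by
      ext1 v
      have h2 := fun w => hf (ZC (i - 1)) w
      rw [rep_apply, hσ] at h2
      have h3 : Zg (i - 1) = ZG phi i := by unfold Zg; rw [sub_add_cancel]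
      rw [h3] at h2
      exact LinearMap.ext fun w => h2 _
    have h4 := congrArg LinearMap.toMatrix' h1
    rw [LinearMap.toMatrix'_comp, LinearMap.toMatrix'_comp, LinearMap.toMatrix'_toLin'] at h4
    exact h4)
  refine ⟨c, fun v => ?_⟩
  rw [hfD, hc, map_smul, Matrix.toLin'_one]
  rfl

/-- the rotated element `y 7` -/
noncomputable def X : GL (Fin 27) ℂ := RG phi * XG phi * (RG phi)⁻¹

theorem RG_list (l : List (ZMod 8)) : RG phi * (l.map (ZG phi)).prod * (RG phi)⁻¹ = (l.map Zg).prod := by
  induction l with
  | nil => simp
  | cons a l ih =>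
    rw [List.map_cons, List.map_cons, List.prod_cons, List.prod_cons, ← ih]
    have h1 : Zg a = RG phi * ZG phi a * (RG phi)⁻¹ := by
      rw [TitsMat.R_mul, mul_inv_cancel_right]
      rfl
    rw [h1]
    group

theorem X_mul (i : ZMod 8) : X * Zg i = ((c7.getD i.val []).map Zg).prod * X := by
  have h1 : Zg i = RG phi * ZG phi i * (RG phi)⁻¹ := by
    rw [TitsMat.R_mul, mul_inv_cancel_right]
    rfl
  rw [← RG_list, h1]
  unfold X
  calc RG phi * XG phi * (RG phi)⁻¹ * (RG phi * ZG phi i * (RG phi)⁻¹)
      = RG phi * (XG phi * ZG phi i) * (RG phi)⁻¹ := by group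
    _ = RG phi * (((c7.getD i.val []).map (ZG phi)).prod * XG phi) * (RG phi)⁻¹ := by rw [XG_mul]
    _ = _ := by group

open Cfsg.Agent.ChevalleyStructure.Tits.Main in
theorem y7_mul (i : ZMod 8) : yH 7 * ZH i = ((c7.getD i.val []).map ZH).prod * yH 7 := by
  have h1 := rel_H (r_n7 i)
    (fun j hj => by
      rcases List.mem_append.1 hj with hj | hj
      · rw [List.mem_singleton] at hj; rw [hj]; norm_num
      · exact zw_lt i j hj)
    (fun j hj => by
      rcases List.mem_append.1 hj with hj | hj
      · exact zz_lt _ j hj
      · rw [List.mem_singleton] at hj; rw [hj]; norm_num)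
  rw [List.map_append, List.prod_append, List.map_append, List.prod_append, prod_zz, List.map_singleton,
    List.prod_singleton] at h1
  exact h1

open Cfsg.Agent.ChevalleyStructure.Tits.Main in
/-- conjugation by `y 7` -/
noncomputable def alpha : MulAut T := MulAut.conjNormal (yH 7)

open Cfsg.Agent.ChevalleyStructure.Tits.Main in
theorem alpha_ZC (i : ZMod 8) : alpha (ZC i) = ((c7.getD i.val []).map ZC).prod := by
  apply Subtype.ext
  unfold alpha
  rw [MulAut.conjNormal_apply]
  have h1 : ((ZC i : T) : ChevalleyStructure.Tits.Order.H0) = ZH i := rfl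
  rw [h1, y7_mul, mul_inv_cancel_right]
  have h2 : ∀ l : List (ZMod 8), (((l.map ZC).prod : T) : ChevalleyStructure.Tits.Order.H0) = (l.map ZH).prod := by
    intro l
    induction l with
    | nil => rfl
    | cons a l ih =>
      rw [List.map_cons, List.map_cons, List.prod_cons, List.prod_cons, ← ih, Subgroup.coe_mul]
      rfl
  exact (h2 _).symm

theorem sigma_list {σ : T →* GL (Fin 27) ℂ} (hσ : ∀ i, σ (ZC i) = Zg i) (l : List (ZMod 8)) :
    σ ((l.map ZC).prod) = (l.map Zg).prod := by
  rw [map_list_prod, List.map_map]
  congr 1
  exact List.map_congr_left fun i _ => hσ i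

/-- **The intertwiner.** -/
theorem X_conj {σ : T →* GL (Fin 27) ℂ} (hσ : ∀ i, σ (ZC i) = Zg i) (t : T) : X * σ t * X⁻¹ = σ (alpha t) := by
  have h : (MulAut.conj X).toMonoidHom.comp σ = σ.comp alpha.toMonoidHom := by
    refine MonoidHom.eq_of_eqOn_dense closure_ZC ?_
    rintro _ ⟨i, rfl⟩
    change X * σ (ZC i) * X⁻¹ = σ (alpha (ZC i))
    rw [alpha_ZC, sigma_list hσ, hσ, X_mul, mul_inv_cancel_right]
  exact congrArg (fun f : T →* GL (Fin 27) ℂ => f t) h

theorem trace_conj (a b : GL (Fin 27) ℂ) : Matrix.trace ((a * b * a⁻¹ : GL (Fin 27) ℂ) : Matrix (Fin 27) (Fin 27) ℂ) =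
    Matrix.trace (b : Matrix (Fin 27) (Fin 27) ℂ) := by
  rw [Units.val_mul, Matrix.trace_mul_comm, ← Units.val_mul, ← mul_assoc, inv_mul_cancel, one_mul]

open Cfsg.Agent.ChevalleyStructure.Tits.Main Cfsg.Agent.ChevalleyStructure.Tits.Order in
/-- **Invariance.** -/
theorem invariant {σ : T →* GL (Fin 27) ℂ} (hσ : ∀ i, σ (ZC i) = Zg i) (g : H0) (n : T) :
    Matrix.trace (σ (MulAut.conjNormal g n) : Matrix (Fin 27) (Fin 27) ℂ) =
      Matrix.trace (σ n : Matrix (Fin 27) (Fin 27) ℂ) := by
  have key : ∀ (t : T) (n : T), Matrix.trace (σ (MulAut.conjNormal (t : H0) n) : Matrix (Fin 27) (Fin 27) ℂ) =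
      Matrix.trace (σ n : Matrix (Fin 27) (Fin 27) ℂ) := by
    intro t n
    have h1 : MulAut.conjNormal (t : H0) n = t * n * t⁻¹ := Subtype.ext (by rw [MulAut.conjNormal_apply]; rfl)
    rw [h1, map_mul, map_mul, map_inv, trace_conj]
  by_cases hg : g ∈ commutator H0
  · exact key ⟨g, hg⟩ n
  · have h1 : g * (yH 7)⁻¹ ∈ commutator H0 := by
      rw [Subgroup.mul_mem_iff_of_index_two H0_result.1]
      refine iff_of_false hg fun h => Omega.TwoF.TitsAut.yH7_not_mem ?_
      rwa [inv_mem_iff] at h
    have h2 : g = g * (yH 7)⁻¹ * yH 7 := by group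
    have h3 : MulAut.conjNormal g n = MulAut.conjNormal (((⟨_, h1⟩ : T) : H0)) (alpha n) := by
      change MulAut.conjNormal g n = MulAut.conjNormal (g * (yH 7)⁻¹) (MulAut.conjNormal (yH 7) n)
      simp only [← MulAut.mul_apply, ← map_mul, ← h2]
    rw [h3, key, ← X_conj hσ, trace_conj]

section General

variable {Γ : Type*} [Group Γ] [Finite Γ] (N : Subgroup Γ) [N.Normal]

theorem bijective_of (hinj : Function.Injective (MulAut.conjNormal : Γ →* MulAut N)) (hidx : N.index = 2)
    (hout : Nat.card (Cfsg.Out N) ≤ 2) :
    Function.Bijective (MulAut.conjNormal : Γ →* MulAut N) := by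
  have h3 := Subgroup.card_mul_index (MulAut.conj : N →* MulAut N).range
  have h4 := Subgroup.card_mul_index N
  have h5 : Nat.card (MulAut.conj : N →* MulAut N).range ≤ Nat.card N :=
    Nat.card_le_card_of_surjective _ (MonoidHom.rangeRestrict_surjective _)
  rw [hidx] at h4
  rw [Nat.bijective_iff_injective_and_card]
  refine ⟨hinj, le_antisymm (Nat.card_le_card_of_injective _ hinj) ?_⟩
  rw [← h3, ← h4]
  rw [H55.OutGen.card_out_eq_index] at hout
  exact Nat.mul_le_mul h5 hout

theorem extPP_of (hinj : Function.Injective (MulAut.conjNormal : Γ →* MulAut N)) (hidx : N.index = 2)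
    (hout : Nat.card (Cfsg.Out N) ≤ 2) {χ : Γ → ℂ} (hχ : IsIrrCharacter Γ χ)
    (hr : IsIrrCharacter N (fun n => χ n)) {d : ℕ} (hd : IsPrimePow d) (h1 : χ 1 = d) : ExtPP N := by
  let e : Γ ≃* MulAut N := MulEquiv.ofBijective _ (bijective_of N hinj hidx hout)
  have hconj : ∀ s : N, e.symm (MulAut.conj s) = s := by
    intro s
    have h1 : e s = MulAut.conj s := by
      apply MulEquiv.ext
      intro t
      apply Subtype.ext
      change ((MulAut.conjNormal (s : Γ) t : N) : Γ) = _
      rw [MulAut.conjNormal_apply]
      rfl
    rw [← h1, MulEquiv.symm_apply_apply]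
  refine ⟨χ ∘ e.symm.toMonoidHom, Characters.Core.isCharacter_comp _ (Characters.Core.isIrr_isCharacter hχ), ?_, d, hd, ?_⟩
  · have h2 : (fun s : N => (χ ∘ e.symm.toMonoidHom) (MulAut.conj s)) = fun n : N => χ n := by
      funext s
      change χ (e.symm (MulAut.conj s)) = _
      rw [hconj]
    rw [h2]
    exact hr
  · change χ (e.symm 1) = _
    rw [map_one, h1]

end General

theorem out_le {K : Subgroup (GL Cfsg.Agent.ChevalleyStructure.Tits.Mat.I52 (ZMod 2))}
    (hK : K = Cfsg.Lie.twistedF4 (ZMod 2) 1) : Nat.card (Cfsg.Out ↥(commutator K)) ≤ 2 := by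
  subst hK
  exact H867.TitsOut.card_out_le ⟨MulEquiv.refl _⟩

open Cfsg.Agent.ChevalleyStructure.Tits.Main Cfsg.Agent.ChevalleyStructure.Tits.Order
  Cfsg.Agent.ChevalleyStructure.Tits.Final Cfsg.Agent.ChevalleyStructure.Tits.Sat in
theorem extPP_T : ExtPP T := by
  have := Omega.TwoF.TitsAut.fin_H0
  have hinj : Function.Injective (MulAut.conjNormal : H0 →* MulAut (commutator H0)) :=
    Omega.TwoF.TitsAut.conj_injective Sat_yH gen_yH card_H0 card_V_yH (yH_ne_one (by norm_num))
      Omega.TwoF.TitsAut.yH7_sq core H0_result.2.2.1
  obtain ⟨σ, hσ⟩ := exists_hom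
  have hirr : IsIrrCharacter T (rep σ).character := ⟨27, rep σ, irreducible_rep hσ, rfl⟩
  have hcyc : IsCyclic (H0 ⧸ commutator H0) := by
    have : Fact (Nat.Prime 2) := ⟨Nat.prime_two⟩
    exact isCyclic_of_prime_card (p := 2) H0_result.1
  obtain ⟨χ, hχ, hχσ⟩ := S0886.result (commutator H0) hcyc _ hirr (fun g n => by
    rw [character_rep, character_rep]
    exact invariant hσ g n)
  refine extPP_of (commutator ChevalleyStructure.Tits.Order.H0) hinj H0_result.1 (out_le T0_eq_H0.symm) hχ
    (d := 27) ?_ ?_ ?_
  · rw [funext hχσ]
    exact hirr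
  · exact (isPrimePow_nat_iff _).2 ⟨3, 3, by norm_num, by norm_num, by norm_num⟩
  · have h1 := hχσ 1
    rw [Subgroup.coe_one] at h1
    rw [h1, character_rep, map_one, Units.val_one, Matrix.trace_one, Fintype.card_fin]

/-- **The Tits group.** -/
theorem extPP_tits {S : Type*} [Group S] (h : Lie.IsoTits S) : ExtPP S := by
  obtain ⟨K, hK, ⟨e⟩⟩ := Omega.TwoF.TitsAut.exists_equiv h
  subst hK
  exact ExtPP.congr (S := T) e.symm extPP_T

end Cfsg.Agent.H29.TitsExt
end

private theorem dce_93d559d81577 : _root_.True := by
  try have : _root_.True := by simp only [_root_.Cfsg.Agent.H29.TitsWalk.noD.eq_1]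
  try have : _root_.True := by simp only [_root_.Cfsg.Agent.H29.TitsWalk.neA.eq_2]
  try have : _root_.True := by simp only [_root_.Cfsg.Agent.H29.TitsMat.RG.congr_simp]
  try have : _root_.True := by simp only [_root_.Cfsg.Agent.H29.TitsWalk.neA.eq_def]
  try have : _root_.True := by simp only [_root_.Cfsg.Agent.H29.TitsHom.phi.eq_1]
  try have : _root_.True := by simp only [_root_.Cfsg.Agent.H29.TitsWalk.noD.eq_2]
  try have : _root_.True := by simp only [_root_.Cfsg.Agent.H29.TitsWalk.noD.eq_def]
  try have : _root_.True := by simp only [_root_.Cfsg.Agent.H29.TitsMat.walkOk.eq_def]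
  try have : _root_.True := by simp only [_root_.Cfsg.Agent.H29.TitsMat.XG.congr_simp]
  try have : _root_.True := by simp only [_root_.Cfsg.Agent.H29.TitsWalk.neA.eq_1]
  try have : _root_.True := by simp only [_root_.Cfsg.Agent.H29.TitsMat.ZG.congr_simp]
  try have : _root_.True := by simp only [_root_.Cfsg.Agent.H29.TitsMat.walkOk.eq_2]
  try have : _root_.True := by simp only [_root_.Cfsg.Agent.H29.TitsMat.walkOk.eq_1]
  exact _root_.True.intro
end
end
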