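import Cfsg.Agent.H615.AltConj
import Cfsg.Agent.S4558
import Cfsg.Agent.Prune
set_option linter.all false
prune_inst 0x7f00000000000000000000000000000000000000000000000000000000000000000000000000000000000000000000000000000000000000000000000000000000000000000000000000000000000000003fffffffffffffffffffffffffffbeffbdffffffff
open scoped Cfsg.Agent.FastGrp

/-!
# Self-conjugate characters of the symmetric groups and primes in `(n/2, n]` (helper29)

* `diag_sum` : for a self-reflected tuple `β` of size `n` the number `n` is the sum of the diagonal hook lengths;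
* `mem_of_not_dvd` : an odd prime `r ∈ (n/2, n]` that does not divide the degree of a character of `S_n` vanishing at
  the odd permutations is a diagonal hook length.
-/

set_option autoImplicit false

open Finset Cfsg Cfsg.Agent.H614 Cfsg.Agent.H615.AltConj

namespace Cfsg.Agent.H29.AltSelf

variable {m : ℕ}

/-- The diagonal hook lengths of a self-reflected tuple. -/
def diag (β : Fin m → ℕ) : Finset ℕ := ((univ.image β).filter (fun x => m ≤ x)).image (fun x => 2 * (x - m) + 1)

theorem diag_sum {β : Fin m → ℕ} (h : H615.AltRefl.IsRefl β β) {n : ℕ} (hs : ∑ i, β i = n + ∑ i : Fin m, (i : ℕ)) :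
    ∑ r ∈ diag β, r = n := by
  classical
  set X : Finset ℕ := univ.image β with hX
  have hXlt : ∀ x ∈ X, x < m + m := by
    intro x hx
    obtain ⟨i, -, rfl⟩ := mem_image.1 hx
    exact h.lt i
  have hmem : ∀ b, b < m + m → (b ∈ X ↔ m + m - 1 - b ∉ X) := by
    intro b hb
    have h1 := h.iff b hb
    have h2 : ∀ c, c ∈ X ↔ c ∈ Set.range β := by
      intro c
      simp [hX]
    rw [h2, h2]
    exact h1
  have hsumX : ∑ x ∈ X, x = n + ∑ i ∈ range m, i := by
    rw [hX, sum_image (fun i _ j _ hij => h.inj hij), hs, Fin.sum_univ_eq_sum_range (fun i => i) m]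
  have hsplit : ∑ x ∈ X, x = ∑ x ∈ X.filter (fun x => m ≤ x), x + ∑ x ∈ X.filter (fun x => ¬ m ≤ x), x :=
    (sum_filter_add_sum_filter_not X (fun x => m ≤ x) (fun x => x)).symm
  -- the part below `m`
  have hlow : ∑ x ∈ X.filter (fun x => ¬ m ≤ x), x + ∑ x ∈ X.filter (fun x => m ≤ x), (m + m - 1 - x) =
      ∑ i ∈ range m, i := by
    have h1 : ∑ x ∈ X.filter (fun x => m ≤ x), (m + m - 1 - x) =
        ∑ y ∈ (range m).filter (fun y => y ∉ X), y := by
      refine sum_nbij' (fun x => m + m - 1 - x) (fun y => m + m - 1 - y) ?_ ?_ ?_ ?_ ?_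
      · intro x hx
        rw [mem_filter] at hx ⊢
        have h3 := hXlt x hx.1
        refine ⟨mem_range.2 (by omega), (hmem x h3).1 hx.1⟩
      · intro y hy
        rw [mem_filter, mem_range] at hy
        rw [mem_filter]
        refine ⟨?_, by omega⟩
        by_contra hcon
        exact hy.2 ((hmem y (by omega)).2 hcon)
      · intro x hx
        rw [mem_filter] at hx
        have h3 := hXlt x hx.1
        show m + m - 1 - (m + m - 1 - x) = x
        omega
      · intro y hy
        rw [mem_filter, mem_range] at hy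
        show m + m - 1 - (m + m - 1 - y) = y
        omega
      · intro x hx
        rfl
    rw [h1]
    have h2 : X.filter (fun x => ¬ m ≤ x) = (range m).filter (fun y => y ∈ X) := by
      ext x
      rw [mem_filter, mem_filter, mem_range]
      constructor
      · rintro ⟨h3, h4⟩
        exact ⟨by omega, h3⟩
      · rintro ⟨h3, h4⟩
        exact ⟨h4, by omega⟩
    rw [h2]
    exact sum_filter_add_sum_filter_not (range m) (fun y => y ∈ X) (fun x => x)
  have hdiag : ∑ r ∈ diag β, r = ∑ x ∈ X.filter (fun x => m ≤ x), (2 * (x - m) + 1) := by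
    rw [diag, sum_image]
    intro x hx y hy hxy
    rw [mem_coe, mem_filter] at hx hy
    have : 2 * (x - m) + 1 = 2 * (y - m) + 1 := hxy
    omega
  have hfin : ∑ x ∈ X.filter (fun x => m ≤ x), x =
      ∑ x ∈ X.filter (fun x => m ≤ x), (2 * (x - m) + 1) + ∑ x ∈ X.filter (fun x => m ≤ x), (m + m - 1 - x) := by
    rw [← sum_add_distrib]
    refine sum_congr rfl fun x hx => ?_
    rw [mem_filter] at hx
    have h3 := hXlt x hx.1
    omega
  omega

theorem odd_of_mem_diag {β : Fin m → ℕ} {r : ℕ} (h : r ∈ diag β) : r % 2 = 1 := by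
  rw [diag, mem_image] at h
  obtain ⟨x, -, rfl⟩ := h
  omega

/-- A hook of length `r > n / 2` of a self-reflected tuple is on the diagonal. -/
theorem mem_diag_of_hook {β : Fin m → ℕ} (h : H615.AltRefl.IsRefl β β) {n : ℕ} (hs : ∑ i, β i = n + ∑ i : Fin m, (i : ℕ))
    {r : ℕ} (hr : n < 2 * r) {j : Fin m} (hj : r ≤ β j) (hinj : Function.Injective (dn β j r)) : r ∈ diag β := by
  classical
  have hr0 : 0 < r := by omega
  have hxlt := h.lt j
  have h1 : β j - r ∉ Set.range β := by
    rintro ⟨k, hk⟩
    have hkj : k ≠ j := by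
      rintro rfl
      omega
    have h2 : dn β j r k = dn β j r j := by rw [dn_ne β r hkj, dn_self, hk]
    exact hkj (hinj h2)
  have h2 : m + m - 1 - (β j - r) ∈ Set.range β := by
    by_contra hcon
    exact h1 ((h.iff (β j - r) (by omega)).2 hcon)
  have h3 : m + m - 1 - β j ∉ Set.range β := (h.iff (β j) hxlt).1 ⟨j, rfl⟩
  obtain ⟨k, hk⟩ := h2
  by_cases hkj : k = j
  · subst hkj
    rw [diag, mem_image]
    refine ⟨β k, mem_filter.2 ⟨mem_image_of_mem β (mem_univ k), by omega⟩, by omega⟩
  · exfalso
    -- two different hooks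
    have hkr : r ≤ dn β j r k := by rw [dn_ne β r hkj, hk]; omega
    have hinj2 : Function.Injective (dn (dn β j r) k r) := by
      have hval : ∀ i, i ≠ j → i ≠ k → dn (dn β j r) k r i = β i := by
        intro i hij hik
        rw [dn_ne _ r hik, dn_ne β r hij]
      have hvk : dn (dn β j r) k r k = m + m - 1 - β j := by
        rw [dn_self, dn_ne β r hkj, hk]
        omega
      have hvj : dn (dn β j r) k r j = β j - r := by
        rw [dn_ne _ r (Ne.symm hkj), dn_self]
      have hne : m + m - 1 - β j ≠ β j - r := by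
        intro heq
        apply hkj
        apply h.inj
        rw [hk]
        omega
      intro a b hab
      by_cases haj : a = j
      · by_cases hbj : b = j
        · rw [haj, hbj]
        · by_cases hbk : b = k
          · rw [haj, hbk, hvj, hvk] at hab
            exact absurd hab.symm hne
          · rw [haj, hvj, hval b hbj hbk] at hab
            exact absurd ⟨b, hab.symm⟩ h1
      · by_cases hak : a = k
        · by_cases hbj : b = j
          · rw [hak, hbj, hvj, hvk] at hab
            exact absurd hab hne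
          · by_cases hbk : b = k
            · rw [hak, hbk]
            · rw [hak, hvk, hval b hbj hbk] at hab
              exact absurd ⟨b, hab.symm⟩ h3
        · by_cases hbj : b = j
          · rw [hbj, hvj, hval a haj hak] at hab
            exact absurd ⟨a, hab⟩ h1
          · by_cases hbk : b = k
            · rw [hbk, hvk, hval a haj hak] at hab
              exact absurd ⟨a, hab⟩ h3
            · rw [hval a haj hak, hval b hbj hbk] at hab
              exact h.inj hab
    have e1 := sum_dn β j hj
    have e2 := sum_dn (dn β j r) k hkr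
    have e3 := sum_le_of_injective hinj2
    omega

section Cycle

variable {n : ℕ}

theorem exists_cycle {r : ℕ} (hr : 2 ≤ r) (hrn : r ≤ n) : ∃ x : Equiv.Perm (Fin n), orderOf x = r ∧
    ty x = r ::ₘ Multiset.replicate (n - r) 1 := by
  obtain ⟨x, hx⟩ := (Equiv.Perm.exists_with_cycleType_iff (Fin n) (m := {r})).2 (by
    refine ⟨by simpa using hrn, fun a ha => ?_⟩
    rw [Multiset.mem_singleton.1 ha]
    exact hr)
  refine ⟨x, ?_, ?_⟩
  · rw [← Equiv.Perm.lcm_cycleType, hx]
    simp
  · rw [ty_eq, hx, Multiset.sum_singleton, Fintype.card_fin, Multiset.singleton_add]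

/-- A prime in `(n/2, n]` that does not divide the degree of `ch β` is the length of a hook. -/
theorem exists_hook_of_not_dvd {β : Fin m → ℕ} (hβ : StrictMono β) (hs : ∑ i, β i = n + ∑ i : Fin m, (i : ℕ))
    {r : ℕ} (hr : r.Prime) (hrn : r ≤ n) {d : ℕ} (hd : ch (Fin n) β 1 = d) (hrd : ¬ r ∣ d) :
    ∃ j, r ≤ β j ∧ Function.Injective (dn β j r) := by
  classical
  have : Fact r.Prime := ⟨hr⟩
  obtain ⟨x, hx1, hx2⟩ := exists_cycle hr.two_le hrn
  have hirr := isIrr_ch (α := Fin n) hβ (by rw [Fintype.card_fin]; exact hs)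
  have hne : ch (Fin n) β x ≠ 0 := by
    intro h0
    have h1 := S4558.result r (ch (Fin n) β) (Characters.Core.isIrr_isCharacter hirr) x ⟨1, by rw [hx1, pow_one]⟩ h0
    apply hrd
    have h2 : charDegree (ch (Fin n) β) = d := by
      unfold charDegree
      rw [hd]
      simp
    rwa [h2] at h1
  rw [ch_apply, hx2, FM_cons] at hne
  have h3 : (∑ j, if r ≤ β j then FM (Multiset.replicate (n - r) 1) (dn β j r) else 0) ≠ 0 := by
    intro h0
    apply hne
    rw [h0]
    simp
  obtain ⟨j, -, hj⟩ := exists_ne_zero_of_sum_ne_zero h3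
  by_cases hle : r ≤ β j
  · rw [if_pos hle] at hj
    refine ⟨j, hle, ?_⟩
    by_contra hcon
    exact hj (Alt.eq_zero_of_not_injective two_torsion_int (FM_alt _) hcon)
  · rw [if_neg hle] at hj
    exact absurd rfl hj

/-- A character of `S_n` that vanishes at the odd permutations is a self-reflected one. -/
theorem isRefl_of_vanish {β : Fin m → ℕ} (hβ : StrictMono β) (hs : ∑ i, β i = n + ∑ i : Fin m, (i : ℕ))
    (hnm : n ≤ m) (h0 : ∀ g : Equiv.Perm (Fin n), g ∉ alternatingGroup (Fin n) → ch (Fin n) β g = 0) :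
    H615.AltRefl.IsRefl β β := by
  obtain ⟨β', hβ', hr⟩ := exists_refl (m' := m) hβ (lt_of_strictMono hβ hs hnm)
  have hs' := sum_refl hr hβ hs
  have key : ch (Fin n) β' = ch (Fin n) β := by
    funext g
    have h1 := ch_refl (α := Fin n) hr hβ hβ' (by rw [Fintype.card_fin]; exact hs) g
    have h2 : ch (Fin n) β' g = sgn g * ch (Fin n) β g := by
      rw [h1, ← mul_assoc, sgn_mul_self, one_mul]
    by_cases hg : g ∈ alternatingGroup (Fin n)
    · rw [h2]
      have : sgn g = 1 := by
        unfold sgn
        rw [Equiv.Perm.mem_alternatingGroup.1 hg]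
        simp
      rw [this, one_mul]
    · rw [h2, h0 g hg, mul_zero]
  have : β' = β := ch_inj hβ' hβ (by rw [Fintype.card_fin]; exact hs') key
  rw [this] at hr
  exact hr

/-- **Diagonal hooks.** For a character of `S_n` vanishing at the odd permutations, there is a finite set `D` of odd
numbers with sum `n` that contains every prime `r ∈ (n/2, n]` that does not divide the degree. -/
theorem exists_diag {χ : Equiv.Perm (Fin n) → ℂ} (hχ : IsIrrCharacter (Equiv.Perm (Fin n)) χ)
    (h0 : ∀ g : Equiv.Perm (Fin n), g ∉ alternatingGroup (Fin n) → χ g = 0) {d : ℕ} (hd : χ 1 = d) :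
    ∃ D : Finset ℕ, (∀ r ∈ D, r % 2 = 1) ∧ ∑ r ∈ D, r = n ∧
      ∀ r : ℕ, r.Prime → r ≤ n → n < 2 * r → ¬ r ∣ d → r ∈ D := by
  obtain ⟨β, hβ, hs, rfl⟩ := irr_eq (m := n) (α := Fin n) (by rw [Fintype.card_fin]) hχ
  rw [Fintype.card_fin] at hs
  have hr := isRefl_of_vanish hβ hs le_rfl h0
  refine ⟨diag β, fun r hr => odd_of_mem_diag hr, diag_sum hr hs, ?_⟩
  intro r hp hrn hn hrd
  obtain ⟨j, h1, h2⟩ := exists_hook_of_not_dvd hβ hs hp hrn hd hrd
  exact mem_diag_of_hook hr hs hn h1 h2

/-- Two primes in `(n/2, n]`: one of them divides the degree. -/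
theorem dvd_or_dvd {χ : Equiv.Perm (Fin n) → ℂ} (hχ : IsIrrCharacter (Equiv.Perm (Fin n)) χ)
    (h0 : ∀ g : Equiv.Perm (Fin n), g ∉ alternatingGroup (Fin n) → χ g = 0) {d : ℕ} (hd : χ 1 = d) {r s : ℕ}
    (hr : r.Prime) (hs : s.Prime) (hrs : r ≠ s) (hrn : r ≤ n) (hsn : s ≤ n) (h1 : n < 2 * r) (h2 : n < 2 * s) :
    r ∣ d ∨ s ∣ d := by
  obtain ⟨D, -, hD, h⟩ := exists_diag hχ h0 hd
  by_contra hcon
  push Not at hcon
  have hr' := h r hr hrn h1 hcon.1
  have hs' := h s hs hsn h2 hcon.2
  have h3 : ∑ x ∈ ({r, s} : Finset ℕ), x ≤ ∑ x ∈ D, x := by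
    refine sum_le_sum_of_subset ?_
    intro x hx
    rw [mem_insert, mem_singleton] at hx
    rcases hx with rfl | rfl <;> assumption
  rw [sum_pair hrs, hD] at h3
  omega

end Cycle

end Cfsg.Agent.H29.AltSelf

private theorem dce_67239ac71415 : _root_.True := by
  try have : _root_.True := by simp only [_root_.Cfsg.Agent.H29.AltSelf.diag.eq_1]
  exact _root_.True.intro
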