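import Cfsg.Agent.H29.AltSelf
import Cfsg.Agent.H348.PPD.Rows_m3
import Cfsg.Agent.H875.AltCop
import Cfsg.Agent.H761.LieExt
import Cfsg.Agent.H704.S8.Defs_m3
import Cfsg.Agent.H455.SixPrimes
import Cfsg.Agent.H614.IndexTwo
import Cfsg.Agent.Prune
set_option linter.all false
prune_inst 0x7f00000000000000000000000000000000000000000000000000000000000000000000000000000000000000000000000000000000000000000000000000000000000000000000000000000000000000003fffffffffffffffffffffffffffbeffbdffffffff
open scoped Cfsg.Agent.FastGrp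

/-!
# Characters of prime power degree of the alternating groups and of the groups of Lie type that extend to the
automorphism group (helper29)
-/

set_option autoImplicit false

open Cfsg Cfsg.Agent.H614 Equiv

namespace Cfsg.Agent.H29.AltRow

open Cfsg.Agent.H29.MinExt Cfsg.Agent.H794.PP Cfsg.Agent.H681.DegBasic Cfsg.Agent.H949.GoodAlt

universe u

theorem extPP_of_extAut {S : Type*} [Group S] {θ : Cfsg.IrrCharacter S}
    (h1 : IsPrimePow (Cfsg.charDegree (θ : S → ℂ))) (h2 : Cfsg.Agent.H671.H5.ExtAut θ) : ExtPP S := by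
  obtain ⟨ψ, hψ⟩ := h2
  have h3 : (fun s => (ψ : MulAut S → ℂ) (MulAut.conj s)) = (θ : S → ℂ) := funext hψ
  refine ⟨ψ, Characters.Core.isIrr_isCharacter ψ.2, ?_, _, h1, ?_⟩
  · rw [h3]
    exact θ.2
  · have h4 := hψ 1
    rw [map_one] at h4
    rw [h4]
    obtain ⟨n, hn⟩ := Characters.Core.isCharacter_apply_one (Characters.Core.isIrr_isCharacter θ.2)
    rw [hn]
    unfold charDegree
    rw [hn]
    simp

/-- **Lie type.** -/
theorem extPP_lie {p : ℕ} (hp : p.Prime) {S : Type u} [Group S] [Finite S] [IsSimpleGroup S]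
    (hna : ¬ IsMulCommutative S) (h : Cfsg.IsLieTypeChar p S) : ExtPP S := by
  have : Fact p.Prime := ⟨hp⟩
  obtain ⟨θ, h1, h2⟩ := H761.LieExt.lie_ext hna h
  refine extPP_of_extAut (θ := θ) ?_ h2
  obtain ⟨P, U, hS, hU⟩ := hasSplit_of_isLieTypeChar hp h
  have hd : p ∣ Nat.card S := by
    obtain ⟨s, hs⟩ := hS
    obtain ⟨V, hV⟩ := hU.node s hs
    obtain ⟨u, hu, huV⟩ := hV.ne
    obtain ⟨k, hk⟩ := IsPGroup.iff_card.1 hU.isP
    have h3 : k ≠ 0 := by
      rintro rfl
      rw [pow_zero] at hk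
      have h4 := Subgroup.eq_bot_of_card_eq U hk
      rw [h4] at hu
      exact huV ((Subgroup.mem_bot.1 hu) ▸ V.one_mem)
    exact (dvd_pow_self p h3).trans (hk ▸ Subgroup.card_subgroup_dvd_card U)
  rw [h1]
  exact hp.isPrimePow.pow (hp.factorization_pos_of_dvd Nat.card_pos.ne' hd).ne'

theorem extPP_five {S : Type u} [Group S] [Finite S] [IsSimpleGroup S] (hna : ¬ IsMulCommutative S)
    (e : S ≃* alternatingGroup (Fin 5)) : ExtPP S := by
  have : Fact (Nat.Prime 5) := ⟨by norm_num⟩
  obtain ⟨f⟩ := Cfsg.Agent.S0253.result (F := ZMod 5) (ZMod.card 5)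
  exact extPP_lie (p := 5) (by norm_num) hna (Or.inl ⟨ZMod 5, inferInstance, inferInstance, inferInstance, 2, le_rfl,
      fun _ => by rw [ZMod.card]; norm_num, ⟨e.trans f.symm⟩⟩)

theorem extPP_six {S : Type u} [Group S] [Finite S] [IsSimpleGroup S] (hna : ¬ IsMulCommutative S)
    (e : S ≃* alternatingGroup (Fin 6)) : ExtPP S := by
  have : Fact (Nat.Prime 3) := ⟨by norm_num⟩
  have hcF : Nat.card (GaloisField 3 2) = 9 := by rw [GaloisField.card 3 2 (by norm_num)]; norm_num
  have hF : Fintype (GaloisField 3 2) := Fintype.ofFinite _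
  have hcF' : Fintype.card (GaloisField 3 2) = 9 := by rw [← Nat.card_eq_fintype_card, hcF]
  obtain ⟨f⟩ := Cfsg.Agent.S0254.result (F := GaloisField 3 2) hcF'
  exact extPP_lie (p := 3) (by norm_num) hna (Or.inl ⟨GaloisField 3 2, inferInstance, hF, inferInstance, 2, le_rfl,
      fun _ => by rw [hcF']; norm_num, ⟨e.trans f.symm⟩⟩)

/-- Three primes in `(n/2, n]`. -/
theorem exists_three {n : ℕ} (hn : 17 ≤ n) : ∃ T : Finset ℕ, 3 ≤ T.card ∧ ∀ p ∈ T, p.Prime ∧ p ≤ n ∧ n < 2 * p := by
  rcases Nat.lt_or_ge n 22 with h | h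
  · refine ⟨{11, 13, 17}, by decide, ?_⟩
    intro p hp
    simp only [Finset.mem_insert, Finset.mem_singleton] at hp
    rcases hp with rfl | rfl | rfl <;> exact ⟨by norm_num, by omega, by omega⟩
  rcases Nat.lt_or_ge n 26 with h | h
  · refine ⟨{13, 17, 19}, by decide, ?_⟩
    intro p hp
    simp only [Finset.mem_insert, Finset.mem_singleton] at hp
    rcases hp with rfl | rfl | rfl <;> exact ⟨by norm_num, by omega, by omega⟩
  rcases Nat.lt_or_ge n 34 with h | h
  · refine ⟨{17, 19, 23}, by decide, ?_⟩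
    intro p hp
    simp only [Finset.mem_insert, Finset.mem_singleton] at hp
    rcases hp with rfl | rfl | rfl <;> exact ⟨by norm_num, by omega, by omega⟩
  rcases Nat.lt_or_ge n 46 with h | h
  · refine ⟨{23, 29, 31}, by decide, ?_⟩
    intro p hp
    simp only [Finset.mem_insert, Finset.mem_singleton] at hp
    rcases hp with rfl | rfl | rfl <;> exact ⟨by norm_num, by omega, by omega⟩
  rcases Nat.lt_or_ge n 47 with h | h
  · refine ⟨{29, 31, 37}, by decide, ?_⟩
    intro p hp
    simp only [Finset.mem_insert, Finset.mem_singleton] at hp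
    rcases hp with rfl | rfl | rfl <;> exact ⟨by norm_num, by omega, by omega⟩
  · obtain ⟨S, hS, h⟩ := H455.SixPrimes.exists_six n h
    exact ⟨S, by omega, h⟩

theorem two_of_three {n q : ℕ} (hn : 17 ≤ n) : ∃ r s : ℕ, r ≠ q ∧ s ≠ q ∧ r ≠ s ∧ r.Prime ∧ s.Prime ∧ r ≤ n ∧ s ≤ n ∧
    n < 2 * r ∧ n < 2 * s := by
  obtain ⟨T, hT, h⟩ := exists_three hn
  have h1 : 1 < (T.erase q).card := by
    have := Finset.pred_card_le_card_erase (s := T) (a := q)
    omega
  obtain ⟨r, hr, s, hs, hrs⟩ := Finset.one_lt_card.1 h1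
  have hr' := h r (Finset.mem_of_mem_erase hr)
  have hs' := h s (Finset.mem_of_mem_erase hs)
  exact ⟨r, s, Finset.ne_of_mem_erase hr, Finset.ne_of_mem_erase hs, hrs, hr'.1, hs'.1, hr'.2.1, hs'.2.1, hr'.2.2,
    hs'.2.2⟩

/-- No character of `S_n` of degree `2 p ^ a` vanishes at the odd permutations. -/
theorem not_split {n : ℕ} (hn : 7 ≤ n) (hpp : ¬ IsPrimePow (n - 1)) {χ : Perm (Fin n) → ℂ}
    (hχ : IsIrrCharacter (Perm (Fin n)) χ)
    (h0 : ∀ g : Perm (Fin n), g ∉ alternatingGroup (Fin n) → χ g = 0) {p a : ℕ} (hp : p.Prime) (ha : 0 < a)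
    (hd : χ 1 = (2 * p ^ a : ℕ)) : False := by
  have main : ∀ r s : ℕ, r.Prime → s.Prime → r ≠ s → r ≤ n → s ≤ n → n < 2 * r → n < 2 * s →
      ¬ r ∣ 2 * p ^ a → ¬ s ∣ 2 * p ^ a → False := by
    intro r s h1 h2 h3 h4 h5 h6 h7 h8 h9
    rcases AltSelf.dvd_or_dvd hχ h0 hd h1 h2 h3 h4 h5 h6 h7 with h | h
    · exact h8 h
    · exact h9 h
  obtain ⟨d, hd1, hdeg⟩ := H704.isDeg_of_irr hχ
  have hdd : d = 2 * p ^ a := by
    have : (d : ℂ) = ((2 * p ^ a : ℕ) : ℂ) := by rw [← hd1, hd]
    exact_mod_cast this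
  rcases Nat.lt_or_ge n 17 with h17 | h17
  · rcases Nat.lt_or_ge n 10 with h10 | h10
    · -- `n = 7`
      have h7 : n = 7 := by
        rcases (by omega : n = 7 ∨ n = 8 ∨ n = 9) with h | h | h
        · exact h
        · subst h
          exact absurd ((by norm_num : Nat.Prime 7).isPrimePow) hpp
        · subst h
          exact absurd ((by norm_num : Nat.Prime 2).isPrimePow.pow (by norm_num : (3 : ℕ) ≠ 0)) hpp
      subst h7
      have h8 := H704.deg7 hdeg
      simp only [List.mem_cons, List.not_mem_nil, or_false] at h8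
      have hpa : 2 ≤ p ^ a := (hp.two_le).trans (Nat.le_self_pow ha.ne' p)
      rcases h8 with h | h | h | h | h | h | h
      · omega
      · exact main 5 7 (by norm_num) (by norm_num) (by norm_num) (by norm_num) (by norm_num) (by norm_num)
          (by norm_num) (by omega) (by omega)
      · obtain ⟨D, hD1, hD2, hD3⟩ := AltSelf.exists_diag hχ h0 hd
        have h5 : 5 ∈ D := hD3 5 (by norm_num) (by norm_num) (by norm_num) (by omega)
        have hsub : D ∈ (({1, 3, 5, 7} : Finset ℕ).powerset).filter (fun D => 5 ∈ D ∧ ∑ r ∈ D, r = 7) := by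
          rw [Finset.mem_filter, Finset.mem_powerset]
          refine ⟨?_, h5, hD2⟩
          intro x hx
          have h9 : x ≤ 7 := by
            rw [← hD2]
            exact Finset.single_le_sum (f := fun r => r) (fun _ _ => Nat.zero_le _) hx
          have h11 := hD1 x hx
          simp only [Finset.mem_insert, Finset.mem_singleton]
          omega
        have hemp : (({1, 3, 5, 7} : Finset ℕ).powerset).filter (fun D => 5 ∈ D ∧ ∑ r ∈ D, r = 7) = ∅ := by
          decide
        rw [hemp] at hsub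
        exact absurd hsub (Finset.notMem_empty _)
      · omega
      · -- `20 = 2 * 10`
        have h9 : p ^ a = 10 := by omega
        have h11 : IsPrimePow 10 := h9 ▸ hp.isPrimePow.pow ha.ne'
        rw [isPrimePow_nat_iff] at h11
        obtain ⟨q, k, hq, hk, hqk⟩ := h11
        have h12 : 2 ∣ q := (by norm_num : Nat.Prime 2).dvd_of_dvd_pow (n := k) (by rw [hqk]; norm_num)
        have h13 : 5 ∣ q := (by norm_num : Nat.Prime 5).dvd_of_dvd_pow (n := k) (by rw [hqk]; norm_num)
        have h14 := (Nat.prime_dvd_prime_iff_eq (by norm_num) hq).1 h12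
        have h15 := (Nat.prime_dvd_prime_iff_eq (by norm_num) hq).1 h13
        omega
      · omega
      · omega
    · have h18 := H704.pp_small h10 (by omega) hdeg hp ha (Or.inr hdd)
      rcases h18 with h | ⟨h, -⟩
      · rcases (by omega : n = 10 ∨ n = 11 ∨ n = 12 ∨ n = 13 ∨ n = 14 ∨ n = 15 ∨ n = 16) with
          h' | h' | h' | h' | h' | h' | h'
        · subst h'
          exact absurd ((by norm_num : Nat.Prime 3).isPrimePow.pow (by norm_num : (2 : ℕ) ≠ 0)) hpp
        · subst h'
          exact main 7 11 (by norm_num) (by norm_num) (by norm_num) (by norm_num) (by norm_num) (by norm_num)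
            (by norm_num) (by omega) (by omega)
        · subst h'
          exact absurd ((by norm_num : Nat.Prime 11).isPrimePow) hpp
        · subst h'
          exact main 7 11 (by norm_num) (by norm_num) (by norm_num) (by norm_num) (by norm_num) (by norm_num)
            (by norm_num) (by omega) (by omega)
        · subst h'
          exact absurd ((by norm_num : Nat.Prime 13).isPrimePow) hpp
        · subst h'
          exact main 11 13 (by norm_num) (by norm_num) (by norm_num) (by norm_num) (by norm_num) (by norm_num)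
            (by norm_num) (by omega) (by omega)
        · subst h'
          exact main 11 13 (by norm_num) (by norm_num) (by norm_num) (by norm_num) (by norm_num) (by norm_num)
            (by norm_num) (by omega) (by omega)
      · subst h
        exact absurd ((by norm_num : Nat.Prime 11).isPrimePow) hpp
  · obtain ⟨r, s, hr, hs, hrs, hrp, hsp, hrn, hsn, h1, h2⟩ := two_of_three (n := n) (q := p) h17
    have key : ∀ r : ℕ, r.Prime → r ≠ p → n < 2 * r → ¬ r ∣ 2 * p ^ a := by
      intro r hr hrp h1 h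
      rcases (Nat.Prime.dvd_mul hr).1 h with h | h
      · have := Nat.le_of_dvd (by norm_num) h
        omega
      · exact hrp ((Nat.prime_dvd_prime_iff_eq hr hp).1 (hr.dvd_of_dvd_pow h))
    exact main r s hrp hsp hrs hrn hsn h1 h2 (key r hrp hr h1) (key s hsp hs h2)

/-- **Alternating groups.** -/
theorem extPP_alt {n : ℕ} (hn : 5 ≤ n) {S : Type u} [Group S] [Finite S] [IsSimpleGroup S]
    (hna : ¬ IsMulCommutative S) (e : S ≃* alternatingGroup (Fin n)) (h : HasPP S) : ExtPP S := by
  classical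
  rcases (by omega : n = 5 ∨ n = 6 ∨ 7 ≤ n) with rfl | rfl | h7
  · exact extPP_five hna e
  · exact extPP_six hna e
  by_cases hpp : IsPrimePow (n - 1)
  · obtain ⟨k, rfl⟩ : ∃ k, n = k + 7 := ⟨n - 7, by omega⟩
    obtain ⟨α, hα, hα'⟩ := H875.AltCop.exists_of_dt h7 (dt1 k)
    obtain ⟨θ, h1, h2⟩ := H875.AltCop.ext_transport e α hα'
    refine extPP_of_extAut (θ := θ) ?_ h2
    rw [h1, hα]
    exact hpp
  · refine ExtPP.congr e.symm ?_
    obtain ⟨d, hd, hdp⟩ := HasPP.congr e h
    obtain ⟨θ, hθ, hθ1⟩ := mem_charDegrees.1 hd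
    obtain ⟨χ, hχ, hχθ⟩ := CharDeep.PowerDegrees.exists_irr_over (alternatingGroup (Fin n)) hθ
    have : Nontrivial (Fin n) := Fin.nontrivial_iff_two_le.2 (by omega)
    rcases Cfsg.Agent.H614.restrict_two (alternatingGroup (Fin n)) alternatingGroup.index_eq_two hχ hθ hχθ with h1 | ⟨h1, h2⟩
    · obtain ⟨β, hβ, hs, rfl⟩ := irr_eq (m := n) (α := Fin n) (by rw [Fintype.card_fin]) hχ
      rw [Fintype.card_fin] at hs
      obtain ⟨ψ, hψ, hψs⟩ := extends_ h7 hβ hs
      have h3 : (fun s => ψ (MulAut.conj s)) = θ := by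
        funext s
        rw [hψs, h1]
      refine ⟨ψ, Characters.Core.isIrr_isCharacter hψ, by rw [h3]; exact hθ, d, hdp, ?_⟩
      rw [← map_one (MulAut.conj : alternatingGroup (Fin n) →* _), ← hθ1, ← h3]
    · exfalso
      obtain ⟨p, a, hp, ha, rfl⟩ := (isPrimePow_nat_iff _).1 hdp
      refine not_split h7 hpp hχ h2 hp ha ?_
      rw [h1, hθ1]
      push_cast
      ring

end Cfsg.Agent.H29.AltRow
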