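import Mathlib
import Cfsg.Agent.H794.SmallFix
import Cfsg.Agent.Transfer.PGroupNormal
set_option linter.all false

/-!
# Alperin's theorem on small elements centralizing a maximal small abelian normal subgroup (helper29)

`q = 4` for `p = 2` and `q = p` otherwise. If `A` is maximal among the abelian normal subgroups of
exponent dividing `q` of the finite `p`-group `P`, then every `x ∈ C_P(A)` with `x ^ q = 1` lies in `A`.
-/

set_option autoImplicit false

namespace Cfsg.Agent.H29.AlperinSmall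

open scoped commutatorElement

/-- `4` for `p = 2`, `p` otherwise -/
def qq (p : ℕ) : ℕ := if p = 2 then 4 else p

theorem small_iff {G : Type*} [Group G] {p : ℕ} (x : G) :
    (x ^ p = 1 ∨ (p = 2 ∧ x ^ 4 = 1)) ↔ x ^ qq p = 1 := by
  unfold qq
  split_ifs with h
  · subst h
    constructor
    · rintro (h | ⟨-, h⟩)
      · rw [show (4 : ℕ) = 2 * 2 from rfl, pow_mul, h, one_pow]
      · exact h
    · intro h; exact Or.inr ⟨rfl, h⟩
  · constructor
    · rintro (h1 | ⟨h1, -⟩)
      · exact h1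
      · exact absurd h1 h
    · intro h1; exact Or.inl h1

theorem dvd_choose {p : ℕ} (hp : p.Prime) : p ∣ qq p * (qq p - 1) / 2 := by
  unfold qq
  split_ifs with h
  · subst h; decide
  · obtain ⟨k, hk⟩ := hp.odd_of_ne_two h
    refine ⟨k, ?_⟩
    rw [hk, Nat.add_sub_cancel, mul_comm 2 k, ← mul_assoc, Nat.mul_div_cancel _ (by norm_num)]

/-- the power computation -/
theorem pow_eq_one {P : Type*} [Group P] {p : ℕ} (hp : p.Prime) {y z : P}
    (hcy : Commute ⁅y, z⁆ y) (hcz : Commute ⁅y, z⁆ z) (hyp : Commute (y ^ p) z)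
    (hy : y ^ qq p = 1) (hz : z ^ qq p = 1) : (y * z⁻¹) ^ qq p = 1 := by
  set c := ⁅y, z⁆ with hc
  have h1 : y * z = z * y * c := by
    have : c * (z * y) = y * z := by rw [hc, commutatorElement_def]; group
    rw [← this, ← mul_assoc, hcz.eq, mul_assoc, hcy.eq, mul_assoc]
  have hcp : c ^ p = 1 := by
    have h2 := H794.pow_mul_of_central_comm z y c h1 hcy.eq p
    rw [hyp.eq] at h2
    exact (mul_eq_left.1 h2.symm)
  -- `y⁻¹`-version: `(z * y)` form
  have hyz : y * z⁻¹ = z⁻¹ * y * c⁻¹ := by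
    have h3 : z * (y * z⁻¹) = y * c⁻¹ := by
      have h4 : z * y = y * z * c⁻¹ := by rw [h1, mul_inv_cancel_right]
      have h5 : z * c⁻¹ * z⁻¹ = c⁻¹ := by
        rw [← (hcz.inv_left).eq, mul_inv_cancel_right]
      calc z * (y * z⁻¹) = z * y * z⁻¹ := by group
        _ = y * (z * c⁻¹ * z⁻¹) := by rw [h4]; group
        _ = y * c⁻¹ := by rw [h5]
    rw [mul_assoc, ← h3]; group
  have h5 := H794.mul_pow_of_central_comm z⁻¹ y c⁻¹ hyz (hcz.inv_left.inv_right).eq
    (hcy.inv_left).eq (qq p)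
  have h6 : (c⁻¹) ^ (qq p * (qq p - 1) / 2) = 1 := by
    obtain ⟨k, hk⟩ := dvd_choose hp
    rw [hk, pow_mul, inv_pow, hcp, inv_one, one_pow]
  rw [inv_pow, hz, hy, h6] at h5
  have h7 : y * z⁻¹ = (z⁻¹ * y) * c⁻¹ := hyz
  have h8 : Commute (z⁻¹ * y) c⁻¹ :=
    ((hcz.inv_left.inv_right).symm).mul_left (hcy.inv_left).symm
  rw [h7, h8.mul_pow, h5]
  have h9 : (c⁻¹) ^ qq p = 1 := by
    have : p ∣ qq p := by
      unfold qq
      split_ifs with h
      · subst h; decide
      · exact dvd_rfl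
    obtain ⟨k, hk⟩ := this
    rw [hk, pow_mul, inv_pow, hcp, inv_one, one_pow]
  rw [h9]; simp

theorem comm_aux {P : Type*} [Group P] (y m : P) :
    ⁅y, m⁻¹ * y⁆ = m⁻¹ * ⁅y, m⁆⁻¹ * m := by
  rw [commutatorElement_def, commutatorElement_def]; group

/-- abelian normal subgroups of exponent dividing `q` -/
def Good (p : ℕ) {P : Type*} [Group P] (A : Subgroup P) : Prop :=
  A.Normal ∧ (∀ a ∈ A, ∀ b ∈ A, a * b = b * a) ∧ ∀ a ∈ A, a ^ qq p = 1

theorem good_bot (p : ℕ) {P : Type*} [Group P] : Good p (⊥ : Subgroup P) := by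
  refine ⟨inferInstance, ?_, ?_⟩
  · intro a ha b hb
    rw [Subgroup.mem_bot] at ha hb; rw [ha, hb]
  · intro a ha
    rw [Subgroup.mem_bot] at ha; rw [ha, one_pow]

/-- **Alperin.** -/
theorem mem_of_maximal {P : Type*} [Group P] [Finite P] {p : ℕ} [hp : Fact p.Prime]
    (hP : IsPGroup p P) (A : Subgroup P) (hA : Good p A)
    (hmax : ∀ B : Subgroup P, Good p B → A ≤ B → B = A) (x : P)
    (hx : ∀ a ∈ A, x * a = a * x) (hxq : x ^ qq p = 1) : x ∈ A := by
  obtain ⟨hAn, hAab, hAq⟩ := hA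
  by_contra hxA
  set C := Subgroup.centralizer (A : Set P) with hC
  have hCn : C.Normal := Subgroup.normal_centralizer
  have hxC : x ∈ C := by
    rw [hC, Subgroup.mem_centralizer_iff]
    intro a ha; exact (hx a ha).symm
  -- a maximal `K`
  set F : Set (Subgroup P) := {K | K.Normal ∧ A ≤ K ∧ K ≤ C ∧ ∀ y ∈ K, y ^ qq p = 1 → y ∈ A}
    with hF
  have hAF : A ∈ F := by
    refine ⟨hAn, le_rfl, ?_, fun y hy _ => hy⟩
    intro a ha
    rw [hC, Subgroup.mem_centralizer_iff]
    intro b hb; exact hAab b hb a ha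
  obtain ⟨K, hAK0, hKmax⟩ := (Set.toFinite F).exists_le_maximal hAF
  obtain ⟨⟨hKn, hAK, hKC, hKs⟩, hKmax⟩ := hKmax
  have hxK : x ∉ K := fun h => hxA (hKs x h hxq)
  -- an element `l` of `C` central modulo `K`
  have hq : IsPGroup p (P ⧸ K) := hP.to_quotient K
  obtain ⟨z, hz, hzc, hzo⟩ : ∃ z ∈ C.map (QuotientGroup.mk' K),
      z ∈ Subgroup.center (P ⧸ K) ∧ orderOf z = p := by
    have hCbn : (C.map (QuotientGroup.mk' K)).Normal :=
      hCn.map _ (QuotientGroup.mk'_surjective K)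
    refine Transfer.PGroupNormal.exists_mem_inf_center_orderOf hq _ ?_
    intro h0
    apply hxK
    have : QuotientGroup.mk' K x ∈ C.map (QuotientGroup.mk' K) := ⟨x, hxC, rfl⟩
    rw [h0, Subgroup.mem_bot] at this
    exact (QuotientGroup.eq_one_iff x).1 this
  obtain ⟨l, hlC, hlz⟩ := hz
  have hlK : l ∉ K := by
    intro hlK
    have h1 : QuotientGroup.mk' K l = 1 := (QuotientGroup.eq_one_iff l).2 hlK
    rw [hlz] at h1
    rw [h1, orderOf_one] at hzo
    exact hp.out.one_lt.ne hzo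
  -- an element `y` of `C`, small, outside `K`, central modulo `K`, with `y ^ p ∈ K`
  obtain ⟨y, hyC, hyK, hyq, hyc, hyp⟩ : ∃ y ∈ C, y ∉ K ∧ y ^ qq p = 1 ∧
      (∀ g : P, ⁅y, g⁆ ∈ K) ∧ y ^ p ∈ K := by
    set L := K ⊔ Subgroup.zpowers l with hL
    have hLy : ∀ y ∈ L, ∃ i : ℤ, QuotientGroup.mk' K y = z ^ i := by
      intro y hy
      obtain ⟨k, hk, w, hw, rfl⟩ := Subgroup.mem_sup_of_normal_left.1 hy
      obtain ⟨i, rfl⟩ := Subgroup.mem_zpowers_iff.1 hw
      refine ⟨i, ?_⟩
      rw [map_mul, map_zpow, hlz, (QuotientGroup.eq_one_iff k).2 hk |> (fun h => (h :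
        QuotientGroup.mk' K k = 1)), one_mul]
    have hcen : ∀ y ∈ L, ∀ g : P, ⁅y, g⁆ ∈ K := by
      intro y hy g
      obtain ⟨i, hi⟩ := hLy y hy
      have h2 : QuotientGroup.mk' K ⁅y, g⁆ = ⁅QuotientGroup.mk' K y, QuotientGroup.mk' K g⁆ :=
        map_commutatorElement _ _ _
      have h3 : z ^ i ∈ Subgroup.center (P ⧸ K) := Subgroup.zpow_mem _ hzc i
      have h4 : ⁅QuotientGroup.mk' K y, QuotientGroup.mk' K g⁆ = 1 := by
        rw [hi]
        exact commutatorElement_eq_one_iff_mul_comm.2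
          ((Subgroup.mem_center_iff.1 h3 (QuotientGroup.mk' K g)).symm)
      exact (QuotientGroup.eq_one_iff _).1 (h2.trans h4)
    have hLn : L.Normal := by
      constructor
      intro y hy g
      have h1 : g * y * g⁻¹ = ⁅y, g⁆⁻¹ * y := by rw [commutatorElement_def]; group
      rw [h1]
      exact L.mul_mem (L.inv_mem (le_sup_left (a := K) (hcen y hy g))) hy
    have hLC : L ≤ C := sup_le hKC (by rw [Subgroup.zpowers_le]; exact hlC)
    have hKL : K ≤ L := le_sup_left
    have hnF : L ∉ F := by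
      intro hLF
      have := hKmax hLF hKL
      exact hlK (this (Subgroup.mem_sup_right (Subgroup.mem_zpowers l)))
    have : ∃ y ∈ L, y ^ qq p = 1 ∧ y ∉ A := by
      by_contra hcon
      push Not at hcon
      exact hnF ⟨hLn, hAK.trans hKL, hLC, fun y hy h => hcon y hy h⟩
    obtain ⟨y, hy, hyq, hyA⟩ := this
    refine ⟨y, hLC hy, fun h => hyA (hKs y h hyq), hyq, hcen y hy, ?_⟩
    obtain ⟨i, hi⟩ := hLy y hy
    have h5 : QuotientGroup.mk' K (y ^ p) = 1 := by
      rw [map_pow, hi, ← zpow_natCast, ← zpow_mul, mul_comm, zpow_mul, zpow_natCast, ← hzo,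
        pow_orderOf_eq_one, one_zpow]
    exact (QuotientGroup.eq_one_iff _).1 h5
  -- the key computation
  have hcomA : ∀ u ∈ C, ∀ a ∈ A, Commute a u := by
    intro u hu a ha
    exact Subgroup.mem_centralizer_iff.1 hu a ha
  have key : ∀ u ∈ C, ∀ v ∈ C, u ^ qq p = 1 → v ^ qq p = 1 → u ^ p ∈ K → ⁅u, v⁆ ∈ A →
      (u * v⁻¹) ^ qq p = 1 := by
    intro u hu v hv huq hvq hup huv
    have hupA : u ^ p ∈ A := hKs _ hup (by rw [← pow_mul, mul_comm, pow_mul, huq, one_pow])
    exact pow_eq_one hp.out (hcomA u hu _ huv) (hcomA v hv _ huv) (hcomA v hv _ hupA) huq hvq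
  have hnil : Group.IsNilpotent P := hP.isNilpotent
  -- claim 1
  have claim1 : ∀ n : ℕ, ∀ k ∈ K, k ∈ Subgroup.upperCentralSeries P n → ⁅y, k⁆ ∈ A := by
    intro n
    induction n with
    | zero =>
      intro k hk hkn
      rw [Subgroup.upperCentralSeries_zero, Subgroup.mem_bot] at hkn
      rw [hkn]; simp
    | succ n ih =>
      intro k hk hkn
      have hm1 : ⁅y, k⁆ ∈ K := hyc k
      have hm2 : ⁅y, k⁆ ∈ Subgroup.upperCentralSeries P n := by
        have := (Subgroup.mem_upperCentralSeries_succ_iff.1 hkn) y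
        rw [← commutatorElement_inv]
        exact Subgroup.inv_mem _ this
      have h1 := ih _ hm1 hm2
      -- `v = k y k⁻¹`
      set v := k * y * k⁻¹ with hv
      have hm : ⁅y, k⁆ = y * v⁻¹ := by rw [commutatorElement_def, hv]; group
      have hvC : v ∈ C := hCn.conj_mem y hyC k
      have hvq : v ^ qq p = 1 := by
        rw [hv, conj_pow, hyq]; group
      have hyv : ⁅y, v⁆ ∈ A := by
        have h2 : v = ⁅y, k⁆⁻¹ * y := by rw [hm]; group
        rw [h2, comm_aux]
        have := hAn.conj_mem _ (A.inv_mem h1) ⁅y, k⁆⁻¹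
        rwa [inv_inv] at this
      have := key y hyC v hvC hyq hvq hyp hyv
      rw [← hm] at this
      exact hKs _ hm1 this
  have claim1' : ∀ k ∈ K, ⁅y, k⁆ ∈ A := by
    intro k hk
    obtain ⟨n, hn⟩ := Group.IsNilpotent.nilpotent P
    exact claim1 n k hk (by rw [hn]; trivial)
  -- conjugates of `y` are congruent to `y` modulo `A`
  have claim2 : ∀ g : P, ⁅y, g⁆ ∈ A := by
    intro g
    set v := g * y * g⁻¹ with hv
    have hm : ⁅y, g⁆ = y * v⁻¹ := by rw [commutatorElement_def, hv]; group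
    have hvC : v ∈ C := hCn.conj_mem y hyC g
    have hvq : v ^ qq p = 1 := by rw [hv, conj_pow, hyq]; group
    have h1 := claim1' _ (hyc g)
    have hyv : ⁅y, v⁆ ∈ A := by
      have h2 : v = ⁅y, g⁆⁻¹ * y := by rw [hm]; group
      rw [h2, comm_aux]
      have := hAn.conj_mem _ (A.inv_mem h1) ⁅y, g⁆⁻¹
      rwa [inv_inv] at this
    have := key y hyC v hvC hyq hvq hyp hyv
    rw [← hm] at this
    exact hKs _ (hyc g) this
  -- `B = A ⟨y⟩`
  have hyA : y ∈ A := by
    set B := A ⊔ Subgroup.zpowers y with hB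
    have hcz : ∀ a ∈ A, Commute a y := hcomA y hyC
    have hBel : ∀ b ∈ B, ∃ a ∈ A, ∃ i : ℤ, b = a * y ^ i := by
      intro b hb
      obtain ⟨a, ha, w, hw, rfl⟩ := Subgroup.mem_sup_of_normal_left.1 hb
      obtain ⟨i, rfl⟩ := Subgroup.mem_zpowers_iff.1 hw
      exact ⟨a, ha, i, rfl⟩
    have hBn : B.Normal := by
      constructor
      intro b hb g
      obtain ⟨a, ha, i, rfl⟩ := hBel b hb
      have h1 : g * y * g⁻¹ = ⁅y, g⁆⁻¹ * y := by rw [commutatorElement_def]; group
      have h2 : g * y * g⁻¹ ∈ B := by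
        rw [h1]
        exact B.mul_mem (B.inv_mem (Subgroup.mem_sup_left (claim2 g)))
          (Subgroup.mem_sup_right (Subgroup.mem_zpowers y))
      have h3 : g * (a * y ^ i) * g⁻¹ = (g * a * g⁻¹) * (g * y * g⁻¹) ^ i := by
        rw [conj_zpow]; group
      rw [h3]
      exact B.mul_mem (Subgroup.mem_sup_left (hAn.conj_mem a ha g)) (B.zpow_mem h2 i)
    have hBg : Good p B := by
      refine ⟨hBn, ?_, ?_⟩
      · intro b hb c hc
        obtain ⟨a, ha, i, rfl⟩ := hBel b hb
        obtain ⟨a', ha', j, rfl⟩ := hBel c hc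
        have h1 : Commute a a' := hAab a ha a' ha'
        have h2 : Commute a (y ^ j) := (hcz a ha).zpow_right j
        have h3 : Commute (y ^ i) a' := ((hcz a' ha').symm).zpow_left i
        have h4 : Commute (y ^ i) (y ^ j) := (Commute.refl y).zpow_zpow i j
        exact ((h1.mul_right h2).mul_left (h3.mul_right h4)).eq
      · intro b hb
        obtain ⟨a, ha, i, rfl⟩ := hBel b hb
        rw [((hcz a ha).zpow_right i).mul_pow, hAq a ha, one_mul, ← zpow_natCast, ← zpow_mul,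
          mul_comm, zpow_mul, zpow_natCast, hyq, one_zpow]
    have hBA := hmax B hBg le_sup_left
    rw [← hBA]
    exact Subgroup.mem_sup_right (Subgroup.mem_zpowers y)
  exact hyK (hAK hyA)

end Cfsg.Agent.H29.AlperinSmall
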